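import Cfsg.Agent.Lib.Lie.BoundedPres.SU.Glue
import Cfsg.Agent.Lib.Lie.BoundedPres.Alt.Pres

/-!
# The even permutations preserving the first four points
-/

set_option autoImplicit false

namespace CfsgLib.Lie.BoundedPres.SUGraph

open Equiv CfsgLib.Lie.BoundedPres

variable {n : ℕ}

/-- two permutations generate all -/
theorem exists_perm_gens (α : Type) [Fintype α] [DecidableEq α] :
    ∃ a b : Perm α, Subgroup.closure ({a, b} : Set (Perm α)) = ⊤ := by
  obtain ⟨-, rels, -, ⟨e⟩⟩ := altSym_two (Fintype.card α)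
  let e' : PresentedGroup (↑rels : Set (FreeGroup (Fin 2))) ≃* Perm α :=
    e.trans (Fintype.equivFin α).symm.permCongrHom
  refine ⟨e' (PresentedGroup.of 0), e' (PresentedGroup.of 1), ?_⟩
  have h : Subgroup.closure (Set.range (PresentedGroup.of (rels := (↑rels : Set (FreeGroup (Fin 2)))))) = ⊤ :=
    PresentedGroup.closure_range_of _
  have h' := congrArg (Subgroup.map e'.toMonoidHom) h
  rw [MonoidHom.map_closure, Subgroup.map_top_of_surjective _ e'.surjective] at h'
  refine eq_top_iff.2 (h' ▸ (Subgroup.closure_le _).2 ?_)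
  rintro _ ⟨_, ⟨i, rfl⟩, rfl⟩
  fin_cases i
  exacts [Subgroup.subset_closure (Or.inl rfl), Subgroup.subset_closure (Or.inr rfl)]

/-- the even permutations preserving the first four points: those of the first four, and two more -/
theorem exists_stab_four (hn : 4 ≤ n) :
    ∃ u v : alternatingGroup (Fin n),
      (∀ i : Fin n, i.val < 4 → (u.1 i).val < 4) ∧ (∀ i : Fin n, i.val < 4 → (v.1 i).val < 4) ∧
      ∀ σ : alternatingGroup (Fin n), (∀ i : Fin n, i.val < 4 → (σ.1 i).val < 4) →
        σ ∈ Subgroup.closure ((alt4 hn).range ∪ {u, v} : Set (alternatingGroup (Fin n))) := by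
  classical
  let S := {i : Fin n // 4 ≤ i.val}
  obtain ⟨a, b, hab⟩ := exists_perm_gens S
  let p : Fin 4 → Fin n := four hn
  have hp : p 0 ≠ p 1 := (four_inj hn).ne (by decide)
  let w : ℤˣ → Perm (Fin n) := fun e => if e = 1 then 1 else swap (p 0) (p 1)
  have hw : ∀ e f, w (e * f) = w e * w f := by
    intro e f
    rcases Int.units_eq_one_or e with rfl | rfl <;> rcases Int.units_eq_one_or f with rfl | rfl <;>
      simp [w, Equiv.swap_mul_self]
  have hc : ∀ (f : Perm S) (e : ℤˣ), Commute (Perm.ofSubtype f) (w e) := by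
    intro f e
    rcases Int.units_eq_one_or e with rfl | rfl
    · simp [w]
    refine Perm.Disjoint.commute fun i => ?_
    by_cases hi : 4 ≤ i.val
    · refine Or.inr ?_
      have h0 : i ≠ p 0 := fun e => by rw [e] at hi; simp [p, four] at hi
      have h1 : i ≠ p 1 := fun e => by rw [e] at hi; simp [p, four] at hi
      simp [w, swap_apply_of_ne_of_ne h0 h1]
    · exact Or.inl (Perm.ofSubtype_apply_of_not_mem f hi)
  let E : Perm S →* alternatingGroup (Fin n) :=
    MonoidHom.codRestrict
      (MonoidHom.mk' (fun f => Perm.ofSubtype f * w (Perm.sign f)) fun f g => by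
        rw [map_mul, map_mul, hw]
        calc Perm.ofSubtype f * Perm.ofSubtype g * (w (Perm.sign f) * w (Perm.sign g))
            = Perm.ofSubtype f * (Perm.ofSubtype g * w (Perm.sign f)) * w (Perm.sign g) := by group
          _ = Perm.ofSubtype f * (w (Perm.sign f) * Perm.ofSubtype g) * w (Perm.sign g) := by rw [(hc g _).eq]
          _ = _ := by group) _ fun f => by
      show Perm.ofSubtype f * w (Perm.sign f) ∈ alternatingGroup (Fin n)
      rw [Perm.mem_alternatingGroup, map_mul, Perm.sign_ofSubtype]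
      rcases Int.units_eq_one_or (Perm.sign f) with e | e <;> simp [w, e, Perm.sign_swap hp]
  have hE : ∀ (f : Perm S) (i : Fin n), i.val < 4 → ((E f).1 i).val < 4 := by
    intro f i hi
    show ((Perm.ofSubtype f * w (Perm.sign f)) i).val < 4
    have hwi : ((w (Perm.sign f)) i).val < 4 := by
      rcases Int.units_eq_one_or (Perm.sign f) with e | e
      · simp [w, e, hi]
      · simp only [w, e]
        rw [if_neg (by decide), Equiv.swap_apply_def]
        split_ifs <;> simp [p, four, hi]
    rw [Perm.mul_apply, Perm.ofSubtype_apply_of_not_mem f (not_le.2 hwi)]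
    exact hwi
  refine ⟨E a, E b, hE a, hE b, fun σ hσ => ?_⟩
  set M := Subgroup.closure ((alt4 hn).range ∪ {E a, E b} : Set (alternatingGroup (Fin n)))
  have hEM : ∀ f, E f ∈ M := by
    intro f
    have hle : (⊤ : Subgroup (Perm S)) ≤ M.comap E := by
      rw [← hab, Subgroup.closure_le]
      rintro x (rfl | rfl)
      exacts [Subgroup.subset_closure (Or.inr (Or.inl rfl)), Subgroup.subset_closure (Or.inr (Or.inr rfl))]
    exact hle (Subgroup.mem_top f)
  -- the other points are preserved as well
  have hsurj : ∀ i : Fin n, 4 ≤ (σ.1 i).val ↔ 4 ≤ i.val := by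
    intro i
    constructor
    · intro h; by_contra h'; exact absurd (hσ i (by omega)) (by omega)
    · intro h
      by_contra h'
      let g : Fin 4 → Fin 4 := fun j => ⟨(σ.1 (p j)).val, hσ _ j.isLt⟩
      have hg : Function.Injective g := fun j k e =>
        four_inj hn (σ.1.injective (Fin.ext (congrArg (fun z : Fin 4 => z.val) e)))
      obtain ⟨j, hj⟩ := (Finite.injective_iff_surjective.1 hg) ⟨(σ.1 i).val, by omega⟩
      have := σ.1.injective (Fin.ext (congrArg (fun z : Fin 4 => z.val) hj) : σ.1 (p j) = σ.1 i)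
      rw [← this] at h
      simp [p, four] at h
      omega
  set f : Perm S := σ.1.subtypePerm hsurj with hf
  set μ := σ * (E f)⁻¹ with hμ
  have hfix : ∀ i : Fin n, 4 ≤ i.val → μ.1 i = i := by
    intro i hi
    obtain ⟨j, hj⟩ : ∃ j : S, f j = ⟨i, hi⟩ := f.surjective _
    have hj' : σ.1 j.1 = i := congrArg Subtype.val hj
    have : (E f).1 j.1 = i := by
      show (Perm.ofSubtype f * w (Perm.sign f)) j.1 = i
      rw [(hc f _).eq, Perm.mul_apply, Perm.ofSubtype_apply_coe, hj]
      rcases Int.units_eq_one_or (Perm.sign f) with e | e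
      · simp [w, e]
      · have h0 : i ≠ p 0 := fun e => by rw [e] at hi; simp [p, four] at hi
        have h1 : i ≠ p 1 := fun e => by rw [e] at hi; simp [p, four] at hi
        simp [w, e, swap_apply_of_ne_of_ne h0 h1]
    show σ.1 (((E f).1)⁻¹ i) = i
    rw [show ((E f).1)⁻¹ i = j.1 from (Equiv.symm_apply_eq _).2 this.symm]
    exact hj'
  have hlt : ∀ i : Fin 4, ((μ.1 (p i))).val < 4 := by
    intro i
    by_contra h
    have := μ.1.injective (hfix _ (not_lt.1 h))
    exact h (by rw [this]; exact i.isLt)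
  let τ0 : Perm (Fin 4) := Equiv.ofBijective (fun i => ⟨(μ.1 (p i)).val, hlt i⟩)
    (Finite.injective_iff_bijective.1 fun j k e =>
      four_inj hn (μ.1.injective (Fin.ext (congrArg (fun z : Fin 4 => z.val) e))))
  have hvia : Perm.viaEmbedding τ0 ⟨four hn, four_inj hn⟩ = μ.1 := by
    refine viaEmb_ext _ _ _ (fun j => ?_) fun i hi => ?_
    · exact Fin.ext rfl
    · refine hfix i (not_lt.1 fun h => hi ⟨i.val, h⟩ ?_)
      exact Fin.ext rfl
  have hsign : Perm.sign τ0 = 1 := by
    rw [← sign_viaEmb ⟨four hn, four_inj hn⟩, hvia]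
    exact μ.2
  have hmem : μ ∈ M := Subgroup.subset_closure (Or.inl ⟨⟨τ0, hsign⟩, Subtype.ext hvia⟩)
  rw [show σ = μ * E f by rw [hμ]; group]
  exact mul_mem hmem (hEM f)

end CfsgLib.Lie.BoundedPres.SUGraph
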