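import Cfsg.Agent.Lib.Lie.BoundedPres.SU.TwoAux
import Cfsg.Agent.Lib.Lie.BoundedPres.SU.TwoStab
import Cfsg.Agent.Lib.Lie.BoundedPres.SU4.Main

/-!
# Systems of relations for `SU_n`, `n ≥ 5`, two fixed scalars

Six generators; besides the relations of the alternating group and of `SU₄`, nine linking relations for five
coordinates and three more from six coordinates on.
-/

set_option autoImplicit false
set_option maxHeartbeats 1000000

namespace CfsgLib.Lie.BoundedPres.SUGraph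

open Matrix Equiv CfsgLib.SU CfsgLib.Lie.BoundedPres CfsgLib.Lie.BoundedPres.SUBase

variable {F : Type} [Field F] [Fintype F] {q n : ℕ}

/-- the first four points as a subgroup -/
theorem conj_mem_four (C : UCtx F q) {σ : alternatingGroup (Fin n)}
    (hσ : ∀ i : Fin n, i.val < 4 → (σ.1 i).val < 4) {X : ↥(Cfsg.SU n F q)} (hX : X ∈ fixFrom 4) :
    pA C σ * X * (pA C σ)⁻¹ ∈ fixFrom 4 := by
  intro i hi
  have hi' : 4 ≤ ((σ⁻¹).1 i).val := by
    by_contra h
    have := hσ _ (not_le.1 h)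
    rw [show σ.1 ((σ⁻¹).1 i) = i from Equiv.apply_symm_apply _ _] at this
    omega
  rw [suMat_mulVec_mul, suMat_mulVec_mul, ← map_inv, pA_sv, hX _ hi', pA_sv,
    show σ.1 ((σ⁻¹).1 i) = i from Equiv.apply_symm_apply _ _]

/-- the system over two fixed scalars -/
theorem sys_two (C : UCtx F q) (hF : Fintype.card F = q ^ 2) [CharP F 2] (hn5 : 5 ≤ n)
    (hfix : ∀ s : F, C.bar s = s → s = 0 ∨ s = 1) {r : ℕ} (hA : HasSysJ (alternatingGroup (Fin n)) 2 r 0) :
    HasSysJ ↥(Cfsg.SU n F q) 6 (r + 19 + 9 + if 5 < n then 3 else 0) 0 := by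
  classical
  have hn : 4 ≤ n := by omega
  obtain ⟨ι4, hι, hιr, hιe⟩ := exists_coord_emb (n := n) C hn
  obtain ⟨u, v, hu, hv, huv⟩ := exists_stab_four (n := n) hn
  obtain ⟨sa, sb, hsab⟩ := su_four_two_gens (F := F) (q := q) hF
  obtain ⟨d3, x3, y3, hd3, hx3, hy3, hlow⟩ := exists_four_low_gens (C := C) hfix
  obtain ⟨ω, hω0, hω⟩ := SixClosed.exists_omega hfix
  let c : alternatingGroup (Fin 4) := cyc3 0 1 2 (by decide) (by decide)
  let d : alternatingGroup (Fin 4) := dsw 0 1 2 3 (by decide) (by decide)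
  have hcd : Subgroup.closure ({c, d} : Set (alternatingGroup (Fin 4))) = ⊤ := by
    rw [eq_top_iff]
    intro σ _
    have key : ∀ σ : Perm (Fin 4), Perm.sign σ = 1 → ∃ (i : Fin 3) (j : Fin 2) (k : Fin 3),
        σ = c.1 ^ i.val * d.1 ^ j.val * c.1 ^ k.val := by decide
    obtain ⟨i, j, k, e⟩ := key σ.1 σ.2
    rw [show σ = c ^ i.val * d ^ j.val * c ^ k.val from Subtype.ext e]
    have hc : c ∈ Subgroup.closure ({c, d} : Set (alternatingGroup (Fin 4))) := Subgroup.subset_closure (Or.inl rfl)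
    have hd : d ∈ Subgroup.closure ({c, d} : Set (alternatingGroup (Fin 4))) := Subgroup.subset_closure (Or.inr rfl)
    exact mul_mem (mul_mem (pow_mem hc _) (pow_mem hd _)) (pow_mem hc _)
  let r4 : alternatingGroup (Fin n) := topCyc (k := 4) (show 4 < n by omega) le_rfl
  obtain ⟨t1, t2, t3, t4⟩ := cyc3_apply (a := (⟨4, by omega⟩ : Fin n)) (b := ⟨4 - 1, by omega⟩)
    (c := ⟨4 - 2, by omega⟩) (by simp [Fin.ext_iff]) (by simp [Fin.ext_iff]) (by simp [Fin.ext_iff])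
  -- the images in the model
  have hstab : ∀ σ : alternatingGroup (Fin n), (∀ i : Fin n, i.val < 4 → (σ.1 i).val < 4) →
      ∀ A, pA C σ * ι4 A * (pA C σ)⁻¹ ∈ ι4.range := fun σ hσ A => by
    rw [hιr]; exact conj_mem_four C hσ (hιr ▸ ⟨A, rfl⟩)
  have hloc : ∀ A, ι4 A ∈ fixFrom 3 → (pA C r4)⁻¹ * ι4 A * pA C r4 ∈ ι4.range := by
    intro A hA'
    rw [hιr]
    intro i hi
    have hi' : 3 ≤ (r4.1 i).val := by
      rcases Nat.lt_or_ge i.val 5 with h | h
      · rw [show i = ⟨4, by omega⟩ from Fin.ext (show i.val = 4 by omega)]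
        show 3 ≤ (r4.1 ⟨4, by omega⟩).val
        rw [show r4.1 ⟨4, by omega⟩ = _ from t1]
      · rw [show r4.1 i = i from t4 i (by simp [Fin.ext_iff]; omega) (by simp [Fin.ext_iff]; omega)
          (by simp [Fin.ext_iff]; omega)]
        omega
    rw [suMat_mulVec_mul, suMat_mulVec_mul, pA_sv, hA' _ hi', ← map_inv, pA_sv,
      show (r4⁻¹).1 (r4.1 i) = i from Equiv.symm_apply_apply _ _]
  have hm : GlueTwo C hn5 (MonoidHom.id _) ι4 (pA C) ι4 :=
    ⟨hfix, hι, hιr, fun _ => rfl, fun _ => rfl, fun τ => (emb_pA hιr hιe τ).symm, hstab, hloc⟩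
  -- five coordinates in the model
  obtain ⟨h5ok, h5eq⟩ := hm.five
  have hM5 : Subgroup.closure ((ι4.range : Set ↥(Cfsg.SU n F q)) ∪ {pA C r4}) = fixFrom 5 := by
    have h := h5ok.2
    rw [Subgroup.map_id, h5eq] at h
    exact h
  have hmsix : ∀ h : 5 < n, SixLinks (MonoidHom.id ↥(Cfsg.SU n F q))
      (Subgroup.closure ((ι4.range : Set ↥(Cfsg.SU n F q)) ∪ {pA C r4})) (pA C (topCyc (k := 5) h (by norm_num))) :=
    fun h => by rw [hM5]; exact six_model h hfix
  have low4 : ∀ A, A ∈ fixFrom (F := F) (q := q) (n := 4) 3 → ι4 A ∈ fixFrom 3 := by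
    intro A hA' i hi
    rcases Nat.lt_or_ge i.val 4 with h | h
    · rw [show i = Fin.castLE hn (⟨i.val, h⟩ : Fin 4) from Fin.ext rfl, ← pad_sv hn, pad_emb hιe,
        hA' ⟨i.val, h⟩ hi]
    · exact (hιr ▸ ⟨A, rfl⟩ : ι4 A ∈ fixFrom 4) i h
  choose Ju hJu using hstab u hu
  choose Jv hJv using hstab v hv
  choose Jr hJr using hloc
  -- the systems of the two parts
  obtain ⟨ιA, iA, gA, RA, VA, JA, hkA, hrA, hvalA, hcovA, hhomA, hJA, hVA⟩ := hA
  obtain ⟨ιS, iS, gS, RS, VS, JS, hkS, hrS, hvalS, hcovS, hhomS, hJS, hVS⟩ :=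
    SUFour.sys_su_four_two (F := F) (q := q) hF
  choose wA hwAV hwA using hcovA
  choose wS hwSV hwS using hcovS
  let incA : FreeGroup ιA →* FreeGroup (ιA ⊕ ιS) := FreeGroup.map Sum.inl
  let incS : FreeGroup ιS →* FreeGroup (ιA ⊕ ιS) := FreeGroup.map Sum.inr
  let eA : alternatingGroup (Fin n) → FreeGroup (ιA ⊕ ιS) := fun σ => incA (wA σ)
  let eS : ↥(Cfsg.SU 4 F q) → FreeGroup (ιA ⊕ ιS) := fun A => incS (wS A)
  let g : ιA ⊕ ιS → ↥(Cfsg.SU n F q) := Sum.elim (fun x => pA C (gA x)) fun x => ι4 (gS x)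
  let V : Subgroup (FreeGroup (ιA ⊕ ιS)) := VA.map incA ⊔ VS.map incS
  have hgA : ∀ σ, FreeGroup.lift g (eA σ) = pA C σ := fun σ => by
    simp only [eA, incA]
    rw [lift_map]
    exact (lift_comp_hom (pA C) gA (wA σ)).trans (by rw [hwA])
  have hgS : ∀ A, FreeGroup.lift g (eS A) = ι4 A := fun A => by
    simp only [eS, incS]
    rw [lift_map]
    exact (lift_comp_hom ι4 gS (wS A)).trans (by rw [hwS])
  let W5 : Subgroup (FreeGroup (ιA ⊕ ιS)) := Subgroup.closure (Set.range eS ∪ {eA r4})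
  have hW5 : ∀ X ∈ Subgroup.closure ((ι4.range : Set ↥(Cfsg.SU n F q)) ∪ {pA C r4}),
      ∃ w ∈ W5, FreeGroup.lift g w = X := by
    intro X hX
    have hle : Subgroup.closure ((ι4.range : Set ↥(Cfsg.SU n F q)) ∪ {pA C r4}) ≤ W5.map (FreeGroup.lift g) := by
      refine (Subgroup.closure_le _).2 ?_
      rintro x (⟨A, rfl⟩ | hx)
      · exact ⟨eS A, Subgroup.subset_closure (Or.inl ⟨A, rfl⟩), hgS A⟩
      · rw [Set.mem_singleton_iff] at hx
        exact ⟨eA r4, Subgroup.subset_closure (Or.inr rfl), (hgA _).trans hx.symm⟩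
    exact hle hX
  have hsix : ∀ (h : 5 < n) (P : {P : F // P ≠ 0}), ∃ a1 ∈ W5, ∃ a2 ∈ W5, ∃ b1 ∈ W5, ∃ b2 ∈ W5, ∃ z ∈ W5,
      let R := eA (topCyc (k := 5) h (by norm_num))
      let p : Fin n → F := pad (sv (5 : Fin 6))
      let x : Fin n → F := pad (xSix (F := F))
      (FreeGroup.lift g (a1 * R)).1.1 *ᵥ p = pad (sv (2 : Fin 6)) ∧
      (FreeGroup.lift g (a1 * R * a2 * R)).1.1 *ᵥ p = x ∧
      (FreeGroup.lift g (b1 * R)).1.1 *ᵥ p = pad (repSix P.1) ∧
      (FreeGroup.lift g (b1 * R * b2 * R)).1.1 *ᵥ p = x ∧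
      FreeGroup.lift g ((a1 * R * a2 * R)⁻¹ * (b1 * R * b2 * R) * z⁻¹) = 1 := by
    intro h P
    obtain ⟨h1, m1, h2, m2, g1, m3, g2, m4, e1, e2, e3, e4, e5⟩ := hmsix h P.1 P.2
    obtain ⟨a1, ha1, rfl⟩ := hW5 _ m1
    obtain ⟨a2, ha2, rfl⟩ := hW5 _ m2
    obtain ⟨b1, hb1, rfl⟩ := hW5 _ m3
    obtain ⟨b2, hb2, rfl⟩ := hW5 _ m4
    obtain ⟨z, hz, ez⟩ := hW5 _ e5
    refine ⟨a1, ha1, a2, ha2, b1, hb1, b2, hb2, z, hz, ?_⟩
    simp only [map_mul, map_inv, hgA, MonoidHom.id_apply] at e1 e2 e3 e4 ez ⊢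
    exact ⟨e1, e2, e3, e4, mul_inv_eq_one.2 ez.symm⟩
  choose a1 ha1 a2 ha2 b1 hb1 b2 hb2 z hz k1 k2 k3 k4 k5 using hsix
  let rel6 : ∀ (h : 5 < n), {P : F // P ≠ 0} → FreeGroup (ιA ⊕ ιS) := fun h P =>
    (a1 h P * eA (topCyc (k := 5) h (by norm_num)) * a2 h P * eA (topCyc (k := 5) h (by norm_num)))⁻¹ *
      (b1 h P * eA (topCyc (k := 5) h (by norm_num)) * b2 h P * eA (topCyc (k := 5) h (by norm_num))) *
      (z h P)⁻¹
  let links6 : List (FreeGroup (ιA ⊕ ιS)) :=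
    if h : 5 < n then [rel6 h ⟨1, one_ne_zero⟩, rel6 h ⟨ω, hω0⟩, rel6 h ⟨ω * ω, mul_ne_zero hω0 hω0⟩] else []
  let locW : (A : ↥(Cfsg.SU 4 F q)) → A ∈ fixFrom 3 → FreeGroup (ιA ⊕ ιS) := fun A hA' =>
    (eA r4)⁻¹ * eS A * eA r4 * (eS (Jr A (low4 A hA')))⁻¹
  let links : List (FreeGroup (ιA ⊕ ιS)) :=
    [eA (alt4 hn c) * (eS (pA C c))⁻¹, eA (alt4 hn d) * (eS (pA C d))⁻¹,
     eA u * eS sa * (eA u)⁻¹ * (eS (Ju sa))⁻¹, eA u * eS sb * (eA u)⁻¹ * (eS (Ju sb))⁻¹,
     eA v * eS sa * (eA v)⁻¹ * (eS (Jv sa))⁻¹, eA v * eS sb * (eA v)⁻¹ * (eS (Jv sb))⁻¹,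
     locW d3 hd3, locW x3 hx3, locW y3 hy3]
  have hcov : ∀ s : ↥(Cfsg.SU n F q), ∃ w ∈ V, FreeGroup.lift g w = s := by
    intro s
    have h := (hm.fam_ok hmsix).2
    rw [Subgroup.map_id, fixFrom_top] at h
    have hle : famJ (quadFam (show 4 ≤ n by omega) (pA C) ι4) n ≤ V.map (FreeGroup.lift g) := by
      refine (Subgroup.closure_le _).2 ?_
      rintro x ⟨T, -, hx⟩
      have h2 : quadFam (show 4 ≤ n by omega) (pA C) ι4 T ≤ V.map (FreeGroup.lift g) := by
        refine (Subgroup.closure_le _).2 ?_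
        rintro y ⟨σ, A, -, rfl⟩
        have hσ : pA C σ ∈ V.map (FreeGroup.lift g) :=
          ⟨eA σ, Subgroup.mem_sup_left ⟨_, hwAV σ, rfl⟩, hgA σ⟩
        exact mul_mem (mul_mem hσ ⟨eS A, Subgroup.mem_sup_right ⟨_, hwSV A, rfl⟩, hgS A⟩) (inv_mem hσ)
      exact h2 hx
    exact hle (h ▸ Subgroup.mem_top s)
  refine ⟨ιA ⊕ ιS, inferInstance, g, RA.map incA ++ RS.map incS ++ (links ++ links6), V,
    JA.map ⟨Sum.inl, Sum.inl_injective⟩ ∪ JS.map ⟨Sum.inr, Sum.inr_injective⟩,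
    by simp [hkA, hkS], ?_, ?_, hcov, ?_, ?_, ?_⟩
  · simp only [List.length_append, List.length_map, links, links6]
    split_ifs <;> simp <;> omega
  · intro w hw
    simp only [List.mem_append, List.mem_map] at hw
    rcases hw with (⟨e, he, rfl⟩ | ⟨e, he, rfl⟩) | (hw | hw)
    · simp only [incA]; rw [lift_map]
      exact (lift_comp_hom (pA C) gA e).trans (by rw [hvalA e he, map_one])
    · simp only [incS]; rw [lift_map]
      exact (lift_comp_hom ι4 gS e).trans (by rw [hvalS e he, map_one])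
    · simp only [links, List.mem_cons, List.not_mem_nil, or_false] at hw
      rcases hw with rfl | rfl | rfl | rfl | rfl | rfl | rfl | rfl | rfl <;>
        simp only [locW, map_mul, map_inv, hgA, hgS]
      · rw [emb_pA hιr hιe, mul_inv_cancel]
      · rw [emb_pA hιr hιe, mul_inv_cancel]
      · exact mul_inv_eq_one.2 (hJu sa).symm
      · exact mul_inv_eq_one.2 (hJu sb).symm
      · exact mul_inv_eq_one.2 (hJv sa).symm
      · exact mul_inv_eq_one.2 (hJv sb).symm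
      · exact mul_inv_eq_one.2 (hJr d3 _).symm
      · exact mul_inv_eq_one.2 (hJr x3 _).symm
      · exact mul_inv_eq_one.2 (hJr y3 _).symm
    · simp only [links6] at hw
      split_ifs at hw with h
      · simp only [List.mem_cons, List.not_mem_nil, or_false] at hw
        rcases hw with rfl | rfl | rfl <;> exact k5 h _
      · simp at hw
  · intro G _ g' hg'
    have hRA : ∀ w ∈ RA, FreeGroup.lift (fun x => g' (Sum.inl x)) w = 1 := fun w hw => by
      have h := hg' (incA w) (List.mem_append_left _ (List.mem_append_left _ (List.mem_map_of_mem hw)))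
      simp only [incA] at h
      rwa [lift_map] at h
    have hRS : ∀ w ∈ RS, FreeGroup.lift (fun x => g' (Sum.inr x)) w = 1 := fun w hw => by
      have h := hg' (incS w) (List.mem_append_left _ (List.mem_append_right _ (List.mem_map_of_mem hw)))
      simp only [incS] at h
      rwa [lift_map] at h
    obtain ⟨ρ, hρ⟩ := hhomA G _ hRA
    obtain ⟨ψ, hψ⟩ := hhomS G _ hRS
    have hρe : ∀ σ, FreeGroup.lift g' (eA σ) = ρ σ := fun σ => by
      simp only [eA, incA]; rw [lift_map, ← hρ _ (hwAV σ), hwA]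
    have hψe : ∀ A, FreeGroup.lift g' (eS A) = ψ A := fun A => by
      simp only [eS, incS]; rw [lift_map, ← hψ _ (hwSV A), hwS]
    have rel := fun w (hw : w ∈ links) => hg' w (List.mem_append_right _ (List.mem_append_left _ hw))
    simp only [links, locW, List.forall_mem_cons, map_mul, map_inv, hρe, hψe] at rel
    obtain ⟨lc, ld, lua, lub, lva, lvb, lld, llx, lly, -⟩ := rel
    -- the subgroup of pairs
    let ρ2 := (pA C).prod ρ
    let ψ2 := ι4.prod ψ
    let H : Subgroup (↥(Cfsg.SU n F q) × G) := Subgroup.closure (Set.range ρ2 ∪ Set.range ψ2)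
    let ρ3 : alternatingGroup (Fin n) →* ↥H :=
      ρ2.codRestrict H fun σ => Subgroup.subset_closure (Or.inl ⟨σ, rfl⟩)
    let ψ3 : ↥(Cfsg.SU 4 F q) →* ↥H :=
      ψ2.codRestrict H fun A => Subgroup.subset_closure (Or.inr ⟨A, rfl⟩)
    have hagree : ∀ τ, ρ3 (alt4 hn τ) = ψ3 (pA C τ) := DFunLike.congr_fun
      (MonoidHom.eq_of_eqOn_dense (f := ρ3.comp (alt4 hn)) (g := ψ3.comp (pA C)) hcd fun x hx => by
        rcases hx with rfl | rfl
        exacts [Subtype.ext (Prod.ext (emb_pA hιr hιe _).symm (mul_inv_eq_one.1 lc)),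
          Subtype.ext (Prod.ext (emb_pA hιr hιe _).symm (mul_inv_eq_one.1 ld))])
    let N : Submonoid (alternatingGroup (Fin n)) :=
      { carrier := {σ | ∀ x ∈ ψ3.range, ρ3 σ * x * (ρ3 σ)⁻¹ ∈ ψ3.range}
        one_mem' := fun x hx => by simpa using hx
        mul_mem' := fun {a b} ha hb x hx => by
          rw [map_mul, show ρ3 a * ρ3 b * x * (ρ3 a * ρ3 b)⁻¹ = ρ3 a * (ρ3 b * x * (ρ3 b)⁻¹) * (ρ3 a)⁻¹ by group]
          exact ha _ (hb x hx) }
    have hNgen : ∀ {σ : alternatingGroup (Fin n)},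
        (∀ A, A = sa ∨ A = sb → ρ3 σ * ψ3 A * (ρ3 σ)⁻¹ ∈ ψ3.range) → σ ∈ N := by
      intro σ hσ
      have hle : (⊤ : Subgroup ↥(Cfsg.SU 4 F q)) ≤
          (ψ3.range.comap (MulAut.conj (ρ3 σ)).toMonoidHom).comap ψ3 := by
        rw [← hsab, Subgroup.closure_le]
        rintro A (rfl | rfl)
        exacts [hσ A (Or.inl rfl), hσ A (Or.inr rfl)]
      rintro x ⟨A, rfl⟩
      exact hle (Subgroup.mem_top A)
    have hNu : u ∈ N := hNgen (by
      rintro A (rfl | rfl)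
      exacts [⟨Ju A, Subtype.ext (Prod.ext (hJu A) (mul_inv_eq_one.1 lua).symm)⟩,
        ⟨Ju A, Subtype.ext (Prod.ext (hJu A) (mul_inv_eq_one.1 lub).symm)⟩])
    have hNv : v ∈ N := hNgen (by
      rintro A (rfl | rfl)
      exacts [⟨Jv A, Subtype.ext (Prod.ext (hJv A) (mul_inv_eq_one.1 lva).symm)⟩,
        ⟨Jv A, Subtype.ext (Prod.ext (hJv A) (mul_inv_eq_one.1 lvb).symm)⟩])
    have hstab3 : ∀ σ : alternatingGroup (Fin n), (∀ i : Fin n, i.val < 4 → (σ.1 i).val < 4) →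
        ∀ A, ρ3 σ * ψ3 A * (ρ3 σ)⁻¹ ∈ ψ3.range := by
      intro σ hσ A
      have hmem : σ ∈ N := by
        have h := huv σ hσ
        clear hσ
        induction h using Subgroup.closure_induction with
        | mem x hx =>
          rcases hx with ⟨τ, rfl⟩ | rfl | rfl
          · rintro y ⟨B, rfl⟩
            rw [hagree]
            exact ⟨pA C τ * B * (pA C τ)⁻¹, by simp⟩
          · exact hNu
          · exact hNv
        | one => exact one_mem N
        | mul x y _ _ hx hy => exact mul_mem hx hy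
        | inv x _ hx =>
          rw [inv_eq_of_mul_eq_one_left (show x ^ (orderOf x - 1) * x = 1 by
            rw [← pow_succ, Nat.sub_add_cancel (orderOf_pos x), pow_orderOf_eq_one])]
          exact pow_mem hx _
      exact hmem _ ⟨A, rfl⟩
    have hloc3 : ∀ A, ι4 A ∈ fixFrom 3 → (ρ3 r4)⁻¹ * ψ3 A * ρ3 r4 ∈ ψ3.range := by
      intro A hA'
      have hA4 : A ∈ fixFrom (F := F) (q := q) (n := 4) 3 := fun i hi => by
        have h := hA' (Fin.castLE hn i) hi
        rw [← pad_sv hn, pad_emb hιe] at h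
        funext j
        simpa [pad] using congrFun h (Fin.castLE hn j)
      let S : Subgroup ↥(Cfsg.SU 4 F q) := (ψ3.range.comap (MulAut.conj (ρ3 r4)⁻¹).toMonoidHom).comap ψ3
      have hle : Subgroup.closure ({pA C c, d3, x3, y3} : Set ↥(Cfsg.SU 4 F q)) ≤ S := by
        refine (Subgroup.closure_le _).2 ?_
        rintro B (rfl | rfl | rfl | rfl) <;>
          (show (ρ3 r4)⁻¹ * ψ3 _ * ((ρ3 r4)⁻¹)⁻¹ ∈ ψ3.range; rw [inv_inv])
        · rw [← hagree, ← map_inv, ← map_mul, ← map_mul]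
          refine ⟨pA C (cyc3 0 1 3 (by decide) (by decide)), ?_⟩
          rw [← hagree]
          congr 1
          rw [show r4⁻¹ * alt4 hn c * r4 = r4⁻¹ * alt4 hn c * (r4⁻¹)⁻¹ by group,
            alt4_cyc3 hn (by decide) (by decide) (by decide), alt4_cyc3 hn (by decide) (by decide) (by decide),
            cyc3_conj]
          congr 1
        · exact ⟨Jr _ (low4 _ hd3), Subtype.ext (Prod.ext (hJr _ (low4 _ hd3)) (mul_inv_eq_one.1 lld).symm)⟩
        · exact ⟨Jr _ (low4 _ hx3), Subtype.ext (Prod.ext (hJr _ (low4 _ hx3)) (mul_inv_eq_one.1 llx).symm)⟩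
        · exact ⟨Jr _ (low4 _ hy3), Subtype.ext (Prod.ext (hJr _ (low4 _ hy3)) (mul_inv_eq_one.1 lly).symm)⟩
      have h : (ρ3 r4)⁻¹ * ψ3 A * ((ρ3 r4)⁻¹)⁻¹ ∈ ψ3.range := hle (hlow hA4)
      rwa [inv_inv] at h
    have hG : GlueTwo C hn5 ((MonoidHom.fst _ _).comp H.subtype) ι4 ρ3 ψ3 :=
      ⟨hfix, hι, hιr, fun _ => rfl, fun _ => rfl, hagree, hstab3, fun A hA' => by
        simpa [r4] using hloc3 A hA'⟩
    have hgen : Subgroup.closure (Set.range ρ3 ∪ Set.range ψ3) = ⊤ := by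
      refine eq_top_iff.2 fun x _ => ?_
      have : Subgroup.closure (Set.range ρ3 ∪ Set.range ψ3) =
          Subgroup.closure (((↑) : ↥H → ↥(Cfsg.SU n F q) × G) ⁻¹' (Set.range ρ2 ∪ Set.range ψ2)) := by
        congr 1
        ext y
        simp only [Set.mem_union, Set.mem_range, Set.mem_preimage]
        exact or_congr ⟨fun ⟨s, hs⟩ => ⟨s, congrArg Subtype.val hs⟩, fun ⟨s, hs⟩ => ⟨s, Subtype.ext hs⟩⟩
          ⟨fun ⟨s, hs⟩ => ⟨s, congrArg Subtype.val hs⟩, fun ⟨s, hs⟩ => ⟨s, Subtype.ext hs⟩⟩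
      rw [this, Subgroup.closure_closure_coe_preimage]
      trivial
    -- the closed paths for the pairs
    let L2 := (FreeGroup.lift g).prod (FreeGroup.lift g')
    let H5 := Subgroup.closure ((ψ3.range : Set ↥H) ∪ {ρ3 r4})
    have hW5H : W5.map L2 ≤ H5.map H.subtype := by
      rw [Subgroup.map_le_iff_le_comap]
      refine (Subgroup.closure_le _).2 ?_
      rintro w (⟨A, rfl⟩ | hw)
      · exact ⟨ψ3 A, Subgroup.subset_closure (Or.inl ⟨A, rfl⟩), Prod.ext (hgS A).symm (hψe A).symm⟩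
      · rw [Set.mem_singleton_iff] at hw
        subst hw
        exact ⟨ρ3 r4, Subgroup.subset_closure (Or.inr rfl), Prod.ext (hgA r4).symm (hρe r4).symm⟩
    have hsix3 : ∀ h : 5 < n, SixLinks ((MonoidHom.fst _ _).comp H.subtype) H5
        (ρ3 (topCyc (k := 5) h (by norm_num))) := by
      intro h P hP
      set R := eA (topCyc (k := 5) h (by norm_num)) with hR
      set R3 := ρ3 (topCyc (k := 5) h (by norm_num)) with hR3
      have eR : (R3 : ↥(Cfsg.SU n F q) × G) = L2 R := Prod.ext (hgA _).symm (hρe _).symm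
      obtain ⟨A1, m1, f1⟩ := hW5H ⟨_, ha1 h ⟨P, hP⟩, rfl⟩
      obtain ⟨A2, m2, f2⟩ := hW5H ⟨_, ha2 h ⟨P, hP⟩, rfl⟩
      obtain ⟨B1, m3, f3⟩ := hW5H ⟨_, hb1 h ⟨P, hP⟩, rfl⟩
      obtain ⟨B2, m4, f4⟩ := hW5H ⟨_, hb2 h ⟨P, hP⟩, rfl⟩
      obtain ⟨Z, m5, f5⟩ := hW5H ⟨_, hz h ⟨P, hP⟩, rfl⟩
      simp only [Subgroup.coe_subtype] at f1 f2 f3 f4 f5
      have hrel : L2 (rel6 h ⟨P, hP⟩) = 1 := by
        refine Prod.ext (k5 h ⟨P, hP⟩) (hg' _ (List.mem_append_right _ (List.mem_append_right _ ?_)))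
        simp only [links6, dif_pos h, List.mem_cons, List.not_mem_nil, or_false]
        rcases units_three hfix hω0 hω hP with rfl | rfl | rfl <;> simp
      refine ⟨A1, m1, A2, m2, B1, m3, B2, m4, ?_, ?_, ?_, ?_, ?_⟩
      · show ((A1 * R3 : ↥H) : ↥(Cfsg.SU n F q) × G).1.1.1 *ᵥ _ = _
        rw [Subgroup.coe_mul, f1, eR, ← map_mul]
        exact k1 h ⟨P, hP⟩
      · show ((A1 * R3 * A2 * R3 : ↥H) : ↥(Cfsg.SU n F q) × G).1.1.1 *ᵥ _ = _
        rw [Subgroup.coe_mul, Subgroup.coe_mul, Subgroup.coe_mul, f1, f2, eR, ← map_mul, ← map_mul, ← map_mul]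
        exact k2 h ⟨P, hP⟩
      · show ((B1 * R3 : ↥H) : ↥(Cfsg.SU n F q) × G).1.1.1 *ᵥ _ = _
        rw [Subgroup.coe_mul, f3, eR, ← map_mul]
        exact k3 h ⟨P, hP⟩
      · show ((B1 * R3 * B2 * R3 : ↥H) : ↥(Cfsg.SU n F q) × G).1.1.1 *ᵥ _ = _
        rw [Subgroup.coe_mul, Subgroup.coe_mul, Subgroup.coe_mul, f3, f4, eR, ← map_mul, ← map_mul, ← map_mul]
        exact k4 h ⟨P, hP⟩
      · have e : (A1 * R3 * A2 * R3)⁻¹ * (B1 * R3 * B2 * R3) = Z := by
          rw [← mul_inv_eq_one]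
          apply Subtype.ext
          simp only [Subgroup.coe_mul, Subgroup.coe_inv, Subgroup.coe_one, f1, f2, f3, f4, f5, eR]
          rw [← hrel]
          simp only [rel6, map_mul, map_inv, hR]
        rw [e]; exact m5
    have hinj := (hG.bijective hgen hsix3).1
    refine exists_hom_of_cover g g' V hcov fun w hw hw1 => ?_
    have hmem : (FreeGroup.lift g w, FreeGroup.lift g' w) ∈ H := by
      have hle : V.map L2 ≤ H := by
        rw [Subgroup.map_le_iff_le_comap]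
        refine sup_le ?_ ?_
        · rintro _ ⟨e, he, rfl⟩
          refine Subgroup.subset_closure (Or.inl ⟨FreeGroup.lift gA e, Prod.ext ?_ ?_⟩)
          · show pA C _ = FreeGroup.lift g (incA e)
            simp only [incA]; rw [lift_map]; exact (lift_comp_hom (pA C) gA e).symm
          · show ρ _ = FreeGroup.lift g' (incA e)
            simp only [incA]; rw [lift_map]; exact hρ e he
        · rintro _ ⟨e, he, rfl⟩
          refine Subgroup.subset_closure (Or.inr ⟨FreeGroup.lift gS e, Prod.ext ?_ ?_⟩)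
          · show ι4 _ = FreeGroup.lift g (incS e)
            simp only [incS]; rw [lift_map]; exact (lift_comp_hom ι4 gS e).symm
          · show ψ _ = FreeGroup.lift g' (incS e)
            simp only [incS]; rw [lift_map]; exact hψ e he
      exact hle ⟨w, hw, rfl⟩
    have := @hinj ⟨_, hmem⟩ 1 (hw1.trans (map_one _).symm)
    exact congrArg Prod.snd (congrArg Subtype.val this)
  · exact (Finset.card_union_le _ _).trans (by simp only [Finset.card_map]; omega)
  · rintro (x | x) hx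
    · refine Subgroup.mem_sup_left ⟨FreeGroup.of x, hVA x fun h => hx ?_, by simp [incA]⟩
      exact Finset.mem_union_left _ (Finset.mem_map.2 ⟨x, h, rfl⟩)
    · refine Subgroup.mem_sup_right ⟨FreeGroup.of x, hVS x fun h => hx ?_, by simp [incS]⟩
      exact Finset.mem_union_right _ (Finset.mem_map.2 ⟨x, h, rfl⟩)

end CfsgLib.Lie.BoundedPres.SUGraph
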