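import Cfsg.Agent.Lib.Lie.BoundedPres.SU.Main
import Cfsg.Agent.Lib.Lie.BoundedPres.SU.TwoMain
import Cfsg.Agent.Lib.Lie.BoundedPres.Alt.Pres
import Cfsg.Agent.Lib.SU.CenterCard
import Cfsg.Agent.Lib.SU.UnitalModel

/-!
# Systems of relations for all `SU_n`, `n ≥ 4`, and the projective quotients
-/

set_option autoImplicit false

namespace CfsgLib.Lie.BoundedPres.SUGraph

open CfsgLib.SU CfsgLib.Lie.BoundedPres CfsgLib.Lie.BoundedPres.SUBase

universe u

/-- a field of arbitrary universe has a small copy -/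
theorem exists_small_field (F : Type u) [Field F] [Fintype F] :
    ∃ (F₀ : Type) (_ : Field F₀) (_ : Fintype F₀), Fintype.card F₀ = Fintype.card F ∧ Nonempty (F₀ ≃+* F) := by
  let e := (Fintype.equivFin F).symm
  letI : Field (Fin (Fintype.card F)) := e.field
  exact ⟨Fin (Fintype.card F), inferInstance, inferInstance, Fintype.card_fin _, ⟨e.ringEquiv⟩⟩

section transfer

variable {K L : Type*} [Field K] [Field L]

theorem map_mem_su_of_equiv (n q : ℕ) (e : K ≃+* L) {A : Matrix.SpecialLinearGroup (Fin n) K}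
    (hA : A ∈ Cfsg.SU n K q) :
    Matrix.SpecialLinearGroup.map e.toRingHom A ∈ Cfsg.SU n L q := by
  intro u v
  obtain ⟨u, rfl⟩ : ∃ u', u = e ∘ u' := ⟨e.symm ∘ u, by funext i; simp⟩
  obtain ⟨v, rfl⟩ : ∃ v', v = e ∘ v' := ⟨e.symm ∘ v, by funext i; simp⟩
  have h := congrArg e (hA u v)
  simp only [Cfsg.hermForm, map_sum, map_mul, map_pow] at h
  refine Eq.trans ?_ h
  simp only [Cfsg.hermForm, Cfsg.slToMat, MonoidHom.coe_comp, Units.coeHom_apply, Function.comp_apply,
    Matrix.SpecialLinearGroup.toGL, Matrix.mulVec, dotProduct, map_sum, map_mul]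
  rfl

/-- a field isomorphism gives an isomorphism of the special unitary groups -/
noncomputable def suTransfer (n q : ℕ) (e : K ≃+* L) : ↥(Cfsg.SU n K q) ≃* ↥(Cfsg.SU n L q) where
  toFun A := ⟨_, map_mem_su_of_equiv n q e A.2⟩
  invFun A := ⟨_, map_mem_su_of_equiv n q e.symm A.2⟩
  left_inv A := Subtype.ext (Subtype.ext (Matrix.ext fun i j => e.symm_apply_apply _))
  right_inv A := Subtype.ext (Subtype.ext (Matrix.ext fun i j => e.apply_symm_apply _))
  map_mul' A B := Subtype.ext (map_mul (Matrix.SpecialLinearGroup.map e.toRingHom) A.1 B.1)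

end transfer

section alt

theorem sys_alt_two (n : ℕ) : HasSysJ (alternatingGroup (Fin n)) 2 8 0 := by
  obtain ⟨⟨R, hR, ⟨e⟩⟩, -⟩ := altSym_two n
  exact (HasSysJ.of_presentation R e).mono hR le_rfl

theorem sys_alt_two_five : HasSysJ (alternatingGroup (Fin 5)) 2 4 0 := by
  obtain ⟨⟨R, hR, ⟨e⟩⟩, -⟩ := altSym_two_fin 5 (by norm_num)
  exact (HasSysJ.of_presentation R e).mono hR le_rfl

end alt

variable {F : Type} [Field F] [Fintype F] {q n : ℕ}

theorem sys_su (hF : Fintype.card F = q ^ 2) (hn : 4 ≤ n) :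
    HasSysJ ↥(Cfsg.SU n F q) 6 39 0 ∧ (n ≤ 5 → HasSysJ ↥(Cfsg.SU n F q) 6 35 0) := by
  classical
  by_cases h4 : n = 4
  · subst h4
    have h := ((SUFour.sys_su_four (F := F) (q := q) hF).pad).pad
    exact ⟨h.mono (by norm_num) le_rfl, fun _ => h.mono (by norm_num) le_rfl⟩
  have hn5 : 5 ≤ n := by omega
  obtain ⟨C⟩ := CfsgLib.Classical.uctx_exists hF
  by_cases hq : ∃ s : F, C.bar s = s ∧ s ≠ 0 ∧ s ≠ 1
  · refine ⟨(sys_big C hF hn5 hq (sys_alt_two n)).mono (by norm_num) le_rfl, fun h5 => ?_⟩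
    obtain rfl : n = 5 := by omega
    exact (sys_big C hF hn5 hq sys_alt_two_five).mono (by norm_num) le_rfl
  · have hfix : ∀ s : F, C.bar s = s → s = 0 ∨ s = 1 := fun s hs => by
      by_contra h
      push Not at h
      exact hq ⟨s, hs, h⟩
    haveI : CharP F 2 := CharTwo.of_one_ne_zero_of_two_eq_zero one_ne_zero (SixClosed.two_eq hfix)
    refine ⟨(sys_two C hF hn5 hfix (sys_alt_two n)).mono (by split_ifs <;> norm_num) le_rfl, fun h5 => ?_⟩
    obtain rfl : n = 5 := by omega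
    exact (sys_two C hF hn5 hfix sys_alt_two_five).mono (by norm_num) le_rfl

/-- the centre of the special unitary group is cyclic -/
theorem center_su_cyclic {F : Type u} [Field F] [Fintype F] (C : UCtx F q) (hn : 3 ≤ n) :
    IsCyclic (Subgroup.center ↥(Cfsg.SU n F q)) := by
  classical
  haveI : NeZero n := ⟨by omega⟩
  have key : ∀ A : ↥(Subgroup.center ↥(Cfsg.SU n F q)), ∃ c : F,
      A.1.1.1 = c • (1 : Matrix (Fin n) (Fin n) F) := by
    intro A
    obtain ⟨c, hc, -⟩ := C.scalar_of_mem_center hn A.2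
    refine ⟨((c : Fˣ) : F), ?_⟩
    exact (congrArg (fun g : ↥(Cfsg.GU n F q) => g.1.1) hc).trans (C.gscal_val c)
  choose c hc using key
  have h00 : ∀ A, c A = A.1.1.1 (0 : Fin n) 0 := fun A => by rw [hc A]; simp
  let f : ↥(Subgroup.center ↥(Cfsg.SU n F q)) →* F :=
    { toFun := c
      map_one' := by rw [h00]; exact Matrix.one_apply_eq _
      map_mul' := fun A B => by
        rw [h00 (A * B)]
        show (A.1.1.1 * B.1.1.1) 0 0 = _
        rw [hc A, hc B]
        simp [mul_comm] }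
  refine isCyclic_of_subgroup_isDomain f fun A B h => ?_
  refine Subtype.ext (Subtype.ext (Subtype.ext ?_))
  rw [hc A, hc B, show c A = c B from h]

/-- one more relation for the projective quotient -/
theorem sys_psu {F : Type u} [Field F] [Fintype F] (hF : Fintype.card F = q ^ 2) (hn : 3 ≤ n) {k r j : ℕ}
    (h : HasSysJ ↥(Cfsg.SU n F q) k r j) : HasSysJ (Cfsg.PSU n F q) k (r + 1) j := by
  obtain ⟨C⟩ := CfsgLib.Classical.uctx_exists hF
  haveI := center_su_cyclic C hn
  obtain ⟨z, hz⟩ := (Subgroup.isCyclic_iff_exists_zpowers_eq_top (Subgroup.center ↥(Cfsg.SU n F q))).1 this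
  exact h.quotient (QuotientGroup.mk' _) (QuotientGroup.mk'_surjective _) z
    ((QuotientGroup.ker_mk' _).trans hz.symm)

/-- the systems over fields of any universe -/
theorem sys_su_any {F : Type u} [Field F] [Fintype F] (hF : Fintype.card F = q ^ 2) (hn : 4 ≤ n) :
    HasSysJ ↥(Cfsg.SU n F q) 6 39 0 ∧ (n ≤ 5 → HasSysJ ↥(Cfsg.SU n F q) 6 35 0) := by
  obtain ⟨F₀, i₀, j₀, hc, ⟨e⟩⟩ := exists_small_field F
  obtain ⟨h1, h2⟩ := sys_su (F := F₀) (q := q) (n := n) (hc.trans hF) hn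
  exact ⟨h1.of_equiv (suTransfer n q e), fun h5 =>
    (h2 h5).of_equiv (suTransfer n q e)⟩

end CfsgLib.Lie.BoundedPres.SUGraph
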