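import Cfsg.Agent.Lib.Classical.HermTori
import Cfsg.Agent.Lib.Classical.HermOrder
import Cfsg.Agent.Lib.Classical.SUTwoSL
import Mathlib.LinearAlgebra.Matrix.Permutation

/-!
# Elementary facts on coordinates, permutation matrices and unit vectors

A small base for the short presentations, free of the imports of the multiplier computation.
-/

set_option autoImplicit false
set_option linter.all false

namespace CfsgLib.Lie.BoundedPres.SUBase

open Matrix CfsgLib.SU CfsgLib.Classical.HermStab CfsgLib.Classical.HermTori CfsgLib.Classical.HermFrames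
open scoped MatrixGroups

universe u

variable {F : Type u} [Field F] [Fintype F] {q n d k m : ℕ} {C : UCtx F q}

local notation "ext" => Fin.append

theorem form_app (x x' : Fin k → F) (y y' : Fin m → F) :
    C.form (ext x y) (ext x' y') = C.form x x' + C.form y y' := by
  rw [form_split C, lc_append, lc_append, rc_append, rc_append]

theorem app_lr (x : Fin (k + m) → F) : ext (lc x) (rc x) = x := Fin.append_castAdd_natAdd

theorem block_app (A : Matrix (Fin k) (Fin k) F) (B : Matrix (Fin m) (Fin m) F) (x : Fin k → F) (y : Fin m → F) :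
    blockMat A B *ᵥ ext x y = ext (A *ᵥ x) (B *ᵥ y) := by
  rw [← app_lr (blockMat A B *ᵥ ext x y), (blockMat_mulVec A B _).1, (blockMat_mulVec A B _).2, lc_append,
    rc_append]

theorem app_smul (c : F) (x : Fin k → F) (y : Fin m → F) : c • ext x y = ext (c • x) (c • y) := by
  rw [← app_lr (c • ext x y)]
  congr 1 <;> funext i <;> simp [lc, rc]

/-- the group of the left coordinates -/
def kA (k m : ℕ) : ↥(Cfsg.SU k F q) →* ↥(Cfsg.SU (k + m) F q) :=
  (blockSU C).comp (MonoidHom.inl _ _)

theorem kA_app (A : ↥(Cfsg.SU k F q)) (x : Fin k → F) (y : Fin m → F) :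
    (kA (C := C) k m A).1.1 *ᵥ ext x y = ext (A.1.1 *ᵥ x) y := by
  show blockMat A.1.1 (1 : ↥(Cfsg.SU m F q)).1.1 *ᵥ ext x y = _
  rw [block_app, su_one_mulVec]

theorem kA_injective (k m : ℕ) : Function.Injective (kA (C := C) k m) := fun A B h => by
  have h1 := congrArg (fun X : ↥(Cfsg.SU (k + m) F q) => X.1.1) h
  exact Subtype.ext (Subtype.ext (blockMat_inj h1).1)

theorem app_add (x x' : Fin k → F) (y y' : Fin m → F) : ext x y + ext x' y' = ext (x + x') (y + y') := by
  rw [← app_lr (ext x y + ext x' y')]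
  congr 1 <;> funext i <;> simp [lc, rc]

theorem mat_ext {M N : Matrix (Fin (k + m)) (Fin (k + m)) F}
    (h : ∀ (x : Fin k → F) (y : Fin m → F), M *ᵥ ext x y = N *ᵥ ext x y) : M = N :=
  Matrix.ext_iff_mulVec.2 fun v => by rw [← app_lr v]; exact h _ _

/-- elements fixing the right coordinates -/
theorem mem_range_kA {X : ↥(Cfsg.SU (k + m) F q)} :
    X ∈ (kA (C := C) k m).range ↔ ∀ y : Fin m → F, X.1.1 *ᵥ ext (0 : Fin k → F) y = ext 0 y := by
  refine ⟨fun ⟨A, hA⟩ x => by rw [← hA, kA_app, Matrix.mulVec_zero], fun h => ?_⟩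
  let f : (Fin k → F) →ₗ[F] (Fin k → F) :=
    { toFun := fun x => lc (X.1.1 *ᵥ ext x 0)
      map_add' := fun y y' => by
        rw [show ext (y + y') (0 : Fin m → F) = ext y 0 + ext y' 0 by rw [app_add, add_zero], Matrix.mulVec_add]
        rfl
      map_smul' := fun c y => by
        rw [show ext (c • y) (0 : Fin m → F) = c • ext y 0 by rw [app_smul, smul_zero], Matrix.mulVec_smul]
        rfl }
  have hl : ∀ x, X.1.1 *ᵥ ext x (0 : Fin m → F) = ext (f x) 0 := fun x => by
    conv_lhs => rw [← app_lr (X.1.1 *ᵥ ext x 0)]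
    have h0 : rc (X.1.1 *ᵥ ext x (0 : Fin m → F)) = 0 := C.eq_zero_of_form fun y => by
      have h1 := C.form_su X (ext x 0) (ext 0 y)
      rw [h, ← app_lr (X.1.1 *ᵥ ext x 0), form_app, form_app, C.form_zero_left, C.form_zero_right,
        C.form_zero_right, add_zero, zero_add] at h1
      exact h1
    rw [h0]
    rfl
  have hM : X.1.1 = blockMat (LinearMap.toMatrix' f) 1 := mat_ext fun x y => by
    rw [block_app, Matrix.one_mulVec, LinearMap.toMatrix'_mulVec,
      show ext x y = ext x 0 + ext 0 y by rw [app_add, add_zero, zero_add], Matrix.mulVec_add, h, hl, app_add,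
      add_zero, zero_add]
  have hdet : (LinearMap.toMatrix' f).det = 1 := by
    have h1 := X.1.2
    rwa [hM, det_blockMat, Matrix.det_one, mul_one] at h1
  refine ⟨C.mkSU _ hdet fun u v => ?_, Subtype.ext (Subtype.ext ?_)⟩
  · have h1 := C.form_su X (ext u 0) (ext v 0)
    rw [hl, hl, form_app, form_app, C.form_zero_left, add_zero, add_zero] at h1
    rwa [LinearMap.toMatrix'_mulVec, LinearMap.toMatrix'_mulVec]
  · exact hM.symm

/-- vectors of norm one -/
abbrev USph (C : UCtx F q) (n : ℕ) := {v : Fin n → F // C.form v v = 1}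

instance usphAction (C : UCtx F q) (n : ℕ) : MulAction ↥(Cfsg.SU n F q) (USph C n) where
  smul g v := ⟨g.1.1 *ᵥ v.1, by rw [C.form_su]; exact v.2⟩
  one_smul v := Subtype.ext (su_one_mulVec v.1)
  mul_smul g h v := Subtype.ext (suMat_mulVec_mul g h v.1)

theorem smul_usph (g : ↥(Cfsg.SU n F q)) (v : USph C n) : (g • v).1 = g.1.1 *ᵥ v.1 := rfl

/-- an even permutation of the coordinates -/
def pm (C : UCtx F q) (π : Equiv.Perm (Fin n)) (hs : Equiv.Perm.sign π = 1) : ↥(Cfsg.SU n F q) :=
  C.mkSU (π.permMatrix F) (by rw [Matrix.det_permutation, hs]; simp) fun u v => by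
    rw [Matrix.permMatrix_mulVec, Matrix.permMatrix_mulVec]
    exact Equiv.sum_comp π (fun i => u i * C.bar (v i))

theorem pm_mulVec (π : Equiv.Perm (Fin n)) (hs : Equiv.Perm.sign π = 1) (x : Fin n → F) :
    (pm C π hs).1.1 *ᵥ x = x ∘ π :=
  Matrix.permMatrix_mulVec π

theorem form_sum_right' {α : Type*} (s : Finset α) (u : α → Fin n → F) (v : Fin n → F) :
    C.form v (∑ a ∈ s, u a) = ∑ a ∈ s, C.form v (u a) := by
  rw [← C.bar_form, C.form_sum_left, map_sum]
  exact Finset.sum_congr rfl fun a _ => C.bar_form _ _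

include C in
/-- room for a unit vector -/
theorem exists_unit_perp (o : Fin k → Fin n → F) (ho : ∀ i j, C.form (o i) (o j) = if i = j then 1 else 0)
    (t : Fin d → Fin n → F) (h : 2 * d + k < n) :
    ∃ w, C.form w w = 1 ∧ (∀ i, C.form w (o i) = 0) ∧ ∀ i, C.form w (t i) = 0 := by
  classical
  let L : (Fin n → F) →ₗ[F] (Fin k ⊕ Fin d → F) :=
    { toFun := fun x s => Sum.elim (fun i => C.form x (o i)) (fun i => C.form x (t i)) s
      map_add' := fun x y => by ext s; rcases s with i | i <;> simp [C.form_add_left]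
      map_smul' := fun c x => by ext s; rcases s with i | i <;> simp [C.form_smul_left] }
  suffices hz : ∃ z, L z = 0 ∧ C.form z z ≠ 0 by
    obtain ⟨z, hz, hzz⟩ := hz
    have hfix : C.bar (C.form z z)⁻¹ = (C.form z z)⁻¹ := by rw [map_inv₀, C.form_self_fixed]
    obtain ⟨c, hc⟩ := C.exists_norm hfix
    refine ⟨c • z, ?_, fun i => ?_, fun i => ?_⟩
    · rw [C.form_smul_left, C.form_smul_right, ← mul_assoc, hc, inv_mul_cancel₀ hzz]
    · rw [C.form_smul_left, show C.form z (o i) = 0 from congrFun hz (.inl i), mul_zero]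
    · rw [C.form_smul_left, show C.form z (t i) = 0 from congrFun hz (.inr i), mul_zero]
  by_contra hcon
  push Not at hcon
  have hW : ∀ x y, L x = 0 → L y = 0 → C.form x y = 0 := fun x y hx hy => by
    by_contra hne
    obtain ⟨s, -, hs⟩ := C.exists_trace_ne_zero
    have h1 := hcon ((s / C.form x y) • x + y) (by rw [map_add, map_smul, hx, hy]; simp)
    simp only [C.form_add_left, C.form_add_right, C.form_smul_left, C.form_smul_right, hcon x hx, hcon y hy] at h1
    rw [← C.bar_form x y, ← map_mul, div_mul_cancel₀ _ hne] at h1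
    exact hs (by linear_combination h1)
  let b := Module.finBasis F (LinearMap.ker L)
  set e := Module.finrank F (LinearMap.ker L) with he
  have he1 : n ≤ e + (k + d) := by
    have h1 := L.finrank_range_add_finrank_ker
    have h2 := Submodule.finrank_le (LinearMap.range L)
    rw [Module.finrank_fin_fun] at h1
    rw [Module.finrank_pi, Fintype.card_sum, Fintype.card_fin, Fintype.card_fin] at h2
    omega
  let ψ : (Fin n → F) →ₗ[F] (Fin k ⊕ Fin e → F) :=
    { toFun := fun x s => Sum.elim (fun i => C.form x (o i)) (fun i => C.form x (b i : Fin n → F)) s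
      map_add' := fun x y => by ext s; rcases s with i | i <;> simp [C.form_add_left]
      map_smul' := fun c x => by ext s; rcases s with i | i <;> simp [C.form_smul_left] }
  have hsurj : LinearMap.range ψ = ⊤ := by
    by_contra hne
    obtain ⟨f, hf0, hf⟩ := Submodule.exists_le_ker_of_lt_top _ (lt_top_iff_ne_top.2 hne)
    have hfs : ∀ z : Fin k ⊕ Fin e → F, f z = ∑ s, z s * f (Pi.single s 1) := fun z => by
      conv_lhs => rw [pi_eq_sum_univ' z]
      simp [map_sum, map_smul]
    have hv : ∑ i, C.bar (f (Pi.single (.inl i) 1)) • o i +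
        ∑ i, C.bar (f (Pi.single (.inr i) 1)) • (b i : Fin n → F) = 0 := by
      refine C.eq_zero_of_form' fun x => ?_
      have h1 : f (ψ x) = 0 := hf ⟨x, rfl⟩
      rw [hfs, Fintype.sum_sum_type] at h1
      rw [C.form_add_right, form_sum_right', form_sum_right', ← h1]
      congr 1 <;> exact Finset.sum_congr rfl fun i _ => by rw [C.form_smul_right, C.bar_bar, mul_comm]; rfl
    have hbo : ∀ (i : Fin e) (j : Fin k), C.form (b i : Fin n → F) (o j) = 0 := fun i j =>
      congrFun (LinearMap.mem_ker.1 (b i).2) (.inl j)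
    have hl : ∀ j, f (Pi.single (.inl j) 1) = 0 := fun j => by
      have h1 := congrArg (fun z => C.form z (o j)) hv
      rw [C.form_add_left, C.form_sum_left, C.form_sum_left, C.form_zero_left] at h1
      simp [C.form_smul_left, ho, hbo] at h1
      exact h1
    have hr : ∀ j, f (Pi.single (.inr j) 1) = 0 := fun j => by
      simp only [hl, map_zero, zero_smul, Finset.sum_const_zero, zero_add] at hv
      have h1 : (∑ i, C.bar (f (Pi.single (.inr i) 1)) • b i) = 0 := Subtype.ext (by simpa using hv)
      simpa using Fintype.linearIndependent_iff.1 b.linearIndependent _ h1 j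
    refine hf0 (LinearMap.ext fun z => ?_)
    rw [hfs, LinearMap.zero_apply]
    refine Finset.sum_eq_zero fun s _ => ?_
    rcases s with i | i
    · rw [hl, mul_zero]
    · rw [hr, mul_zero]
  have hle : LinearMap.ker L ≤ LinearMap.ker ψ := fun x hx => by
    refine LinearMap.mem_ker.2 (funext fun s => ?_)
    rcases s with i | i
    · exact congrFun (LinearMap.mem_ker.1 hx) (.inl i)
    · exact hW _ _ (LinearMap.mem_ker.1 hx) (LinearMap.mem_ker.1 (b i).2)
  have h1 := ψ.finrank_range_add_finrank_ker
  have h2 := Submodule.finrank_mono hle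
  rw [hsurj, finrank_top, Module.finrank_pi, Fintype.card_sum, Fintype.card_fin, Fintype.card_fin,
    Module.finrank_fin_fun] at h1
  omega

include C in
/-- moving tuples inside the special group -/
theorem exists_su_move_tuple {ι : Type} [Fintype ι] {t t' : ι → Fin n → F} (ht : LinearIndependent F t)
    (ht' : LinearIndependent F t') (h : ∀ i j, C.form (t i) (t j) = C.form (t' i) (t' j))
    {w : Fin n → F} (hw : C.form w w = 1) (hwt : ∀ i, C.form (t i) w = 0) :
    ∃ A : ↥(Cfsg.SU n F q), ∀ i, A.1.1 *ᵥ t i = t' i := by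
  obtain ⟨g, hg⟩ := CfsgLib.Classical.HermFrames.exists_move_tuple C ht ht' h
  set δ := C.bar g.1.1.det with hδ
  have hu : g.1.1.det * C.bar g.1.1.det = 1 := C.mem_unitOne.1 (C.detHom g).2
  refine ⟨C.mkSU (g.1.1 * C.rmap w w (δ - 1)) ?_ (fun u v => ?_), fun i => ?_⟩
  · rw [Matrix.det_mul, C.det_rmap, hw, mul_one, add_sub_cancel, hδ, hu]
  · rw [← Matrix.mulVec_mulVec, ← Matrix.mulVec_mulVec, C.mem_gu_iff.1 g.2, C.rmap_mulVec, C.rmap_mulVec]
    simp only [C.form_add_left, C.form_add_right, C.form_smul_left, C.form_smul_right, map_mul, map_sub, map_one,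
      C.bar_form, hw, hδ, C.bar_bar]
    linear_combination (C.form u w * C.form w v) * hu
  · show (g.1.1 * C.rmap w w (δ - 1)) *ᵥ t i = t' i
    rw [← Matrix.mulVec_mulVec, C.rmap_mulVec, hwt, mul_zero, zero_smul, add_zero, hg i]

include C in
theorem card_fixed (hF : Fintype.card F = q ^ 2) : Nat.card (CfsgLib.Descent.fixedField C.bar) = q := by
  have h := CfsgLib.Descent.card_fixedField_pow C.bar
  rw [C.order_two, hF] at h
  exact Nat.pow_left_injective two_ne_zero h

include C in
/-- the special unitary group of dimension two -/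
theorem su_two_equiv (hF : Fintype.card F = q ^ 2) :
    ∃ (K : Type u) (_ : Field K) (_ : Fintype K), Fintype.card K = q ∧
      Nonempty (↥(Cfsg.SU 2 F q) ≃* SL(2, K)) := by
  classical
  let K := CfsgLib.Descent.fixedField C.bar
  letI : Fintype K := Fintype.ofFinite _
  have hK : Fintype.card K = q := by rw [← Nat.card_eq_fintype_card]; exact card_fixed (C := C) hF
  exact ⟨K, inferInstance, inferInstance, hK, CfsgLib.Classical.SUTwoSL.main C hF hK⟩

end CfsgLib.Lie.BoundedPres.SUBase
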