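import Cfsg.Agent.Lib.Lie.BoundedPres.SU.Base
import Mathlib.GroupTheory.SpecificGroups.Alternating

/-!
# Coordinate vectors, coordinate stabilisers and even permutations in the special unitary group
-/

set_option autoImplicit false

namespace CfsgLib.Lie.BoundedPres.SUGraph

open Matrix Equiv CfsgLib.SU CfsgLib.Lie.BoundedPres.SUBase

universe u

variable {F : Type u} [Field F] {q n : ℕ}

/-- a coordinate vector -/
def sv (i : Fin n) : Fin n → F := Pi.single i 1

theorem form_sv (C : UCtx F q) (i j : Fin n) :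
    C.form (sv i) (sv j : Fin n → F) = if i = j then 1 else 0 := by
  simp [UCtx.form, sv, Pi.single_apply, apply_ite C.bar, eq_comm]

/-- elements fixing the coordinate vectors from `k` on -/
def fixFrom (k : ℕ) : Subgroup ↥(Cfsg.SU n F q) where
  carrier := {A | ∀ i : Fin n, k ≤ i.val → A.1.1 *ᵥ sv i = sv i}
  one_mem' _ _ := su_one_mulVec _
  mul_mem' := fun {a b} ha hb i hi => by rw [suMat_mulVec_mul, hb i hi, ha i hi]
  inv_mem' := fun {a} ha i hi => by
    conv_lhs => rw [← ha i hi, su_inv_mulVec]

theorem mem_fixFrom {k : ℕ} {A : ↥(Cfsg.SU n F q)} :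
    A ∈ fixFrom k ↔ ∀ i : Fin n, k ≤ i.val → A.1.1 *ᵥ sv i = sv i := Iff.rfl

theorem fixFrom_mono {j k : ℕ} (h : j ≤ k) : fixFrom (n := n) (F := F) (q := q) j ≤ fixFrom k :=
  fun _ hA i hi => hA i (h.trans hi)

theorem fixFrom_top : fixFrom (n := n) (F := F) (q := q) n = ⊤ :=
  eq_top_iff.2 fun _ _ i hi => absurd i.isLt (by omega)

variable [Fintype F]

/-- even permutations of the coordinates -/
def pA (C : UCtx F q) : alternatingGroup (Fin n) →* ↥(Cfsg.SU n F q) where
  toFun σ := pm C σ.1⁻¹ (by rw [Perm.sign_inv]; exact Perm.mem_alternatingGroup.1 σ.2)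
  map_one' := su_ext fun x => by
    rw [pm_mulVec, su_one_mulVec]
    rfl
  map_mul' σ τ := su_ext fun x => by
    rw [suMat_mulVec_mul, pm_mulVec, pm_mulVec, pm_mulVec]
    funext i
    simp [Perm.inv_def]

theorem pA_apply (C : UCtx F q) (σ : alternatingGroup (Fin n)) (x : Fin n → F) :
    (pA C σ).1.1 *ᵥ x = x ∘ ⇑(σ.1⁻¹) :=
  pm_mulVec (C := C) σ.1⁻¹ (by rw [Perm.sign_inv]; exact Perm.mem_alternatingGroup.1 σ.2) x

theorem pA_sv (C : UCtx F q) (σ : alternatingGroup (Fin n)) (i : Fin n) :
    (pA C σ).1.1 *ᵥ sv i = sv (σ.1 i) := by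
  rw [pA_apply]
  funext j
  simp only [Function.comp_apply, sv, Pi.single_apply, Perm.inv_def, Equiv.symm_apply_eq]

/-- the unitary group on the first `k` coordinates -/
theorem exists_coord_emb (C : UCtx F q) {k : ℕ} (hk : k ≤ n) :
    ∃ ι : ↥(Cfsg.SU k F q) →* ↥(Cfsg.SU n F q), Function.Injective ι ∧ ι.range = fixFrom k ∧
      ∀ (A : ↥(Cfsg.SU k F q)) (j : Fin k),
        ∀ i : Fin n, (ι A).1.1 i (Fin.castLE hk j) = if h : i.val < k then A.1.1 ⟨i.val, h⟩ j else 0 := by
  obtain ⟨m, rfl⟩ := Nat.exists_eq_add_of_le hk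
  refine ⟨kA (C := C) k m, kA_injective k m, ?_, fun A j i => ?_⟩
  · ext X
    rw [mem_range_kA, mem_fixFrom]
    constructor
    · intro h i hi
      obtain ⟨l, rfl⟩ : ∃ l, Fin.natAdd k l = i := ⟨⟨i.val - k, by omega⟩, Fin.ext (by simp; omega)⟩
      have e : (sv (Fin.natAdd k l) : Fin (k + m) → F) = Fin.append (0 : Fin k → F) (Pi.single l 1) := by
        funext t
        induction t using Fin.addCases with
        | left t => simp [sv, Pi.single_apply, Fin.ext_iff]; omega
        | right t => simp [sv, Pi.single_apply, Fin.ext_iff]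
      rw [e]
      exact h _
    · intro h y
      have e : Fin.append (0 : Fin k → F) y = ∑ l, y l • (sv (Fin.natAdd k l) : Fin (k + m) → F) := by
        funext t
        induction t using Fin.addCases with
        | left t =>
          simp [sv, Finset.sum_apply, Pi.single_apply, Fin.ext_iff]
          exact (Finset.sum_eq_zero fun l _ => if_neg (by omega)).symm
        | right t => simp [sv, Finset.sum_apply, Pi.single_apply, Fin.natAdd_inj]
      rw [e, Matrix.mulVec_sum]
      exact Finset.sum_congr rfl fun l _ => by rw [Matrix.mulVec_smul, h _ (by simp)]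
  · have e := congrFun (kA_app (C := C) A (Pi.single j 1) (0 : Fin m → F)) i
    rw [show Fin.append (Pi.single j (1 : F)) (0 : Fin m → F) = Pi.single (Fin.castAdd m j) 1 by
      funext t
      induction t using Fin.addCases with
      | left t => simp [Pi.single_apply]
      | right t => simp [Pi.single_apply, Fin.ext_iff]; omega, Matrix.mulVec_single_one] at e
    rw [show Fin.castLE hk j = Fin.castAdd m j from Fin.ext rfl]
    refine e.trans ?_
    induction i using Fin.addCases with
    | left t => simp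
    | right t => simp

end CfsgLib.Lie.BoundedPres.SUGraph
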