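import Mathlib.GroupTheory.GroupAction.Defs
import Mathlib.GroupTheory.Coset.Basic
import Mathlib.GroupTheory.GroupAction.Basic
import Mathlib.Logic.Relation
import Mathlib.Tactic.Group

/-!
# Injectivity from a simply connected graph

A group `Γ` maps to a group `G` acting on a graph `X` with base edge `a, π r • a`; a subgroup `H` maps
isomorphically onto the stabiliser of `a`. If edges and triangles lift to the cosets of `H` and the closed paths of
the graph through `a` split into triangles (in the weak form of `Graph`), the map is bijective.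
-/

set_option autoImplicit false

namespace CfsgLib.Lie.BoundedPres.SUGraph

open MulAction (stabilizer)

variable {G X : Type*} [Group G] [MulAction G X]

/-- any two common neighbours of `w` and `w'` are joined by a path of common neighbours -/
def Flip (M : X → X → Prop) (w w' : X) : Prop :=
  ∀ y y', M w y → M w' y → M w y' → M w' y' →
    Relation.ReflTransGen (fun u v => M u v ∧ (M w u ∧ M w' u) ∧ (M w v ∧ M w' v)) y y'

/-- the conditions on the graph without closed paths -/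
structure GraphBase (G : Type*) {X : Type*} [Group G] [MulAction G X] (M : X → X → Prop) (a : X) : Prop where
  symm : ∀ x y, M x y → M y x
  inv : ∀ (g : G) x y, M x y → M (g • x) (g • y)
  mid : ∀ x y, M x y → ∃ w, M a w ∧ M w x ∧ M w y
  mid_two : ∀ x, ∃ w, M a w ∧ M w x

/-- the conditions on the graph -/
structure Graph (G : Type*) {X : Type*} [Group G] [MulAction G X] (M : X → X → Prop) (a : X) : Prop
    extends GraphBase G M a where
  conn : ∀ x w w', ¬ M a x → M a w → M w x → M a w' → M w' x →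
    Relation.ReflTransGen (fun u v => (M u v ∨ Flip M u v) ∧ (M a u ∧ M u x) ∧ (M a v ∧ M v x)) w w'

variable {Γ : Type*} [Group Γ]

/-- the conditions on the covering group -/
structure Lift (π : Γ →* G) (H : Subgroup Γ) (r : Γ) (M : X → X → Prop) (a : X) : Prop where
  inj : Set.InjOn π H
  onto : H.map π = stabilizer G a
  edge : M a (π r • a)
  nbr : ∀ x, M a x → ∃ g ∈ stabilizer G a, g • (π r • a) = x
  loc : ∀ k ∈ H, π k • π r • a = π r • a → r⁻¹ * k * r ∈ H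
  rev : ∃ h ∈ H, r * h * r ∈ H
  tri : ∀ h ∈ H, M (π r • a) (π h • π r • a) → ∃ h' ∈ H, ∃ h'' ∈ H, r⁻¹ * h * r = h' * r * h''
  gen : Subgroup.closure ((H : Set Γ) ∪ {r}) = ⊤

variable {π : Γ →* G} {H : Subgroup Γ} {r : Γ} {M : X → X → Prop} {a : X}

/-- adjacency of cosets -/
def E (H : Subgroup Γ) (r : Γ) (c d : Γ ⧸ H) : Prop :=
  ∃ γ : Γ, ∃ h ∈ H, c = (γ : Γ ⧸ H) ∧ d = ((γ * h * r : Γ) : Γ ⧸ H)

theorem mk_eq_of_mem {g g' : Γ} (h : g⁻¹ * g' ∈ H) : (g : Γ ⧸ H) = (g' : Γ ⧸ H) := QuotientGroup.eq.2 h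

namespace Lift

variable (L : Lift π H r M a)
include L

theorem fix {h : Γ} (hh : h ∈ H) : π h • a = a :=
  MulAction.mem_stabilizer_iff.1 (L.onto ▸ Subgroup.mem_map_of_mem π hh)

theorem E_symm {c d : Γ ⧸ H} (h : E H r c d) : E H r d c := by
  obtain ⟨γ, h0, hh, rfl, rfl⟩ := h
  obtain ⟨k, hk, hrk⟩ := L.rev
  refine ⟨γ * h0 * r, k, hk, rfl, mk_eq_of_mem ?_⟩
  rw [show γ⁻¹ * (γ * h0 * r * k * r) = h0 * (r * k * r) by group]
  exact mul_mem hh hrk

/-- the image of a coset -/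
def pt (c : Γ ⧸ H) : X :=
  Quotient.liftOn' c (fun γ => π γ • a) fun γ δ hγ => by
    have := L.fix (QuotientGroup.leftRel_apply.1 hγ)
    rw [map_mul, map_inv, mul_smul, inv_smul_eq_iff] at this
    exact this.symm

theorem pt_mk (γ : Γ) : L.pt (γ : Γ ⧸ H) = π γ • a := rfl

theorem pt_edge {c d : Γ ⧸ H} (hM : ∀ (g : G) x y, M x y → M (g • x) (g • y)) (h : E H r c d) :
    M (L.pt c) (L.pt d) := by
  obtain ⟨γ, h0, hh, rfl, rfl⟩ := h
  rw [L.pt_mk, L.pt_mk, map_mul, map_mul, mul_smul, mul_smul]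
  have := hM (π γ) _ _ (hM (π h0) _ _ L.edge)
  rwa [L.fix hh] at this

theorem E_unique {c d d' : Γ ⧸ H} (h : E H r c d) (h' : E H r c d') (hp : L.pt d = L.pt d') : d = d' := by
  obtain ⟨γ, h0, hh, rfl, rfl⟩ := h
  obtain ⟨δ, h1, hh1, hc, rfl⟩ := h'
  have hk : h0⁻¹ * (γ⁻¹ * δ) * h1 ∈ H := mul_mem (mul_mem (inv_mem hh) (QuotientGroup.eq.1 hc)) hh1
  have hfix : π (h0⁻¹ * (γ⁻¹ * δ) * h1) • π r • a = π r • a := by
    rw [L.pt_mk, L.pt_mk] at hp
    simp only [map_mul, map_inv, mul_smul] at hp ⊢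
    rw [← hp, inv_smul_smul, inv_smul_smul]
  refine mk_eq_of_mem ?_
  rw [show (γ * h0 * r)⁻¹ * (δ * h1 * r) = r⁻¹ * (h0⁻¹ * (γ⁻¹ * δ) * h1) * r by group]
  exact L.loc _ hk hfix

theorem E_exists (hM : ∀ (g : G) x y, M x y → M (g • x) (g • y)) (c : Γ ⧸ H) {y : X} (h : M (L.pt c) y) :
    ∃ d, E H r c d ∧ L.pt d = y := by
  induction c using QuotientGroup.induction_on with
  | H γ =>
    have h1 : M a ((π γ)⁻¹ • y) := by
      have := hM (π γ)⁻¹ _ _ h
      rwa [L.pt_mk, inv_smul_smul] at this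
    obtain ⟨g, hg, e⟩ := L.nbr _ h1
    obtain ⟨h0, hh, rfl⟩ := (L.onto.symm ▸ hg : g ∈ H.map π)
    refine ⟨_, ⟨γ, h0, hh, rfl, rfl⟩, ?_⟩
    rw [L.pt_mk, map_mul, map_mul, mul_smul, mul_smul, e, smul_inv_smul]

theorem triangle (hM : ∀ (g : G) x y, M x y → M (g • x) (g • y)) {c d e : Γ ⧸ H} (h1 : E H r c d)
    (h2 : E H r c e) (h : M (L.pt d) (L.pt e)) : E H r d e := by
  obtain ⟨γ, h0, hh, rfl, rfl⟩ := h1
  obtain ⟨δ, h1, hh1, hc, rfl⟩ := h2
  have hk : h0⁻¹ * (γ⁻¹ * δ) * h1 ∈ H := mul_mem (mul_mem (inv_mem hh) (QuotientGroup.eq.1 hc)) hh1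
  have hadj : M (π r • a) (π (h0⁻¹ * (γ⁻¹ * δ) * h1) • π r • a) := by
    have := hM (π (γ * h0))⁻¹ _ _ h
    simpa only [L.pt_mk, map_mul, map_inv, mul_inv_rev, mul_smul, inv_smul_smul] using this
  obtain ⟨h', hh', h'', hh'', e⟩ := L.tri _ hk hadj
  refine ⟨γ * h0 * r, h', hh', rfl, mk_eq_of_mem ?_⟩
  rw [show (δ * h1 * r)⁻¹ * (γ * h0 * r * h' * r) =
    (r⁻¹ * (h0⁻¹ * (γ⁻¹ * δ) * h1) * r)⁻¹ * (h' * r) by group, e]
  rw [show (h' * r * h'')⁻¹ * (h' * r) = h''⁻¹ by group]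
  exact inv_mem hh''

/-- `w` carries the point `x` to the coset `c` -/
def Via (w x : X) (c : Γ ⧸ H) : Prop :=
  ∃ d : Γ ⧸ H, E H r ((1 : Γ) : Γ ⧸ H) d ∧ L.pt d = w ∧ E H r d c ∧ L.pt c = x

variable (S : GraphBase G M a)
include S

theorem via_exists {w x : X} (h1 : M a w) (h2 : M w x) : ∃ c, L.Via w x c := by
  obtain ⟨d, hd, e⟩ := L.E_exists S.inv ((1 : Γ) : Γ ⧸ H) (y := w) (by rwa [L.pt_mk, map_one, one_smul])
  obtain ⟨c, hc, e'⟩ := L.E_exists S.inv d (y := x) (by rwa [e])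
  exact ⟨c, d, hd, e, hc, e'⟩

theorem via_step {u v x : X} {c c' : Γ ⧸ H} (hc : L.Via u x c) (hc' : L.Via v x c')
    (h : M u v ∨ Flip M u v) : c = c' := by
  obtain ⟨d, hd, hdu, hdc, hcx⟩ := hc
  obtain ⟨d', hd', hdv, hdc', hcx'⟩ := hc'
  rcases h with h | h
  · have hdd : E H r d d' := L.triangle S.inv hd hd' (by rwa [hdu, hdv])
    have h2 : E H r d' c := L.triangle S.inv hdd hdc (by
      rw [hdv, hcx]
      have := L.pt_edge S.inv hdc'
      rwa [hdv, hcx'] at this)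
    exact L.E_unique h2 hdc' (hcx.trans hcx'.symm)
  · have hua : M u a := S.symm _ _ (by simpa [hdu, L.pt_mk] using L.pt_edge S.inv hd)
    have hva : M v a := S.symm _ _ (by simpa [hdv, L.pt_mk] using L.pt_edge S.inv hd')
    have hux : M u x := by simpa [hdu, hcx] using L.pt_edge S.inv hdc
    have hvx : M v x := by simpa [hdv, hcx'] using L.pt_edge S.inv hdc'
    have key : ∀ y, Relation.ReflTransGen (fun p t => M p t ∧ (M u p ∧ M v p) ∧ (M u t ∧ M v t)) a y →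
        ∃ e, E H r d e ∧ E H r d' e ∧ L.pt e = y := by
      intro y hy
      induction hy with
      | refl => exact ⟨_, L.E_symm hd, L.E_symm hd', by rw [L.pt_mk, map_one, one_smul]⟩
      | tail _ hst ih =>
        obtain ⟨e, he, he', hey⟩ := ih
        obtain ⟨hpt, -, hut, hvt⟩ := hst
        obtain ⟨f, hf, hft⟩ := L.E_exists S.inv e (y := _) (hey ▸ hpt)
        have hside : ∀ {b : Γ ⧸ H}, E H r b e → M (L.pt b) (L.pt f) → E H r b f := fun hb hm =>
          L.triangle S.inv (L.E_symm hb) hf hm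
        exact ⟨f, hside he (by rw [hdu, hft]; exact hut), hside he' (by rw [hdv, hft]; exact hvt), hft⟩
    obtain ⟨e, he, he', hex⟩ := key x (h a x hua hva hux hvx)
    rw [L.E_unique hdc he (hcx.trans hex.symm), L.E_unique hdc' he' (hcx'.trans hex.symm)]

theorem via_unique_of {w w' x : X} {c c' : Γ ⧸ H} (hc : L.Via w x c) (hc' : L.Via w' x c')
    (hch : ¬ M a x → ∀ w w', M a w → M w x → M a w' → M w' x →
      Relation.ReflTransGen (fun u v => (M u v ∨ Flip M u v ∨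
          ∀ c c', L.Via u x c → L.Via v x c' → c = c') ∧ (M a u ∧ M u x) ∧ (M a v ∧ M v x)) w w') : c = c' := by
  have hm : ∀ {w : X} {c : Γ ⧸ H}, L.Via w x c → M a w ∧ M w x := by
    rintro w c ⟨d, hd, rfl, hdc, hcx⟩
    exact ⟨by simpa [L.pt_mk] using L.pt_edge S.inv hd, hcx ▸ L.pt_edge S.inv hdc⟩
  by_cases hax : M a x
  · have direct : ∀ {w : X} {c : Γ ⧸ H}, L.Via w x c → E H r ((1 : Γ) : Γ ⧸ H) c ∧ L.pt c = x := by
      rintro w c ⟨d, hd, hdw, hdc, hcx⟩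
      exact ⟨L.triangle S.inv (L.E_symm hd) hdc (by rw [L.pt_mk, map_one, one_smul, hcx]; exact hax), hcx⟩
    exact L.E_unique (direct hc).1 (direct hc').1 ((direct hc).2.trans (direct hc').2.symm)
  have hpath := hch hax w w' (hm hc).1 (hm hc).2 (hm hc').1 (hm hc').2
  clear hch
  induction hpath generalizing c' with
  | refl =>
    obtain ⟨d, hd, e1, hdc, e2⟩ := hc
    obtain ⟨d', hd', e1', hdc', e2'⟩ := hc'
    obtain rfl := L.E_unique hd hd' (e1.trans e1'.symm)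
    exact L.E_unique hdc hdc' (e2.trans e2'.symm)
  | tail _ hst ih =>
    obtain ⟨hor, hu, hv⟩ := hst
    obtain ⟨c₀, hc₀⟩ := L.via_exists S hu.1 hu.2
    rcases hor with h | h | h
    · exact (ih hc₀).trans (L.via_step S hc₀ hc' (Or.inl h))
    · exact (ih hc₀).trans (L.via_step S hc₀ hc' (Or.inr h))
    · exact (ih hc₀).trans (h _ _ hc₀ hc')

/-- the map is bijective as soon as closed paths of length four close in the cosets -/
theorem bijective_of (huniq : ∀ {w w' x : X} {c c' : Γ ⧸ H}, L.Via w x c → L.Via w' x c' → c = c') :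
    Function.Bijective π := by
  let T : Set (Γ ⧸ H) := {c | ∃ w x, L.Via w x c}
  have hclosed : ∀ {c d : Γ ⧸ H}, c ∈ T → E H r c d → d ∈ T := by
    rintro c d ⟨w, x, hc⟩ hcd
    have hx : L.pt c = x := by obtain ⟨-, -, -, -, e⟩ := hc; exact e
    have hxy : M x (L.pt d) := hx ▸ L.pt_edge S.inv hcd
    obtain ⟨v, hav, hvx, hvy⟩ := S.mid _ _ hxy
    obtain ⟨c₁, hc₁⟩ := L.via_exists S hav hvx
    obtain rfl := huniq hc hc₁
    obtain ⟨e, he, hev, hec, -⟩ := hc₁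
    obtain ⟨d', hd', hd'y⟩ := L.E_exists S.inv e (y := L.pt d) (hev ▸ hvy)
    have : E H r c d' := L.triangle S.inv hec hd' (by rw [hx, hd'y]; exact hxy)
    obtain rfl := L.E_unique hcd this hd'y.symm
    exact ⟨v, L.pt d, e, he, hev, hd', rfl⟩
  have hone : ((1 : Γ) : Γ ⧸ H) ∈ T := by
    obtain ⟨d, hd, e⟩ := L.E_exists S.inv ((1 : Γ) : Γ ⧸ H) (y := π r • a) (by
      rw [L.pt_mk, map_one, one_smul]; exact L.edge)
    exact ⟨_, _, d, hd, e, L.E_symm hd, rfl⟩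
  have hr : ∀ γ : Γ, (γ : Γ ⧸ H) ∈ T → ((γ * r : Γ) : Γ ⧸ H) ∈ T := fun γ h =>
    hclosed h ⟨γ, 1, H.one_mem, rfl, by rw [mul_one]⟩
  have hr' : ∀ γ : Γ, (γ : Γ ⧸ H) ∈ T → ((γ * r⁻¹ : Γ) : Γ ⧸ H) ∈ T := fun γ h => by
    refine hclosed h (L.E_symm ⟨γ * r⁻¹, 1, H.one_mem, rfl, ?_⟩)
    rw [mul_one, inv_mul_cancel_right]
  have key : ∀ x : Γ, ∀ γ : Γ, (γ : Γ ⧸ H) ∈ T →
      ((γ * x : Γ) : Γ ⧸ H) ∈ T ∧ ((γ * x⁻¹ : Γ) : Γ ⧸ H) ∈ T := by
    intro x
    have hx : x ∈ Subgroup.closure ((H : Set Γ) ∪ {r}) := L.gen ▸ Subgroup.mem_top x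
    induction hx using Subgroup.closure_induction with
    | one => intro γ h; simpa using h
    | mem y hy =>
      rcases hy with hy | rfl
      · intro γ h
        exact ⟨(QuotientGroup.mk_mul_of_mem γ hy).symm ▸ h, (QuotientGroup.mk_mul_of_mem γ (inv_mem hy)).symm ▸ h⟩
      · exact fun γ h => ⟨hr γ h, hr' γ h⟩
    | inv y _ hy => exact fun γ h => ⟨(hy γ h).2, (inv_inv y).symm ▸ (hy γ h).1⟩
    | mul y z _ _ hy hz =>
      intro γ h
      refine ⟨mul_assoc γ y z ▸ (hz _ (hy γ h).1).1, ?_⟩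
      rw [_root_.mul_inv_rev, ← mul_assoc]
      exact (hy _ (hz γ h).2).2
  have hall : ∀ γ : Γ, (γ : Γ ⧸ H) ∈ T := fun γ => by simpa using (key γ 1 hone).1
  refine ⟨(injective_iff_map_eq_one _).2 fun γ hγ => ?_, fun g => ?_⟩
  · obtain ⟨w, x, hc⟩ := hall γ
    obtain ⟨w', x', hc'⟩ := hall 1
    have e : x = x' := by
      obtain ⟨-, -, -, -, e⟩ := hc
      obtain ⟨-, -, -, -, e'⟩ := hc'
      rw [← e, ← e', L.pt_mk, L.pt_mk, hγ, map_one]
    subst e
    have hH : γ ∈ H := by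
      simpa using inv_mem (QuotientGroup.eq.1 (huniq hc hc'))
    exact L.inj hH H.one_mem (hγ.trans (map_one π).symm)
  · obtain ⟨w, haw, hwa⟩ := S.mid_two (g • a)
    obtain ⟨c, d, -, -, -, e⟩ := L.via_exists S haw hwa
    induction c using QuotientGroup.induction_on with
    | H γ =>
      have : (π γ)⁻¹ * g ∈ stabilizer G a := by
        rw [MulAction.mem_stabilizer_iff, mul_smul, inv_smul_eq_iff]
        exact e.symm
      rw [← L.onto] at this
      obtain ⟨h, -, hh⟩ := this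
      exact ⟨γ * h, by rw [map_mul, hh, mul_inv_cancel_left]⟩

omit S

/-- the map is bijective -/
theorem bijective (S : Graph G M a) : Function.Bijective π :=
  L.bijective_of S.toGraphBase fun hc hc' => L.via_unique_of S.toGraphBase hc hc' fun hax w w' h1 h2 h3 h4 =>
    Relation.ReflTransGen.mono (fun _ _ h => ⟨h.1.imp_right Or.inl, h.2⟩) _ _ (S.conn _ w w' hax h1 h2 h3 h4)

end Lift

end CfsgLib.Lie.BoundedPres.SUGraph
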