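import Cfsg.Agent.Lib.Lie.BoundedPres.SU.Step
import Mathlib.GroupTheory.Perm.Cycle.Type

/-!
# Unitary groups from a family of subgroups permuted by the alternating group

Subgroups attached to small sets of coordinates, permuted like the sets, generate the unitary group as soon as
those of the first few coordinates do so.
-/

set_option autoImplicit false

namespace CfsgLib.Lie.BoundedPres.SUGraph

open Matrix Equiv CfsgLib.SU

universe u

variable {F : Type u} [Field F] [Fintype F] {q n : ℕ} {Γ : Type*} [Group Γ]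

/-- the subgroup of the first `k` coordinates -/
def famJ (Fm : Finset (Fin n) → Subgroup Γ) (k : ℕ) : Subgroup Γ :=
  Subgroup.closure {x | ∃ T, (∀ i ∈ T, i.val < k) ∧ x ∈ Fm T}

theorem le_famJ {Fm : Finset (Fin n) → Subgroup Γ} {k : ℕ} {T : Finset (Fin n)} (h : ∀ i ∈ T, i.val < k) :
    Fm T ≤ famJ Fm k := fun _ hx => Subgroup.subset_closure ⟨T, h, hx⟩

theorem famJ_mono {Fm : Finset (Fin n) → Subgroup Γ} {j k : ℕ} (h : j ≤ k) : famJ Fm j ≤ famJ Fm k :=
  Subgroup.closure_mono fun _ ⟨T, hT, hx⟩ => ⟨T, fun i hi => lt_of_lt_of_le (hT i hi) h, hx⟩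

theorem famJ_top {Fm : Finset (Fin n) → Subgroup Γ} {k : ℕ} (h : n ≤ k) :
    famJ Fm k = ⨆ T, Fm T := by
  refine le_antisymm ((Subgroup.closure_le _).2 ?_) (iSup_le fun T => le_famJ fun i _ => lt_of_lt_of_le i.isLt h)
  rintro x ⟨T, -, hx⟩
  exact le_iSup Fm T hx

/-- a three-cycle -/
def cyc3 (a b c : Fin n) (hab : a ≠ b) (hbc : b ≠ c) : alternatingGroup (Fin n) :=
  ⟨swap a b * swap b c, Perm.mem_alternatingGroup.2 (by simp [Perm.sign_swap hab, Perm.sign_swap hbc])⟩

theorem cyc3_apply {a b c : Fin n} (hab : a ≠ b) (hac : a ≠ c) (hbc : b ≠ c) :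
    (cyc3 a b c hab hbc).1 a = b ∧ (cyc3 a b c hab hbc).1 b = c ∧ (cyc3 a b c hab hbc).1 c = a ∧
      ∀ x, x ≠ a → x ≠ b → x ≠ c → (cyc3 a b c hab hbc).1 x = x := by
  refine ⟨?_, ?_, ?_, fun x h1 h2 h3 => ?_⟩ <;> show swap a b (swap b c _) = _
  · rw [swap_apply_of_ne_of_ne hab hac, swap_apply_left]
  · rw [swap_apply_left, swap_apply_of_ne_of_ne hac.symm hbc.symm]
  · rw [swap_apply_right, swap_apply_right]
  · rw [swap_apply_of_ne_of_ne h2 h3, swap_apply_of_ne_of_ne h1 h2]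

/-- a double transposition -/
def dsw (a b c d : Fin n) (hab : a ≠ b) (hcd : c ≠ d) : alternatingGroup (Fin n) :=
  ⟨swap a b * swap c d, Perm.mem_alternatingGroup.2 (by simp [Perm.sign_swap hab, Perm.sign_swap hcd])⟩

theorem dsw_eq {a b c d : Fin n} (hab : a ≠ b) (hcd : c ≠ d) (hbc : b ≠ c) :
    dsw a b c d hab hcd = cyc3 a b c hab hbc * cyc3 b c d hbc hcd := by
  apply Subtype.ext
  show swap a b * swap c d = swap a b * swap b c * (swap b c * swap c d)
  rw [mul_assoc, ← mul_assoc (swap b c), Equiv.swap_mul_self, one_mul]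

/-- the three-cycle of the last three of the first `k + 1` coordinates -/
def topCyc {k : ℕ} (hk : k < n) (h4 : 4 ≤ k) : alternatingGroup (Fin n) :=
  cyc3 ⟨k, hk⟩ ⟨k - 1, by omega⟩ ⟨k - 2, by omega⟩ (by simp only [ne_eq, Fin.ext_iff]; omega)
    (by simp only [ne_eq, Fin.ext_iff]; omega)

/-- the conditions -/
structure FamData (C : UCtx F q) (π : Γ →* ↥(Cfsg.SU n F q)) (ρ : alternatingGroup (Fin n) →* Γ)
    (Fm : Finset (Fin n) → Subgroup Γ) (k₀ : ℕ) : Prop where
  hπρ : ∀ σ, π (ρ σ) = pA C σ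
  conj : ∀ (σ : alternatingGroup (Fin n)) (T : Finset (Fin n)), ∀ x ∈ Fm T,
    ρ σ * x * (ρ σ)⁻¹ ∈ Fm (T.image σ.1)
  small : ∀ (T : Finset (Fin n)), k₀ < T.card → Fm T = ⊥
  cyc : ∀ (k : ℕ) (a b c : Fin n) (hab : a ≠ b) (hbc : b ≠ c), k₀ ≤ k → a ≠ c → a.val < k → b.val < k →
    c.val < k → ρ (cyc3 a b c hab hbc) ∈ famJ Fm k

/-- the subgroup of the first `k` coordinates is the unitary group -/
def FamOK (π : Γ →* ↥(Cfsg.SU n F q)) (Fm : Finset (Fin n) → Subgroup Γ) (k : ℕ) : Prop :=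
  Set.InjOn π (famJ Fm k) ∧ (famJ Fm k).map π = fixFrom k

variable {C : UCtx F q} {π : Γ →* ↥(Cfsg.SU n F q)} {ρ : alternatingGroup (Fin n) →* Γ}
  {Fm : Finset (Fin n) → Subgroup Γ} {k₀ : ℕ}

theorem FamData.next_of_loc (D : FamData C π ρ Fm k₀) {k : ℕ} (hk₀ : k₀ ≤ k) (h4 : 4 ≤ k) (hk : k < n)
    (hq : (∃ s : F, C.bar s = s ∧ s ≠ 0 ∧ s ≠ 1) ∨ k = 4 ∨ 6 ≤ k ∨
      (k = 5 ∧ (∀ s : F, C.bar s = s → s = 0 ∨ s = 1) ∧ SixLinks π (famJ Fm k) (ρ (topCyc hk h4))))
    (hP : FamOK π Fm k)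
    (hloc : ∀ h ∈ famJ Fm k, π h ∈ fixFrom (k - 1) →
      (ρ (topCyc hk h4))⁻¹ * h * ρ (topCyc hk h4) ∈ famJ Fm k) :
    FamOK π Fm (k + 1) := by
  classical
  obtain ⟨hinj, hmap⟩ := hP
  let a : Fin n := ⟨k, hk⟩
  let b : Fin n := ⟨k - 1, by omega⟩
  let c : Fin n := ⟨k - 2, by omega⟩
  have hab : a ≠ b := by simp [a, b, Fin.ext_iff]; omega
  have hbc : b ≠ c := by simp [b, c, Fin.ext_iff]; omega
  have hac : a ≠ c := by simp [a, c, Fin.ext_iff]; omega
  set σ := cyc3 a b c hab hbc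
  obtain ⟨s1, s2, s3, s4⟩ := cyc3_apply hab hac hbc
  set r := ρ σ
  have hrK : r ∈ famJ Fm (k + 1) := D.cyc (k + 1) a b c hab hbc (by omega) hac (by simp [a])
    (by simp [b]) (by simp [c])
  let u : Fin n := ⟨0, by omega⟩
  let v : Fin n := ⟨1, by omega⟩
  have huv : u ≠ v := by simp [u, v, Fin.ext_iff]
  have hcu : c ≠ u := by simp [c, u, Fin.ext_iff]; omega
  set τ := dsw b c u v hbc huv
  have hcv : c ≠ v := by simp [c, v, Fin.ext_iff]; omega
  have hbu : b ≠ u := by simp [b, u, Fin.ext_iff]; omega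
  have hbv : b ≠ v := by simp [b, v, Fin.ext_iff]; omega
  have hτH : ρ τ ∈ famJ Fm k := by
    rw [show τ = cyc3 b c u hbc hcu * cyc3 c u v hcu huv from dsw_eq hbc huv hcu, map_mul]
    exact mul_mem
      (D.cyc k b c u hbc hcu hk₀ hbu (by simp [b]; omega) (by simp [c]; omega) (by simp [u]; omega))
      (D.cyc k c u v hcu huv hk₀ hcv (by simp [c]; omega) (by simp [u]; omega) (by simp [v]; omega))
  have hrev : ρ τ * r * (ρ τ)⁻¹ = r⁻¹ := by
    rw [← map_inv, ← map_inv, ← map_mul, ← map_mul]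
    congr 1
    apply Subtype.ext
    have t1 : τ.1 a = a := by
      show swap b c (swap u v a) = a
      rw [swap_apply_of_ne_of_ne (a := u) (b := v) (by simp [a, u, Fin.ext_iff]; omega)
        (by simp [a, v, Fin.ext_iff]; omega), swap_apply_of_ne_of_ne hab hac]
    have t2 : τ.1 b = c := by
      show swap b c (swap u v b) = c
      rw [swap_apply_of_ne_of_ne hbu hbv, swap_apply_left]
    have t3 : τ.1 c = b := by
      show swap b c (swap u v c) = b
      rw [swap_apply_of_ne_of_ne hcu hcv, swap_apply_right]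
    show τ.1 * σ.1 * τ.1⁻¹ = σ.1⁻¹
    rw [eq_inv_iff_mul_eq_one]
    refine Perm.ext fun x => ?_
    simp only [Perm.mul_apply, Perm.one_apply, Perm.inv_def]
    rw [← Equiv.eq_symm_apply]
    by_cases hxa : x = a
    · subst hxa
      rw [s1, show τ.1.symm b = c by rw [Equiv.symm_apply_eq, t3], s3, show τ.1.symm a = a by rw [Equiv.symm_apply_eq, t1]]
    by_cases hxb : x = b
    · subst hxb
      rw [s2, show τ.1.symm c = b by rw [Equiv.symm_apply_eq, t2], s2, show τ.1.symm b = c by rw [Equiv.symm_apply_eq, t3]]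
    by_cases hxc : x = c
    · subst hxc
      rw [s3, show τ.1.symm a = a by rw [Equiv.symm_apply_eq, t1], s1, show τ.1.symm c = b by rw [Equiv.symm_apply_eq, t2]]
    · rw [s4 x hxa hxb hxc, s4]
      · intro e; exact hxa ((Equiv.symm_apply_eq _).1 e |>.trans t1)
      · intro e; exact hxc ((Equiv.symm_apply_eq _).1 e |>.trans t2)
      · intro e; exact hxb ((Equiv.symm_apply_eq _).1 e |>.trans t3)
  have hr3 : r * r * r = 1 := by
    rw [← map_mul, ← map_mul]
    refine (congrArg ρ (Subtype.ext (Perm.ext fun x => ?_))).trans (map_one ρ)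
    show σ.1 (σ.1 (σ.1 x)) = x
    by_cases hxa : x = a
    · subst hxa; rw [s1, s2, s3]
    by_cases hxb : x = b
    · subst hxb; rw [s2, s3, s1]
    by_cases hxc : x = c
    · subst hxc; rw [s3, s1, s2]
    · rw [s4 x hxa hxb hxc, s4 x hxa hxb hxc, s4 x hxa hxb hxc]
  have hrfix : π r ∈ fixFrom (k + 1) := by
    intro i hi
    rw [D.hπρ, pA_sv, s4 i] <;> intro e <;> simp [e, a, b, c] at hi <;> omega
  obtain ⟨h1, h2⟩ := step C (by omega) h4 π (famJ Fm k) r hq hinj hmap hrfix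
    (by rw [D.hπρ, pA_sv, s1]) (by rw [D.hπρ, pA_sv, s2]) hr3 ⟨ρ τ, hτH, hrev⟩ hloc
  have hgen : famJ Fm (k + 1) = Subgroup.closure ((famJ Fm k : Set Γ) ∪ {r}) := by
    set M := Subgroup.closure ((famJ Fm k : Set Γ) ∪ {r}) with hM
    have hHM : famJ Fm k ≤ M := fun x hx => Subgroup.subset_closure (Or.inl hx)
    have hrM : r ∈ M := Subgroup.subset_closure (Or.inr rfl)
    refine le_antisymm ((Subgroup.closure_le _).2 ?_) ((Subgroup.closure_le _).2 ?_)
    · rintro x ⟨T, hT, hx⟩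
      by_cases hbot : Fm T = ⊥
      · rw [hbot] at hx; rw [Subgroup.mem_bot.1 hx]; exact one_mem _
      have hcard : T.card ≤ k := le_trans (not_lt.1 fun h => hbot (D.small T h)) hk₀
      by_cases ha : a ∈ T
      swap
      · refine hHM (le_famJ (fun i hi => ?_) hx)
        have := hT i hi
        have : i.val ≠ k := fun e => ha (by rwa [show a = i from Fin.ext e.symm])
        omega
      have main : ∀ (T : Finset (Fin n)), (∀ i ∈ T, i.val < k + 1) → b ∉ T → ∀ x ∈ Fm T, x ∈ M := by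
        intro T hT hb x hx
        have h' := hHM (le_famJ (k := k) (fun i hi => ?_) (D.conj σ⁻¹ T x hx))
        · rw [map_inv, inv_inv] at h'
          have := mul_mem (mul_mem hrM h') (inv_mem hrM)
          rwa [show r * (r⁻¹ * x * r) * r⁻¹ = x by group] at this
        obtain ⟨j, hj, rfl⟩ := Finset.mem_image.1 hi
        show ((σ⁻¹).1 j).val < k
        by_cases hja : j = a
        · subst hja
          rw [show (σ⁻¹).1 a = c from (Equiv.symm_apply_eq _).2 s3.symm]
          simp [c]; omega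
        have hjk : j.val < k := by
          have := hT j hj
          have : j.val ≠ k := fun e => hja (Fin.ext e)
          omega
        by_cases hjc : j = c
        · subst hjc
          rw [show (σ⁻¹).1 c = b from (Equiv.symm_apply_eq _).2 s2.symm]
          simp [b]; omega
        · rw [show (σ⁻¹).1 j = j from
            (Equiv.symm_apply_eq _).2 (s4 j hja (fun e => hb (e ▸ hj)) hjc).symm]
          exact hjk
      by_cases hb : b ∈ T
      swap
      · exact main T hT hb x hx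
      obtain ⟨w, hwk, hwT⟩ : ∃ w : Fin n, w.val < k ∧ w ∉ T := by
        by_contra hcon
        push Not at hcon
        have hle : Finset.univ.filter (fun i : Fin n => i.val < k) ⊆ T.erase a := fun i hi => by
          simp only [Finset.mem_filter, Finset.mem_univ, true_and] at hi
          exact Finset.mem_erase.2 ⟨fun e => by simp [e, a] at hi, hcon i hi⟩
        have := Finset.card_le_card hle
        rw [Finset.card_erase_of_mem ha, Fin.card_filter_val_lt] at this
        omega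
      obtain ⟨z, hzk, hzb, hzw⟩ : ∃ z : Fin n, z.val < k ∧ z ≠ b ∧ z ≠ w := by
        by_cases hw0 : w.val = 0
        · exact ⟨v, by simp [v]; omega, hbv.symm, fun e => by simp [← e, v] at hw0⟩
        · exact ⟨u, by simp [u]; omega, hbu.symm, fun e => hw0 (by simp [← e, u])⟩
      have hbw : b ≠ w := fun e => hwT (e ▸ hb)
      obtain ⟨g1, g2, g3, g4⟩ := cyc3_apply hbw hzb.symm hzw.symm
      set g := cyc3 b w z hbw hzw.symm
      have hg : ρ g ∈ M := hHM (D.cyc k b w z hbw hzw.symm hk₀ hzb.symm (by simp [b]; omega) hwk hzk)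
      have hb' : b ∉ T.image (g⁻¹).1 := by
        intro hmem
        obtain ⟨j, hj, e⟩ := Finset.mem_image.1 hmem
        exact hwT (by rwa [← g1, ← (Equiv.symm_apply_eq _).1 e])
      have h' := main _ (fun i hi => ?_) hb' _ (D.conj g⁻¹ T x hx)
      · rw [map_inv, inv_inv] at h'
        have := mul_mem (mul_mem hg h') (inv_mem hg)
        rwa [show ρ g * ((ρ g)⁻¹ * x * ρ g) * (ρ g)⁻¹ = x by group] at this
      obtain ⟨j, hj, rfl⟩ := Finset.mem_image.1 hi
      have hjk := hT j hj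
      by_contra hge
      have e : g.1 ((g⁻¹).1 j) = (g⁻¹).1 j := g4 _
        (fun e => hge (by show ((g⁻¹).1 j).val < k + 1; rw [e]; simp [b]))
        (fun e => hge (by show ((g⁻¹).1 j).val < k + 1; rw [e]; omega))
        (fun e => hge (by show ((g⁻¹).1 j).val < k + 1; rw [e]; omega))
      rw [show g.1 ((g⁻¹).1 j) = j from Equiv.apply_symm_apply _ _] at e
      exact hge (lt_of_eq_of_lt (congrArg Fin.val e.symm) hjk)
    · rintro x (hx | rfl)
      · exact famJ_mono (Nat.le_succ k) hx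
      · exact hrK
  exact ⟨hgen ▸ h1, hgen ▸ h2⟩

/-- the local condition from one step back -/
theorem FamData.next (D : FamData C π ρ Fm k₀) {k : ℕ} (hk₀ : k₀ ≤ k) (h4 : 4 ≤ k) (hk : k < n)
    (hq : (∃ s : F, C.bar s = s ∧ s ≠ 0 ∧ s ≠ 1) ∨ k = 4 ∨ 6 ≤ k ∨
      (k = 5 ∧ (∀ s : F, C.bar s = s → s = 0 ∨ s = 1) ∧ SixLinks π (famJ Fm k) (ρ (topCyc hk h4))))
    (hP : FamOK π Fm k) (hprev : (famJ Fm (k - 1)).map π = fixFrom (k - 1)) : FamOK π Fm (k + 1) := by
  refine D.next_of_loc hk₀ h4 hk hq hP ?_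
  classical
  obtain ⟨hinj, hmap⟩ := hP
  set a : Fin n := ⟨k, hk⟩ with ha
  set b : Fin n := ⟨k - 1, by omega⟩ with hb
  set c : Fin n := ⟨k - 2, by omega⟩ with hc
  have hac : a ≠ c := by simp [a, c, Fin.ext_iff]; omega
  have hab : a ≠ b := by simp [a, b, Fin.ext_iff]; omega
  have hbc : b ≠ c := by simp [b, c, Fin.ext_iff]; omega
  show ∀ h ∈ famJ Fm k, π h ∈ fixFrom (k - 1) → (ρ (cyc3 a b c hab hbc))⁻¹ * h * ρ (cyc3 a b c hab hbc) ∈ famJ Fm k
  set σ := cyc3 a b c hab hbc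
  obtain ⟨s1, s2, s3, s4⟩ := cyc3_apply hab hac hbc
  set r := ρ σ
  intro h hh hf
  rw [← hprev] at hf
  obtain ⟨h', hh', e⟩ := hf
  obtain rfl : h' = h := hinj (famJ_mono (Nat.sub_le k 1) hh') hh e
  have hle : famJ Fm (k - 1) ≤ (famJ Fm k).comap (MulAut.conj r⁻¹).toMonoidHom := by
    refine (Subgroup.closure_le _).2 ?_
    rintro x ⟨T, hT, hx⟩
    show r⁻¹ * x * r⁻¹⁻¹ ∈ famJ Fm k
    rw [← map_inv]
    refine le_famJ (fun i hi => ?_) (D.conj σ⁻¹ T x hx)
    obtain ⟨j, hj, rfl⟩ := Finset.mem_image.1 hi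
    have hjk := hT j hj
    have hjb : j ≠ b := fun e => by simp [e, b] at hjk
    have hja : j ≠ a := fun e => by simp [e, a] at hjk; omega
    show ((σ⁻¹).1 j).val < k
    by_cases hjc : j = c
    · subst hjc
      rw [show (σ⁻¹).1 c = b from (Equiv.symm_apply_eq _).2 s2.symm]
      simp [b]; omega
    · rw [show (σ⁻¹).1 j = j from (Equiv.symm_apply_eq _).2 (s4 j hja hjb hjc).symm]
      omega
  simpa using hle hh'

/-- the induction -/
theorem FamData.all (D : FamData C π ρ Fm k₀) {j : ℕ} (hj : k₀ ≤ j) (h4 : 4 ≤ j) (hjn : j ≤ n)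
    (hq : (∃ s : F, C.bar s = s ∧ s ≠ 0 ∧ s ≠ 1) ∨ 6 ≤ j ∨ (j = 4 ∧ n = 5)) (hP : FamOK π Fm j)
    (hprev : (famJ Fm (j - 1)).map π = fixFrom (j - 1)) :
    ∀ k, j ≤ k → k ≤ n → FamOK π Fm k ∧ (famJ Fm (k - 1)).map π = fixFrom (k - 1) := by
  intro k hjk
  induction k, hjk using Nat.le_induction with
  | base => exact fun _ => ⟨hP, hprev⟩
  | succ k hk ih =>
    intro hkn
    obtain ⟨h1, h2⟩ := ih (by omega)
    refine ⟨D.next (by omega) (by omega) (by omega) ?_ h1 h2, ?_⟩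
    · rcases hq with h | h | ⟨h, h'⟩
      exacts [Or.inl h, Or.inr (Or.inr (Or.inl (by omega))), Or.inr (Or.inl (by omega))]
    · rw [Nat.add_sub_cancel]; exact h1.2

end CfsgLib.Lie.BoundedPres.SUGraph
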