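import Cfsg.Agent.Lib.Lie.BoundedPres.SU.Coords
import Cfsg.Agent.Lib.Lie.BoundedPres.AltStab

/-!
# The unitary groups of the coordinate pairs generate

Over a fixed field with more than two elements: a vector of norm one is moved to a coordinate vector by pairs.
-/

set_option autoImplicit false

namespace CfsgLib.Lie.BoundedPres.SUGraph

open Matrix Equiv CfsgLib.SU CfsgLib.Lie.BoundedPres

universe u

variable {F : Type u} [Field F] [Fintype F] {q n : ℕ} (C : UCtx F q)

omit [Fintype F] in
/-- an isotropic vector is scaled by a fixed scalar, the orthogonal of a hyperbolic pair is fixed -/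
theorem exists_scale {e y : Fin n → F} (hee : C.form e e = 0) (hey : C.form e y = 1) {μ : F} (hμ : C.bar μ = μ)
    (hμ0 : μ ≠ 0) : ∃ A : ↥(Cfsg.SU n F q), A.1.1 *ᵥ e = μ • e ∧
      ∀ x, C.form x e = 0 → C.form x y = 0 → A.1.1 *ᵥ x = x := by
  classical
  obtain ⟨κ, hff, hef⟩ := C.exists_partner hee (y := y) hey
  set f := y + κ • e with hf
  have hfe : C.form f e = 1 := by rw [← C.bar_form, hef, map_one]
  set g := C.rmap e f (μ - 1) * C.rmap f e (μ⁻¹ - 1) with hg
  have hgv : ∀ x, g *ᵥ x = x + ((μ - 1) * C.form x f) • e + ((μ⁻¹ - 1) * C.form x e) • f := by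
    intro x
    rw [hg, ← Matrix.mulVec_mulVec, C.rmap_mulVec, C.rmap_mulVec, C.form_add_left, C.form_smul_left, hff,
      mul_zero, add_zero]
    abel
  refine ⟨C.mkSU g ?_ (fun x z => ?_), ?_, fun x h1 h2 => ?_⟩
  · rw [hg, det_mul, C.det_rmap, C.det_rmap, hef, hfe, mul_one, mul_one, add_sub_cancel, add_sub_cancel,
      mul_inv_cancel₀ hμ0]
  · rw [hgv, hgv]
    simp only [C.form_add_left, C.form_add_right, C.form_smul_left, C.form_smul_right, hee, hff, hef, hfe,
      map_mul, map_sub, map_one, map_inv₀, hμ, C.bar_form]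
    field_simp
    ring
  · show g *ᵥ e = _
    rw [hgv, hee, hef, mul_one, mul_zero, zero_smul, add_zero, sub_smul, one_smul, add_sub_cancel]
  · show g *ᵥ x = _
    rw [hgv, h1, show C.form x f = 0 by rw [hf, C.form_add_right, C.form_smul_right, h2, h1]; simp]
    simp

omit [Fintype F] in
theorem sum_sv (x : Fin n → F) : x = ∑ i, x i • sv i := by
  funext l
  simp [sv, Finset.sum_apply, Pi.single_apply]

omit [Fintype F] in
theorem eq_two {a b : Fin n} (hab : a ≠ b) {x : Fin n → F} (h : ∀ l, l ≠ a → l ≠ b → x l = 0) :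
    x = x a • sv a + x b • sv b := by
  funext l
  by_cases ha : l = a
  · subst ha; simp [sv, hab]
  by_cases hb : l = b
  · subst hb; simp [sv, Ne.symm hab]
  · simp [sv, ha, hb, h l ha hb]

/-- the elements fixing all coordinate vectors but two -/
def pairFix (a b : Fin n) : Subgroup ↥(Cfsg.SU n F q) where
  carrier := {A | ∀ l, l ≠ a → l ≠ b → A.1.1 *ᵥ sv l = sv l}
  one_mem' _ _ _ := su_one_mulVec _
  mul_mem' := fun {x y} hx hy l h1 h2 => by rw [suMat_mulVec_mul, hy l h1 h2, hx l h1 h2]
  inv_mem' := fun {x} hx l h1 h2 => by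
    conv_lhs => rw [← hx l h1 h2, su_inv_mulVec]

/-- a unitary matrix of size two on two coordinates -/
theorem exists_rotate {a b : Fin n} (hab : a ≠ b) {x : Fin n → F} {m y : F}
    (hm : x a * C.bar (x a) + x b * C.bar (x b) = m) (hm0 : m ≠ 0) (hy : y * C.bar y = m) :
    ∃ A ∈ pairFix (F := F) (q := q) a b,
      (A.1.1 *ᵥ x) a = y ∧ (A.1.1 *ᵥ x) b = 0 ∧ ∀ l, l ≠ a → l ≠ b → (A.1.1 *ᵥ x) l = x l := by
  classical
  have hbm : C.bar m = m := by rw [← hy]; exact C.norm_fixed y
  set c := y / m with hc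
  have hcn : c * C.bar c * m = 1 := by
    rw [hc, map_div₀, hbm]; field_simp; linear_combination hy
  let M : Matrix (Fin n) (Fin n) F := fun i l =>
    if i = a then (if l = a then c * C.bar (x a) else if l = b then c * C.bar (x b) else 0)
    else if i = b then (if l = a then -(C.bar c * x b) else if l = b then C.bar c * x a else 0)
    else if i = l then 1 else 0
  have hMv : ∀ v : Fin n → F, ∀ i, (M *ᵥ v) i =
      if i = a then c * (C.bar (x a) * v a + C.bar (x b) * v b)
      else if i = b then C.bar c * (x a * v b - x b * v a) else v i := by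
    intro v i
    simp only [mulVec, dotProduct, M]
    by_cases hia : i = a
    · simp only [if_pos hia]
      rw [Finset.sum_eq_add (s := Finset.univ) a b hab (fun l _ h => by simp [h.1, h.2]) (by simp) (by simp)]
      simp [Ne.symm hab]; ring
    simp only [if_neg hia]
    by_cases hib : i = b
    · simp only [if_pos hib]
      rw [Finset.sum_eq_add (s := Finset.univ) a b hab (fun l _ h => by simp [h.1, h.2]) (by simp) (by simp)]
      simp [Ne.symm hab]; ring
    simp [hib]
  have hform : ∀ v w : Fin n → F, C.form (M *ᵥ v) (M *ᵥ w) = C.form v w := by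
    intro v w
    simp only [UCtx.form]
    rw [← Finset.sum_sdiff (s₁ := {a, b}) (Finset.subset_univ _),
      ← Finset.sum_sdiff (s₁ := {a, b}) (Finset.subset_univ _) (f := fun i => v i * C.bar (w i))]
    congr 1
    · refine Finset.sum_congr rfl fun i hi => ?_
      simp only [Finset.mem_sdiff, Finset.mem_univ, true_and, Finset.mem_insert, Finset.mem_singleton,
        not_or] at hi
      rw [hMv, hMv, if_neg hi.1, if_neg hi.2, if_neg hi.1, if_neg hi.2]
    · rw [Finset.sum_pair hab, Finset.sum_pair hab, hMv, hMv, hMv, hMv]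
      simp only [if_pos, if_neg (Ne.symm hab), map_mul, map_add, map_sub, C.bar_bar]
      linear_combination (c * C.bar c * (v a * C.bar (w a) + v b * C.bar (w b))) * hm +
        (v a * C.bar (w a) + v b * C.bar (w b)) * hcn
  have hdet : M.det = 1 := by
    let U : Matrix (Fin n) (Fin 2) F := Matrix.of fun i k => if i = ![a, b] k then 1 else 0
    let V : Matrix (Fin 2) (Fin n) F := Matrix.of fun k l => M (![a, b] k) l - if ![a, b] k = l then 1 else 0
    have hsplit : M = 1 + U * V := by
      funext i l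
      rw [Matrix.add_apply, Matrix.mul_apply, Fin.sum_univ_two]
      by_cases hia : i = a
      · subst hia; simp [U, V, Matrix.one_apply, hab]; split_ifs with h <;> simp [h]
      by_cases hib : i = b
      · subst hib; simp [U, V, Matrix.one_apply, Ne.symm hab]
      · simp [U, V, M, Matrix.one_apply, hia, hib]
    rw [hsplit, Matrix.det_one_add_mul_comm, Matrix.det_fin_two]
    have hVU : ∀ k j, (V * U) k j = V k (![a, b] j) := fun k j => by
      rw [Matrix.mul_apply, Finset.sum_eq_single (![a, b] j)]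
      · simp [U]
      · intro l _ hl; simp [U, hl]
      · intro h; exact absurd (Finset.mem_univ _) h
    simp only [Matrix.add_apply, hVU]
    simp [V, M, hab, Ne.symm hab]
    linear_combination hcn + (c * C.bar c) * hm
  refine ⟨C.mkSU M hdet hform, fun l h1 h2 => ?_, ?_, ?_, fun l h1 h2 => ?_⟩
  · show M *ᵥ sv l = sv l
    funext i
    rw [hMv]
    split_ifs with e1 e2 <;> simp [sv, h1.symm, h2.symm, e1, Ne.symm hab]
    subst e2; simp [h2.symm]
  · show (M *ᵥ x) a = y
    rw [hMv, if_pos rfl]
    rw [hc]; field_simp; linear_combination y * hm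
  · show (M *ᵥ x) b = 0
    rw [hMv, if_neg (Ne.symm hab), if_pos rfl]
    ring
  · show (M *ᵥ x) l = x l
    rw [hMv, if_neg h1, if_neg h2]

/-- an isotropic pair of coordinates is scaled -/
theorem exists_scale_pair {a b : Fin n} (hab : a ≠ b) {x : Fin n → F}
    (hm : x a * C.bar (x a) + x b * C.bar (x b) = 0) (ha : x a ≠ 0) {μ : F} (hμ : C.bar μ = μ) (hμ0 : μ ≠ 0) :
    ∃ A ∈ pairFix (F := F) (q := q) a b,
      (A.1.1 *ᵥ x) a = μ * x a ∧ (A.1.1 *ᵥ x) b = μ * x b ∧ ∀ l, l ≠ a → l ≠ b → (A.1.1 *ᵥ x) l = x l := by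
  classical
  set e : Fin n → F := x a • sv a + x b • sv b with he
  set y := (C.bar (x a))⁻¹ • (sv a : Fin n → F) with hy
  have hba : C.bar (x a) ≠ 0 := (map_ne_zero C.bar).2 ha
  have hee : C.form e e = 0 := by
    simp only [he, C.form_add_left, C.form_add_right, C.form_smul_left, C.form_smul_right, form_sv, if_neg hab,
      if_neg (Ne.symm hab), if_true]
    linear_combination hm
  have hey : C.form e y = 1 := by
    simp only [he, hy, C.form_add_left, C.form_smul_left, C.form_smul_right, form_sv, if_neg (Ne.symm hab), if_true,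
      map_inv₀, C.bar_bar]
    field_simp
    ring
  obtain ⟨A, hAe, hAx⟩ := exists_scale C hee hey hμ hμ0
  have hout : ∀ z : Fin n → F, z a = 0 → z b = 0 → C.form z e = 0 ∧ C.form z y = 0 := by
    intro z za zb
    have : ∀ l, C.form z (sv l) = z l := fun l => by simp [UCtx.form, sv, Pi.single_apply, apply_ite C.bar]
    simp [he, hy, C.form_add_right, C.form_smul_right, this, za, zb]
  have hz := hout (x - e) (by simp [he, sv, hab]) (by simp [he, sv, Ne.symm hab])
  have hAv : A.1.1 *ᵥ x = μ • e + (x - e) := by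
    conv_lhs => rw [show x = e + (x - e) by abel]
    rw [Matrix.mulVec_add, hAe, hAx _ hz.1 hz.2]
  refine ⟨A, fun l h1 h2 => hAx _ (hout _ (by simp [sv, h1.symm]) (by simp [sv, h2.symm])).1
    (hout _ (by simp [sv, h1.symm]) (by simp [sv, h2.symm])).2, ?_, ?_, fun l h1 h2 => ?_⟩
  · rw [hAv]; simp [he, sv, hab]
  · rw [hAv]; simp [he, sv, Ne.symm hab]
  · rw [hAv]; simp [he, sv, h1, h2]

open scoped _root_.Classical in
/-- a vector of norm one goes to a coordinate vector -/
theorem exists_to_sv (hq : ∃ s : F, C.bar s = s ∧ s ≠ 0 ∧ s ≠ 1) (P : Subgroup ↥(Cfsg.SU n F q)) {k : Fin n}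
    (hk0 : 0 < k.val)
    (hP : ∀ a b : Fin n, a ≠ b → a.val ≤ k.val → b.val ≤ k.val → pairFix a b ≤ P) :
    ∀ (m : ℕ) (x : Fin n → F), (Finset.univ.filter fun l => x l ≠ 0).card ≤ m → C.form x x = 1 →
      (∀ l : Fin n, k.val < l.val → x l = 0) → ∃ A ∈ P, A.1.1 *ᵥ x = sv k := by
  classical
  obtain ⟨s, hs, hs0, hs1⟩ := hq
  intro m
  induction m with
  | zero =>
    intro x hx hxx _
    have : x = 0 := funext fun l => by
      by_contra h
      exact absurd (Finset.mem_filter.2 ⟨Finset.mem_univ l, h⟩)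
        (by rw [Finset.card_eq_zero.1 (Nat.le_zero.1 hx)]; simp)
    rw [this, C.form_zero_left] at hxx
    exact absurd hxx zero_ne_one
  | succ m ih =>
    intro x hx hxx hsupp
    set S := Finset.univ.filter fun l => x l ≠ 0 with hS
    have hmem : ∀ l, l ∈ S ↔ x l ≠ 0 := fun l => by simp [hS]
    have hlt : ∀ l ∈ S, l.val ≤ k.val := fun l hl => not_lt.1 fun h => (hmem l).1 hl (hsupp l h)
    -- one pair with non-zero norm reduces the support
    have red : ∀ (z : Fin n → F) (a b : Fin n), (∀ l, z l ≠ 0 → l ∈ S) → C.form z z = 1 → a ∈ S → b ∈ S → a ≠ b →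
        z a * C.bar (z a) + z b * C.bar (z b) ≠ 0 → ∃ A ∈ P, A.1.1 *ᵥ z = sv k := by
      intro z a b hz hzz ha hb hab hne
      obtain ⟨y, hy⟩ := C.exists_norm (c := z a * C.bar (z a) + z b * C.bar (z b))
        (by rw [map_add, C.norm_fixed, C.norm_fixed])
      obtain ⟨A, hA, hAa, hAb, hAl⟩ := exists_rotate C hab rfl hne hy
      have hsub : (Finset.univ.filter fun l => (A.1.1 *ᵥ z) l ≠ 0) ⊆ S.erase b := fun l hl => by
        rw [Finset.mem_filter] at hl
        refine Finset.mem_erase.2 ⟨fun e => hl.2 (e ▸ hAb), ?_⟩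
        by_cases hla : l = a
        · exact hla ▸ ha
        · exact hz l (fun e => hl.2 (by rw [hAl l hla (fun e' => hl.2 (e' ▸ hAb)), e]))
      have hc : (Finset.univ.filter fun l => (A.1.1 *ᵥ z) l ≠ 0).card ≤ m := by
        have := Finset.card_le_card hsub
        rw [Finset.card_erase_of_mem hb] at this
        omega
      obtain ⟨B, hB, hBz⟩ := ih _ hc (by rw [C.form_su]; exact hzz) fun l hl => by
        by_contra h
        exact absurd (hlt l (Finset.mem_of_mem_erase (hsub (Finset.mem_filter.2 ⟨Finset.mem_univ l, h⟩)))) (by omega)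
      exact ⟨B * A, mul_mem hB (hP a b hab (hlt a ha) (hlt b hb) hA), by rw [suMat_mulVec_mul, hBz]⟩
    by_cases hgood : ∃ a ∈ S, ∃ b ∈ S, a ≠ b ∧ x a * C.bar (x a) + x b * C.bar (x b) ≠ 0
    · obtain ⟨a, ha, b, hb, hab, hne⟩ := hgood
      exact red x a b (fun l h => (hmem l).2 h) hxx ha hb hab hne
    push Not at hgood
    have hsum : C.form x x = ∑ l ∈ S, x l * C.bar (x l) := by
      rw [UCtx.form]
      refine (Finset.sum_subset (Finset.subset_univ S) fun l _ hl => ?_).symm
      rw [show x l = 0 from not_not.1 fun h => hl ((hmem l).2 h), zero_mul]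
    rcases Nat.lt_or_ge S.card 3 with h3 | h3
    · interval_cases hcard : S.card
      · rw [Finset.card_eq_zero.1 hcard, Finset.sum_empty, hxx] at hsum
        exact absurd hsum one_ne_zero
      · obtain ⟨a, haS⟩ := Finset.card_eq_one.1 hcard
        rw [haS, Finset.sum_singleton, hxx] at hsum
        have hx0 : ∀ l, l ≠ a → x l = 0 := fun l hl => not_not.1 fun h => hl (by
          have := (hmem l).2 h
          rwa [haS, Finset.mem_singleton] at this)
        by_cases hak : a = k
        · subst hak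
          by_cases hx1 : x a = 1
          · exact ⟨1, one_mem _, by
              rw [su_one_mulVec]; funext l
              by_cases hl : l = a
              · subst hl; simp [sv, hx1]
              · simp [sv, hl, hx0 l hl]⟩
          obtain ⟨c, hc⟩ : ∃ c : Fin n, c ≠ a ∧ c.val ≤ a.val :=
            ⟨⟨a.val - 1, by omega⟩, by simp [Fin.ext_iff]; omega, by simp⟩
          obtain ⟨A, hA, hAa, hAc, hAl⟩ := exists_rotate C hc.1.symm (x := x) (m := 1) (y := 1)
            (by rw [hx0 c hc.1, zero_mul, add_zero]; exact hsum.symm) one_ne_zero (by simp)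
          refine ⟨A, hP a c hc.1.symm le_rfl hc.2 hA, funext fun l => ?_⟩
          by_cases hl : l = a
          · subst hl; simp [hAa, sv]
          by_cases hl' : l = c
          · subst hl'; simp [hAc, sv, hl]
          · simp [hAl l hl hl', sv, hl, hx0 l hl]
        · obtain ⟨A, hA, hAa, hAc, hAl⟩ := exists_rotate C (Ne.symm hak) (x := x) (m := 1) (y := 1)
            (by rw [hx0 k (Ne.symm hak), zero_mul, zero_add]; exact hsum.symm) one_ne_zero (by simp)
          refine ⟨A, hP k a (Ne.symm hak) le_rfl (hlt a (haS ▸ Finset.mem_singleton_self a)) hA, funext fun l => ?_⟩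
          by_cases hl : l = k
          · subst hl; simp [hAa, sv]
          by_cases hl' : l = a
          · subst hl'; simp [hAc, sv, hl]
          · simp [hAl l hl hl', sv, hl, hx0 l hl']
      · obtain ⟨a, b, hab, hS2⟩ := Finset.card_eq_two.1 hcard
        rw [hS2, Finset.sum_pair hab, hxx, hgood a (by simp [hS2]) b (by simp [hS2]) hab] at hsum
        exact absurd hsum one_ne_zero
    · obtain ⟨a, ha, b, hb, c, hc, hab, hac, hbc⟩ := Finset.two_lt_card.1 h3
      have e1 := hgood a ha b hb hab
      have e2 := hgood a ha c hc hac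
      obtain ⟨A, hA, hAa, hAb, hAl⟩ := exists_scale_pair C hab e1 ((hmem a).1 ha) hs hs0
      have hne : (A.1.1 *ᵥ x) a * C.bar ((A.1.1 *ᵥ x) a) + (A.1.1 *ᵥ x) c * C.bar ((A.1.1 *ᵥ x) c) ≠ 0 := by
        rw [hAa, hAl c hac.symm hbc.symm, map_mul, hs]
        intro e
        have hx2 : (s ^ 2 - 1) * (x a * C.bar (x a)) = 0 := by linear_combination e - e2
        have e3 := hgood b hb c hc hbc
        have h20 : 2 * (x a * C.bar (x a)) = 0 := by linear_combination e1 + e2 - e3
        have hn0 : x a * C.bar (x a) ≠ 0 := mul_ne_zero ((hmem a).1 ha) ((map_ne_zero C.bar).2 ((hmem a).1 ha))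
        have h2 : (2 : F) = 0 := (mul_eq_zero.1 h20).resolve_right hn0
        have hsq : (s - 1) ^ 2 = 0 := by linear_combination (mul_eq_zero.1 hx2).resolve_right hn0 + (1 - s) * h2
        exact hs1 (sub_eq_zero.1 (pow_eq_zero_iff two_ne_zero |>.1 hsq))
      have hsub : ∀ l, (A.1.1 *ᵥ x) l ≠ 0 → l ∈ S := fun l hl => by
        by_cases hla : l = a
        · exact hla ▸ ha
        by_cases hlb : l = b
        · exact hlb ▸ hb
        · exact (hmem l).2 (by rwa [hAl l hla hlb] at hl)
      obtain ⟨B, hB, hBz⟩ := red _ a c hsub (by rw [C.form_su]; exact hxx) ha hc hac hne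
      exact ⟨B * A, mul_mem hB (hP a b hab (hlt a ha) (hlt b hb) hA), by rw [suMat_mulVec_mul, hBz]⟩

/-- the unitary groups of the pairs among the first `k` coordinates generate that of these coordinates -/
theorem fixFrom_le_of_pairs (hq : ∃ s : F, C.bar s = s ∧ s ≠ 0 ∧ s ≠ 1) (P : Subgroup ↥(Cfsg.SU n F q)) :
    ∀ k, 2 ≤ k → k ≤ n → (∀ a b : Fin n, a ≠ b → a.val < k → b.val < k → pairFix a b ≤ P) → fixFrom k ≤ P := by
  intro k hk
  induction k, hk using Nat.le_induction with
  | base =>
    intro hn hP A hA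
    exact hP ⟨0, by omega⟩ ⟨1, by omega⟩ (by simp [Fin.ext_iff]) (by simp) (by simp)
      fun l h1 h2 => hA l (by simp [Fin.ext_iff] at h1 h2; omega)
  | succ k hk ih =>
    intro hn hP A hA
    let t : Fin n := ⟨k, by omega⟩
    have hle : fixFrom k ≤ P := ih (by omega) fun a b hab ha hb => hP a b hab (by omega) (by omega)
    have hsupp : ∀ l : Fin n, k < l.val → (A.1.1 *ᵥ sv t) l = 0 := by
      intro l hl
      have h1 : C.form (A.1.1 *ᵥ sv t) (sv l) = 0 := by
        conv_lhs => rw [← hA l (by omega)]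
        rw [C.form_su, form_sv, if_neg (by simp [t, Fin.ext_iff]; omega)]
      simpa [UCtx.form, sv, Pi.single_apply, apply_ite C.bar] using h1
    obtain ⟨B, hB, hBv⟩ := exists_to_sv C hq (P ⊓ fixFrom (k + 1)) (k := t) (by simp [t]; omega) (fun a b hab ha hb X hX =>
        ⟨hP a b hab (Nat.lt_succ_of_le ha) (Nat.lt_succ_of_le hb) hX, fun l hl =>
          hX l (fun e => by subst e; simp [t] at ha; omega) (fun e => by subst e; simp [t] at hb; omega)⟩)
      n _ (le_trans (Finset.card_le_univ _) (by simp)) (by rw [C.form_su, form_sv, if_pos rfl]) hsupp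
    have : B * A ∈ fixFrom k := fun l hl => by
      rcases Nat.lt_or_ge k l.val with h | h
      · rw [suMat_mulVec_mul, hA l (by omega), hB.2 l (by omega)]
      · rw [show l = t from Fin.ext (by simp [t]; omega), suMat_mulVec_mul, hBv]
    exact (Subgroup.mul_mem_cancel_left _ hB.1).1 (hle this)

end CfsgLib.Lie.BoundedPres.SUGraph
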