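import Cfsg.Agent.Lib.Lie.BoundedPres.SU.Family
import Cfsg.Agent.Lib.Lie.BoundedPres.SU.Pairs

/-!
# `SU_n` from the alternating group and a copy of `SU₄`, more than two fixed scalars

The conjugates of the unitary group of the first two coordinates make a family on pairs; the relations needed are
that the two copies of `A₄` agree and that the even permutations fixing two points centralise that group.
-/

set_option autoImplicit false

namespace CfsgLib.Lie.BoundedPres.SUGraph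

open Matrix Equiv CfsgLib.SU CfsgLib.Lie.BoundedPres

universe u

variable {F : Type u} [Field F] [Fintype F] {q n : ℕ}

/-- the even permutations of the first four points -/
noncomputable def alt4 (hn : 4 ≤ n) : alternatingGroup (Fin 4) →* alternatingGroup (Fin n) :=
  ((Perm.viaEmbeddingHom ⟨four hn, four_inj hn⟩).comp (alternatingGroup (Fin 4)).subtype).codRestrict _ fun f => by
    simp only [MonoidHom.comp_apply, Perm.viaEmbeddingHom_apply, Perm.mem_alternatingGroup, sign_viaEmb]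
    exact f.2

theorem alt4_apply (hn : 4 ≤ n) (τ : alternatingGroup (Fin 4)) (i : Fin 4) :
    (alt4 hn τ).1 (four hn i) = four hn (τ.1 i) := Perm.viaEmbedding_apply τ.1 ⟨four hn, four_inj hn⟩ i

theorem alt4_fix (hn : 4 ≤ n) (τ : alternatingGroup (Fin 4)) (i : Fin n) (hi : 4 ≤ i.val) :
    (alt4 hn τ).1 i = i :=
  Perm.viaEmbedding_apply_of_notMem τ.1 ⟨four hn, four_inj hn⟩ _ fun ⟨j, hj⟩ => by
    have := congrArg (fun x : Fin n => x.val) hj
    simp [four] at this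
    omega

variable {C : UCtx F q}

/-- the embedding respects the permutation matrices -/
theorem emb_pA {hn : 4 ≤ n} {ι : ↥(Cfsg.SU 4 F q) →* ↥(Cfsg.SU n F q)}
    (hιr : ι.range = fixFrom 4)
    (hιe : ∀ (A : ↥(Cfsg.SU 4 F q)) (j : Fin 4), ∀ i : Fin n,
      (ι A).1.1 i (Fin.castLE hn j) = if h : i.val < 4 then A.1.1 ⟨i.val, h⟩ j else 0)
    (τ : alternatingGroup (Fin 4)) : ι (pA C τ) = pA C (alt4 hn τ) := by
  refine su_ext fun x => ?_
  rw [sum_sv x, Matrix.mulVec_sum, Matrix.mulVec_sum]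
  refine Finset.sum_congr rfl fun j _ => ?_
  rw [Matrix.mulVec_smul, Matrix.mulVec_smul, pA_sv]
  congr 1
  rcases Nat.lt_or_ge j.val 4 with hj | hj
  · funext i
    rw [sv, Matrix.mulVec_single_one]
    show (ι (pA C τ)).1.1 i j = _
    rw [show j = Fin.castLE hn ⟨j.val, hj⟩ from Fin.ext rfl, hιe,
      show (Fin.castLE hn ⟨j.val, hj⟩ : Fin n) = four hn ⟨j.val, hj⟩ from rfl, alt4_apply]
    by_cases hi : i.val < 4
    · rw [dif_pos hi]
      have h := congrFun (pA_sv C τ ⟨j.val, hj⟩) ⟨i.val, hi⟩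
      rw [sv, Matrix.mulVec_single_one] at h
      refine Eq.trans h ?_
      simp [sv, Pi.single_apply, four, Fin.ext_iff]
    · rw [dif_neg hi]
      have : i ≠ four hn (τ.1 ⟨j.val, hj⟩) := fun e => hi (by rw [e]; exact (τ.1 ⟨j.val, hj⟩).isLt)
      simp [sv, Pi.single_apply, this]
  · rw [alt4_fix hn τ j hj]
    exact (hιr ▸ ⟨pA C τ, rfl⟩ : ι (pA C τ) ∈ fixFrom 4) j hj

variable (C)

/-- the data of the gluing -/
structure Glue (hn : 4 ≤ n) {Γ : Type*} [Group Γ] (π : Γ →* ↥(Cfsg.SU n F q))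
    (ι : ↥(Cfsg.SU 4 F q) →* ↥(Cfsg.SU n F q)) (ρ : alternatingGroup (Fin n) →* Γ)
    (ψ : ↥(Cfsg.SU 4 F q) →* Γ) : Prop where
  hι : Function.Injective ι
  hιr : ι.range = fixFrom 4
  hιe : ∀ (A : ↥(Cfsg.SU 4 F q)) (j : Fin 4), ∀ i : Fin n,
    (ι A).1.1 i (Fin.castLE hn j) = if h : i.val < 4 then A.1.1 ⟨i.val, h⟩ j else 0
  hπρ : ∀ σ, π (ρ σ) = pA C σ
  hπψ : ∀ A, π (ψ A) = ι A
  agree : ∀ τ, ρ (alt4 hn τ) = ψ (pA C τ)
  cent : ∀ σ : alternatingGroup (Fin n), σ.1 (four hn 0) = four hn 0 → σ.1 (four hn 1) = four hn 1 →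
    ∀ A, ι A ∈ fixFrom 2 → Commute (ρ σ) (ψ A)

variable {C}

/-- the conjugates of the first pair -/
def pairFam (hn : 4 ≤ n) {Γ : Type*} [Group Γ] (ι : ↥(Cfsg.SU 4 F q) →* ↥(Cfsg.SU n F q))
    (ρ : alternatingGroup (Fin n) →* Γ) (ψ : ↥(Cfsg.SU 4 F q) →* Γ) (T : Finset (Fin n)) : Subgroup Γ :=
  Subgroup.closure {x | ∃ (σ : alternatingGroup (Fin n)) (A : ↥(Cfsg.SU 4 F q)), ι A ∈ fixFrom 2 ∧
    T = {σ.1 (four hn 0), σ.1 (four hn 1)} ∧ x = ρ σ * ψ A * (ρ σ)⁻¹}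

namespace Glue

variable {hn : 4 ≤ n} {Γ : Type*} [Group Γ] {π : Γ →* ↥(Cfsg.SU n F q)}
  {ι : ↥(Cfsg.SU 4 F q) →* ↥(Cfsg.SU n F q)} {ρ : alternatingGroup (Fin n) →* Γ} {ψ : ↥(Cfsg.SU 4 F q) →* Γ}
  (G : Glue C hn π ι ρ ψ)
include G

theorem famJ_le_fix (k : ℕ) : (famJ (pairFam hn ι ρ ψ) k).map π ≤ fixFrom k := by
  rw [Subgroup.map_le_iff_le_comap, famJ, Subgroup.closure_le]
  rintro x ⟨T, hT, hx⟩
  have hle : pairFam hn ι ρ ψ T ≤ (fixFrom k).comap π := by
    refine (Subgroup.closure_le _).2 ?_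
    rintro y ⟨σ, A, hA, rfl, rfl⟩ l hl
    rw [map_mul, map_mul, map_inv, ← map_inv, ← map_inv, G.hπρ, G.hπρ, G.hπψ, suMat_mulVec_mul, suMat_mulVec_mul,
      pA_sv, hA, pA_sv]
    · rw [show σ.1 ((σ⁻¹).1 l) = l from Equiv.apply_symm_apply _ _]
    · by_contra h
      have h0 := hT (σ.1 (four hn 0)) (by simp)
      have h1 := hT (σ.1 (four hn 1)) (by simp)
      have hl' : σ.1 ((σ⁻¹).1 l) = l := Equiv.apply_symm_apply _ _
      have hcase : (σ⁻¹).1 l = four hn 0 ∨ (σ⁻¹).1 l = four hn 1 := by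
        rcases Nat.lt_or_ge ((σ⁻¹).1 l).val 1 with e | e
        · exact Or.inl (Fin.ext (show ((σ⁻¹).1 l).val = 0 by omega))
        · exact Or.inr (Fin.ext (show ((σ⁻¹).1 l).val = 1 by omega))
      rcases hcase with e | e
      · rw [e] at hl'; rw [hl'] at h0; omega
      · rw [e] at hl'; rw [hl'] at h1; omega
  exact hle hx

theorem famJ_map (hq : ∃ s : F, C.bar s = s ∧ s ≠ 0 ∧ s ≠ 1) {k : ℕ} (hk : 2 ≤ k) (hkn : k ≤ n) :
    (famJ (pairFam hn ι ρ ψ) k).map π = fixFrom k := by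
  refine le_antisymm (G.famJ_le_fix k) (fixFrom_le_of_pairs C hq _ k hk hkn fun a b hab ha hb X hX => ?_)
  obtain ⟨σ, hσ0, hσ1⟩ := exists_pair_map hn (four hn 0) (four hn 1) a b ((four_inj hn).ne (by decide)) hab
  have hY : pA C σ⁻¹ * X * pA C σ ∈ fixFrom 2 := by
    intro l hl
    have hl0 : σ.1 l ≠ a := fun e => by
      have := σ.1.injective (e.trans hσ0.symm); subst this; simp [four] at hl
    have hl1 : σ.1 l ≠ b := fun e => by
      have := σ.1.injective (e.trans hσ1.symm); subst this; simp [four] at hl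
    rw [suMat_mulVec_mul, suMat_mulVec_mul, pA_sv, hX _ hl0 hl1, pA_sv]
    rw [show (σ⁻¹).1 (σ.1 l) = l from Equiv.symm_apply_apply _ _]
  obtain ⟨A, hA⟩ : pA C σ⁻¹ * X * pA C σ ∈ ι.range := G.hιr ▸ fixFrom_mono (by norm_num) hY
  refine ⟨ρ σ * ψ A * (ρ σ)⁻¹, le_famJ (k := k) (fun i hi => ?_)
    (Subgroup.subset_closure ⟨σ, A, hA ▸ hY, rfl, rfl⟩), ?_⟩
  · simp only [Finset.mem_insert, Finset.mem_singleton, hσ0, hσ1] at hi
    rcases hi with rfl | rfl
    exacts [ha, hb]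
  · rw [map_mul, map_mul, map_inv, G.hπρ, G.hπψ, hA, map_inv]
    group

theorem famJ_four_le : famJ (pairFam hn ι ρ ψ) 4 ≤ ψ.range := by
  refine (Subgroup.closure_le _).2 ?_
  rintro x ⟨T, hT, hx⟩
  have hle : pairFam hn ι ρ ψ T ≤ ψ.range := by
    refine (Subgroup.closure_le _).2 ?_
    rintro y ⟨σ, A, hA, rfl, rfl⟩
    have h0 := hT (σ.1 (four hn 0)) (by simp)
    have h1 := hT (σ.1 (four hn 1)) (by simp)
    obtain ⟨τ, ht0, ht1⟩ := exists_pair_map (n := 4) le_rfl (0 : Fin 4) 1 ⟨_, h0⟩ ⟨_, h1⟩ (by decide) (fun e => by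
      have := σ.1.injective (Fin.ext (congrArg (fun z : Fin 4 => z.val) e))
      exact absurd (four_inj hn this) (by decide))
    set μ := (alt4 hn τ)⁻¹ * σ with hμ
    have hfix : ∀ i, σ.1 (four hn i) = four hn (τ.1 i) → μ.1 (four hn i) = four hn i := fun i e => by
      show ((alt4 hn τ).1)⁻¹ (σ.1 (four hn i)) = _
      rw [e, ← alt4_apply]
      exact Equiv.symm_apply_apply _ _
    have c := G.cent μ (hfix 0 (by rw [ht0]; exact Fin.ext rfl)) (hfix 1 (by rw [ht1]; exact Fin.ext rfl)) A hA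
    rw [show σ = alt4 hn τ * μ by rw [hμ]; group, map_mul, G.agree]
    refine ⟨pA C τ * A * (pA C τ)⁻¹, ?_⟩
    rw [map_mul, map_mul, map_inv]
    calc ψ (pA C τ) * ψ A * (ψ (pA C τ))⁻¹
        = ψ (pA C τ) * (ψ A * ρ μ) * (ρ μ)⁻¹ * (ψ (pA C τ))⁻¹ := by group
      _ = ψ (pA C τ) * (ρ μ * ψ A) * (ρ μ)⁻¹ * (ψ (pA C τ))⁻¹ := by rw [c.eq]
      _ = _ := by group
  exact hle hx

theorem inj_range : Set.InjOn π ψ.range := by
  rintro _ ⟨A, rfl⟩ _ ⟨B, rfl⟩ h
  rw [G.hπψ, G.hπψ] at h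
  rw [G.hι h]

theorem fam_ok (hq : ∃ s : F, C.bar s = s ∧ s ≠ 0 ∧ s ≠ 1) :
    FamOK π (pairFam hn ι ρ ψ) 4 :=
  ⟨G.inj_range.mono G.famJ_four_le, G.famJ_map hq (by norm_num) hn⟩

theorem range_le (hq : ∃ s : F, C.bar s = s ∧ s ≠ 0 ∧ s ≠ 1) : ψ.range ≤ famJ (pairFam hn ι ρ ψ) 4 := by
  rintro _ ⟨A, rfl⟩
  obtain ⟨z, hz, e⟩ : ι A ∈ (famJ (pairFam hn ι ρ ψ) 4).map π := by
    rw [G.famJ_map hq (by norm_num) hn, ← G.hιr]; exact ⟨A, rfl⟩
  rw [← G.inj_range (G.famJ_four_le hz) ⟨A, rfl⟩ (e.trans (G.hπψ A).symm)]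
  exact hz

theorem fam_data (h5 : 5 ≤ n) (hq : ∃ s : F, C.bar s = s ∧ s ≠ 0 ∧ s ≠ 1) :
    FamData C π ρ (pairFam hn ι ρ ψ) 2 := by
  classical
  have conj : ∀ (σ : alternatingGroup (Fin n)) (T : Finset (Fin n)), ∀ x ∈ pairFam hn ι ρ ψ T,
      ρ σ * x * (ρ σ)⁻¹ ∈ pairFam hn ι ρ ψ (T.image σ.1) := by
    intro σ T
    have hle : pairFam hn ι ρ ψ T ≤ (pairFam hn ι ρ ψ (T.image σ.1)).comap (MulAut.conj (ρ σ)).toMonoidHom := by
      refine (Subgroup.closure_le _).2 ?_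
      rintro y ⟨μ, A, hA, rfl, rfl⟩
      refine Subgroup.subset_closure ⟨σ * μ, A, hA, by simp [Finset.image_insert], ?_⟩
      show ρ σ * (ρ μ * ψ A * (ρ μ)⁻¹) * (ρ σ)⁻¹ = _
      rw [map_mul]; group
    exact fun x hx => hle hx
  refine ⟨G.hπρ, conj, fun T hT => ?_, fun k a b c hab hbc _ hac ha hb hc => ?_⟩
  · rw [pairFam, Subgroup.closure_eq_bot_iff]
    rintro y ⟨μ, A, -, rfl, -⟩
    exact absurd hT (not_lt.2 Finset.card_le_two)
  · -- the first three-cycle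
    let p : Fin 4 → Fin n := four hn
    have hp : ∀ {i j : Fin 4}, i ≠ j → p i ≠ p j := fun h => (four_inj hn).ne h
    set τ : alternatingGroup (Fin 4) := cyc3 0 1 2 (by decide) (by decide) with hτ
    have hcyc : alt4 hn τ = cyc3 (p 0) (p 1) (p 2) (hp (by decide)) (hp (by decide)) := by
      refine Subtype.ext (Equiv.ext fun i => ?_)
      show _ = (swap (p 0) (p 1) * swap (p 1) (p 2)) i
      rcases Nat.lt_or_ge i.val 4 with hi | hi
      · rw [show i = p ⟨i.val, hi⟩ from Fin.ext rfl, alt4_apply, Perm.mul_apply]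
        simp only [p]
        rw [(four_inj hn).swap_apply, (four_inj hn).swap_apply]
        rfl
      · rw [alt4_fix hn τ i hi, Perm.mul_apply]
        have : ∀ j : Fin 4, i ≠ p j := fun j e => by rw [e] at hi; simp [p, four] at hi; omega
        rw [swap_apply_of_ne_of_ne (this 1) (this 2), swap_apply_of_ne_of_ne (this 0) (this 1)]
    have h3 : ρ (alt4 hn τ) ∈ famJ (pairFam hn ι ρ ψ) 3 := by
      obtain ⟨z, hz, e⟩ : pA C (alt4 hn τ) ∈ (famJ (pairFam hn ι ρ ψ) 3).map π := by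
        rw [G.famJ_map hq (by norm_num) (by omega)]
        intro i hi
        rw [pA_sv, hcyc, (cyc3_apply (hp (by decide)) (hp (by decide)) (hp (by decide))).2.2.2 i] <;>
          intro e <;> rw [e] at hi <;> simp [p, four] at hi
      rw [← G.inj_range (G.famJ_four_le (famJ_mono (by norm_num) hz))
        ⟨pA C τ, (G.agree τ).symm⟩ (e.trans (G.hπρ _).symm)]
      exact hz
    obtain ⟨σ, hσ⟩ := exists_even_map ![p 0, p 1, p 2] ![a, b, c]
      (by intro i j; fin_cases i <;> fin_cases j <;>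
        simp [hp (show (0 : Fin 4) ≠ 1 by decide), hp (show (0 : Fin 4) ≠ 2 by decide),
          hp (show (1 : Fin 4) ≠ 2 by decide), hp (show (1 : Fin 4) ≠ 0 by decide),
          hp (show (2 : Fin 4) ≠ 0 by decide), hp (show (2 : Fin 4) ≠ 1 by decide)])
      (by intro i j; fin_cases i <;> fin_cases j <;> simp [hab, hbc, hac, hab.symm, hbc.symm, hac.symm])
      (p 3) ⟨4, h5⟩ (by simp [p, four, Fin.ext_iff])
    have hσ' : σ.1 (p 0) = a ∧ σ.1 (p 1) = b ∧ σ.1 (p 2) = c := by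
      rcases hσ with h | h
      · exact ⟨h 0, h 1, h 2⟩
      · have e : ∀ i : Fin 4, i ≠ 3 → swap (p 3) ⟨4, h5⟩ (p i) = p i := fun i h =>
          swap_apply_of_ne_of_ne (hp h) (fun e => by
            have := congrArg (fun z : Fin n => z.val) e
            simp [p, four] at this; omega)
        have h0 := h 0
        have h1 := h 1
        have h2 := h 2
        simp only [Matrix.cons_val_zero, Matrix.cons_val_one, Matrix.cons_val] at h0 h1 h2
        rw [e 0 (by decide)] at h0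
        rw [e 1 (by decide)] at h1
        rw [e 2 (by decide)] at h2
        exact ⟨h0, h1, h2⟩
    have hc3 : cyc3 a b c hab hbc = σ * alt4 hn τ * σ⁻¹ := by
      rw [hcyc]
      apply Subtype.ext
      show swap a b * swap b c = σ.1 * (swap (p 0) (p 1) * swap (p 1) (p 2)) * σ.1⁻¹
      rw [show σ.1 * (swap (p 0) (p 1) * swap (p 1) (p 2)) * σ.1⁻¹ =
        (σ.1 * swap (p 0) (p 1) * σ.1⁻¹) * (σ.1 * swap (p 1) (p 2) * σ.1⁻¹) by group,
        ← Equiv.swap_apply_apply, ← Equiv.swap_apply_apply, hσ'.1, hσ'.2.1, hσ'.2.2]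
    have hle : famJ (pairFam hn ι ρ ψ) 3 ≤ (famJ (pairFam hn ι ρ ψ) k).comap (MulAut.conj (ρ σ)).toMonoidHom := by
      refine (Subgroup.closure_le _).2 ?_
      rintro y ⟨T, hT, hy⟩
      refine le_famJ (k := k) (fun i hi => ?_) (conj σ T y hy)
      obtain ⟨j, hj, rfl⟩ := Finset.mem_image.1 hi
      have := hT j hj
      rcases (show j.val = 0 ∨ j.val = 1 ∨ j.val = 2 by omega) with e | e | e
      · rw [show j = p 0 from Fin.ext e, hσ'.1]; exact ha
      · rw [show j = p 1 from Fin.ext e, hσ'.2.1]; exact hb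
      · rw [show j = p 2 from Fin.ext e, hσ'.2.2]; exact hc
    rw [hc3, map_mul, map_mul, map_inv]
    exact hle h3

/-- the group is the unitary group -/
theorem bijective (h5 : 5 ≤ n) (hq : ∃ s : F, C.bar s = s ∧ s ≠ 0 ∧ s ≠ 1)
    (hgen : Subgroup.closure (Set.range ρ ∪ Set.range ψ) = ⊤) : Function.Bijective π := by
  have D := G.fam_data h5 hq
  obtain ⟨⟨hinj, hmap⟩, -⟩ := D.all (j := 4) (by norm_num) le_rfl hn (Or.inl hq) (G.fam_ok hq)
    (G.famJ_map hq (by norm_num) (by omega)) n hn le_rfl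
  set Fm := pairFam hn ι ρ ψ
  have hψ : Set.range ψ ⊆ (famJ Fm n : Set Γ) := by
    rintro x ⟨A, rfl⟩
    exact famJ_mono hn (G.range_le hq ⟨A, rfl⟩)
  have hρ : Set.range ρ ⊆ (famJ Fm n : Set Γ) := by
    rintro x ⟨σ, rfl⟩
    have : (⊤ : Subgroup (alternatingGroup (Fin n))) ≤ (famJ Fm n).comap ρ := by
      rw [← alternatingGroup.closure_isThreeCycles_eq_top, Subgroup.closure_le]
      intro g (hg : g.1.IsThreeCycle)
      obtain ⟨a, ha⟩ : g.1.support.Nonempty := Finset.card_pos.1 (by rw [hg.card_support]; norm_num)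
      have hnd := hg.nodup_iff_mem_support.2 ha
      simp only [List.nodup_cons, List.mem_cons, List.not_mem_nil, or_false, not_or, List.nodup_nil, and_true,
        not_false_eq_true] at hnd
      obtain ⟨⟨h1, h2⟩, h3⟩ := hnd
      rw [show g = cyc3 a (g.1 a) (g.1 (g.1 a)) h1 h3 from Subtype.ext (hg.eq_swap_mul_swap_iff_mem_support.2 ha)]
      exact D.cyc n _ _ _ h1 h3 (by omega) h2 a.isLt (Fin.isLt _) (Fin.isLt _)
    exact this trivial
  have htop : famJ Fm n = ⊤ := by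
    rw [eq_top_iff, ← hgen, Subgroup.closure_le]
    exact Set.union_subset hρ hψ
  refine ⟨fun x y h => hinj (by rw [htop]; trivial) (by rw [htop]; trivial) h, fun y => ?_⟩
  have : y ∈ (famJ Fm n).map π := by rw [hmap, fixFrom_top]; trivial
  obtain ⟨x, -, e⟩ := this
  exact ⟨x, e⟩

end Glue

end CfsgLib.Lie.BoundedPres.SUGraph
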