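import Cfsg.Agent.Lib.Lie.BoundedPres.SU.Glue
import Cfsg.Agent.Lib.Lie.BoundedPres.SU4.Main
import Cfsg.Agent.Lib.Lie.BoundedPres.SL.StabGen
import Cfsg.Agent.Lib.SLGen.CyclicPair

/-!
# Systems of relations for `SU_n`, `n ≥ 5`, more than two fixed scalars

Six generators: two for the alternating group, four for `SU₄`; six linking relations.
-/

set_option autoImplicit false
set_option maxHeartbeats 400000

namespace CfsgLib.Lie.BoundedPres.SUGraph

open Matrix Equiv CfsgLib.SU CfsgLib.Lie.BoundedPres CfsgLib.Lie.BoundedPres.SUBase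
open scoped commutatorElement

universe u

/-- `SL₂` of a finite field is two-generated -/
theorem sl_two_gens (K : Type u) [Field K] [Fintype K] :
    ∃ a b : Matrix.SpecialLinearGroup (Fin 2) K,
      Subgroup.closure ({a, b} : Set (Matrix.SpecialLinearGroup (Fin 2) K)) = ⊤ := by
  classical
  let x : Matrix.SpecialLinearGroup (Fin (1 + 1)) K :=
    ⟨Matrix.transvection 0 1 1, Matrix.det_transvection_of_ne _ _ (by decide) _⟩
  let w : Matrix.SpecialLinearGroup (Fin (1 + 1)) K :=
    ⟨Matrix.of (fun i j => if j.val = i.val + 1 then 1 else if i.val = 1 ∧ j.val = 0 then (-1) ^ 1 else 0),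
      by rw [Matrix.det_fin_two]; simp⟩
  by_cases hK : 3 < Fintype.card K
  · obtain ⟨k, hk⟩ := IsCyclic.exists_generator (α := Kˣ)
    let h : Matrix.SpecialLinearGroup (Fin (1 + 1)) K :=
      ⟨Matrix.diagonal fun i => if i.val = 0 then (k : K) else if i.val = 1 then ((k⁻¹ : Kˣ) : K) else 1, by
        rw [Matrix.det_diagonal, Fin.prod_univ_two]; simp⟩
    exact ⟨h, x * w, CfsgLib.SLGen.two_gen_large hK le_rfl k hk h x w rfl rfl rfl⟩
  · exact ⟨x, w, CfsgLib.SLGen.two_gen_small (not_lt.1 hK) le_rfl x w rfl rfl⟩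

variable {F : Type} [Field F] [Fintype F] {q n : ℕ}

theorem commute_of_fix (C : UCtx F q) (hn : 4 ≤ n) {σ : alternatingGroup (Fin n)}
    (h0 : σ.1 (four hn 0) = four hn 0) (h1 : σ.1 (four hn 1) = four hn 1) {X : ↥(Cfsg.SU n F q)}
    (hX : X ∈ fixFrom 2) : Commute (pA C σ) X := by
  have h2 : ∀ l : Fin n, 2 ≤ l.val → 2 ≤ (σ.1 l).val := by
    intro l hl
    by_contra h
    rcases (show (σ.1 l).val = 0 ∨ (σ.1 l).val = 1 by omega) with e | e
    · have := σ.1.injective ((Fin.ext e : σ.1 l = four hn 0).trans h0.symm)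
      subst this; simp [four] at hl
    · have := σ.1.injective ((Fin.ext e : σ.1 l = four hn 1).trans h1.symm)
      subst this; simp [four] at hl
  refine su_ext fun x => ?_
  rw [suMat_mulVec_mul, suMat_mulVec_mul, sum_sv x]
  simp only [Matrix.mulVec_sum, Matrix.mulVec_smul]
  refine Finset.sum_congr rfl fun j _ => ?_
  congr 1
  rcases Nat.lt_or_ge j.val 2 with hj | hj
  · have hfix : σ.1 j = j := by
      rcases (show j.val = 0 ∨ j.val = 1 by omega) with e | e
      · rw [show j = four hn 0 from Fin.ext e]; exact h0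
      · rw [show j = four hn 1 from Fin.ext e]; exact h1
    rw [pA_sv, hfix]
    have hs : ∀ l : Fin n, l ≠ four hn 0 → l ≠ four hn 1 → (X.1.1 *ᵥ sv j) l = 0 := by
      intro l l0 l1
      have hl : 2 ≤ l.val := by
        by_contra h
        rcases (show l.val = 0 ∨ l.val = 1 by omega) with e | e
        exacts [l0 (Fin.ext e), l1 (Fin.ext e)]
      have h : C.form (X.1.1 *ᵥ sv j) (sv l) = 0 := by
        conv_lhs => rw [← hX l hl]
        rw [C.form_su, form_sv, if_neg (by intro e; subst e; omega)]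
      simpa [UCtx.form, sv, Pi.single_apply, apply_ite C.bar] using h
    conv_lhs => rw [eq_two ((four_inj hn).ne (by decide)) hs]
    rw [Matrix.mulVec_add, Matrix.mulVec_smul, Matrix.mulVec_smul, pA_sv, pA_sv, h0, h1,
      ← eq_two ((four_inj hn).ne (by decide)) hs]
  · rw [hX j hj, pA_sv, hX _ (h2 j hj)]

/-- the system for `n ≥ 5` -/
theorem sys_big (C : UCtx F q) (hF : Fintype.card F = q ^ 2) (hn5 : 5 ≤ n)
    (hq : ∃ s : F, C.bar s = s ∧ s ≠ 0 ∧ s ≠ 1) {r : ℕ} (hA : HasSysJ (alternatingGroup (Fin n)) 2 r 0) :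
    HasSysJ ↥(Cfsg.SU n F q) 6 (r + 23 + 6) 0 := by
  classical
  have hn : 4 ≤ n := by omega
  obtain ⟨ι4, hι, hιr, hιe⟩ := exists_coord_emb (n := n) C hn
  obtain ⟨ι2, hι2, hι2r, -⟩ := exists_coord_emb (n := n) C (show 2 ≤ n by omega)
  obtain ⟨K, iK, iK', -, ⟨e2⟩⟩ := su_two_equiv (C := C) hF
  obtain ⟨a0, b0, hab0⟩ := sl_two_gens K
  have hlow : ∀ A : ↥(Cfsg.SU 2 F q), ι2 A ∈ ι4.range := fun A => by
    have h : ι2 A ∈ fixFrom 2 := by rw [← hι2r]; exact ⟨A, rfl⟩
    rw [hιr]
    exact fixFrom_mono (by norm_num) h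
  choose lo hlo using hlow
  let sa := lo (e2.symm a0)
  let sb := lo (e2.symm b0)
  obtain ⟨mate, hm0, hm1, hmate⟩ := exists_stab_mate (a := four hn 0) (b := four hn 1) (x := four hn 2)
    (y := four hn 3) (z := ⟨4, by omega⟩)
    (by intro t ht; simp only [Finset.mem_insert, Finset.mem_singleton] at ht
        rcases ht with rfl | rfl | rfl <;> simp [four, Fin.ext_iff])
    ((four_inj hn).ne (by decide)) (by simp [four, Fin.ext_iff]) (by simp [four, Fin.ext_iff])
  let tri : alternatingGroup (Fin n) :=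
    cyc3 (four hn 2) (four hn 3) ⟨4, by omega⟩ ((four_inj hn).ne (by decide)) (by simp [four, Fin.ext_iff])
  have htri : tri.1 (four hn 0) = four hn 0 ∧ tri.1 (four hn 1) = four hn 1 := by
    obtain ⟨-, -, -, h⟩ := cyc3_apply (a := four hn 2) (b := four hn 3) (c := (⟨4, by omega⟩ : Fin n))
      ((four_inj hn).ne (by decide)) (by simp [four, Fin.ext_iff]) (by simp [four, Fin.ext_iff])
    exact ⟨h _ (by simp [four, Fin.ext_iff]) (by simp [four, Fin.ext_iff]) (by simp [four, Fin.ext_iff]),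
      h _ (by simp [four, Fin.ext_iff]) (by simp [four, Fin.ext_iff]) (by simp [four, Fin.ext_iff])⟩
  let c : alternatingGroup (Fin 4) := cyc3 0 1 2 (by decide) (by decide)
  let d : alternatingGroup (Fin 4) := dsw 0 1 2 3 (by decide) (by decide)
  have hcd : Subgroup.closure ({c, d} : Set (alternatingGroup (Fin 4))) = ⊤ := by
    rw [eq_top_iff]
    intro σ _
    have key : ∀ σ : Perm (Fin 4), Perm.sign σ = 1 → ∃ (i : Fin 3) (j : Fin 2) (k : Fin 3),
        σ = c.1 ^ i.val * d.1 ^ j.val * c.1 ^ k.val := by decide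
    obtain ⟨i, j, k, e⟩ := key σ.1 σ.2
    rw [show σ = c ^ i.val * d ^ j.val * c ^ k.val from Subtype.ext e]
    have hc : c ∈ Subgroup.closure ({c, d} : Set (alternatingGroup (Fin 4))) := Subgroup.subset_closure (Or.inl rfl)
    have hd : d ∈ Subgroup.closure ({c, d} : Set (alternatingGroup (Fin 4))) := Subgroup.subset_closure (Or.inr rfl)
    exact mul_mem (mul_mem (pow_mem hc _) (pow_mem hd _)) (pow_mem hc _)
  obtain ⟨ιA, iA, gA, RA, VA, JA, hkA, hrA, hvalA, hcovA, hhomA, hJA, hVA⟩ := hA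
  obtain ⟨ιS, iS, gS, RS, VS, JS, hkS, hrS, hvalS, hcovS, hhomS, hJS, hVS⟩ :=
    SUFour.sys_su_four (F := F) (q := q) hF
  choose wA hwAV hwA using hcovA
  choose wS hwSV hwS using hcovS
  let incA : FreeGroup ιA →* FreeGroup (ιA ⊕ ιS) := FreeGroup.map Sum.inl
  let incS : FreeGroup ιS →* FreeGroup (ιA ⊕ ιS) := FreeGroup.map Sum.inr
  let eA : alternatingGroup (Fin n) → FreeGroup (ιA ⊕ ιS) := fun σ => incA (wA σ)
  let eS : ↥(Cfsg.SU 4 F q) → FreeGroup (ιA ⊕ ιS) := fun A => incS (wS A)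
  let links : List (FreeGroup (ιA ⊕ ιS)) :=
    [eA (alt4 hn c) * (eS (pA C c))⁻¹, eA (alt4 hn d) * (eS (pA C d))⁻¹,
     ⁅eA tri, eS sa⁆, ⁅eA tri, eS sb⁆, ⁅eA mate, eS sa⁆, ⁅eA mate, eS sb⁆]
  let g : ιA ⊕ ιS → ↥(Cfsg.SU n F q) := Sum.elim (fun x => pA C (gA x)) fun x => ι4 (gS x)
  let V : Subgroup (FreeGroup (ιA ⊕ ιS)) := VA.map incA ⊔ VS.map incS
  have hgA : ∀ σ, FreeGroup.lift g (eA σ) = pA C σ := fun σ => by
    simp only [eA, incA]
    rw [lift_map]
    exact (lift_comp_hom (pA C) gA (wA σ)).trans (by rw [hwA])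
  have hgS : ∀ A, FreeGroup.lift g (eS A) = ι4 A := fun A => by
    simp only [eS, incS]
    rw [lift_map]
    exact (lift_comp_hom ι4 gS (wS A)).trans (by rw [hwS])
  -- generation
  have hid : Glue C hn (MonoidHom.id _) ι4 (pA C) ι4 :=
    ⟨hι, hιr, hιe, fun _ => rfl, fun _ => rfl, fun τ => (emb_pA hιr hιe τ).symm,
      fun σ h0 h1 A hA' => commute_of_fix C hn h0 h1 hA'⟩
  have hcov : ∀ s : ↥(Cfsg.SU n F q), ∃ v ∈ V, FreeGroup.lift g v = s := by
    intro s
    have hle : famJ (pairFam hn ι4 (pA C) ι4) n ≤ V.map (FreeGroup.lift g) := by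
      refine (Subgroup.closure_le _).2 ?_
      rintro x ⟨T, -, hx⟩
      have h2 : pairFam hn ι4 (pA C) ι4 T ≤ V.map (FreeGroup.lift g) := by
        refine (Subgroup.closure_le _).2 ?_
        rintro y ⟨σ, A, -, -, rfl⟩
        have hσ : pA C σ ∈ V.map (FreeGroup.lift g) :=
          ⟨eA σ, Subgroup.mem_sup_left ⟨_, hwAV σ, rfl⟩, hgA σ⟩
        exact mul_mem (mul_mem hσ ⟨eS A, Subgroup.mem_sup_right ⟨_, hwSV A, rfl⟩, hgS A⟩) (inv_mem hσ)
      exact h2 hx
    have h := hid.famJ_map hq (show 2 ≤ n by omega) le_rfl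
    rw [Subgroup.map_id, fixFrom_top] at h
    exact hle (h ▸ Subgroup.mem_top s)
  have hsab : ι4 sa ∈ fixFrom 2 ∧ ι4 sb ∈ fixFrom 2 :=
    ⟨by rw [hlo, ← hι2r]; exact ⟨_, rfl⟩, by rw [hlo, ← hι2r]; exact ⟨_, rfl⟩⟩
  refine ⟨ιA ⊕ ιS, inferInstance, g, RA.map incA ++ RS.map incS ++ links, V,
    JA.map ⟨Sum.inl, Sum.inl_injective⟩ ∪ JS.map ⟨Sum.inr, Sum.inr_injective⟩,
    by simp [hkA, hkS], by simp [links]; omega, ?_, hcov, ?_, ?_, ?_⟩
  · intro w hw
    simp only [List.mem_append, List.mem_map] at hw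
    rcases hw with (⟨v, hv, rfl⟩ | ⟨v, hv, rfl⟩) | hw
    · simp only [incA]; rw [lift_map]
      exact (lift_comp_hom (pA C) gA v).trans (by rw [hvalA v hv, map_one])
    · simp only [incS]; rw [lift_map]
      exact (lift_comp_hom ι4 gS v).trans (by rw [hvalS v hv, map_one])
    · simp only [links, List.mem_cons, List.not_mem_nil, or_false] at hw
      rcases hw with rfl | rfl | rfl | rfl | rfl | rfl <;>
        simp only [map_mul, map_inv, map_commutatorElement, hgA, hgS]
      · rw [emb_pA hιr hιe, mul_inv_cancel]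
      · rw [emb_pA hιr hιe, mul_inv_cancel]
      · exact commutatorElement_eq_one_iff_commute.2 (commute_of_fix C hn htri.1 htri.2 hsab.1)
      · exact commutatorElement_eq_one_iff_commute.2 (commute_of_fix C hn htri.1 htri.2 hsab.2)
      · exact commutatorElement_eq_one_iff_commute.2 (commute_of_fix C hn hm0 hm1 hsab.1)
      · exact commutatorElement_eq_one_iff_commute.2 (commute_of_fix C hn hm0 hm1 hsab.2)
  · intro G _ g' hg'
    have hRA : ∀ w ∈ RA, FreeGroup.lift (fun x => g' (Sum.inl x)) w = 1 := fun w hw => by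
      have h := hg' (incA w) (List.mem_append_left _ (List.mem_append_left _ (List.mem_map_of_mem hw)))
      simp only [incA] at h
      rwa [lift_map] at h
    have hRS : ∀ w ∈ RS, FreeGroup.lift (fun x => g' (Sum.inr x)) w = 1 := fun w hw => by
      have h := hg' (incS w) (List.mem_append_left _ (List.mem_append_right _ (List.mem_map_of_mem hw)))
      simp only [incS] at h
      rwa [lift_map] at h
    obtain ⟨ρ, hρ⟩ := hhomA G _ hRA
    obtain ⟨ψ, hψ⟩ := hhomS G _ hRS
    have hρe : ∀ σ, FreeGroup.lift g' (eA σ) = ρ σ := fun σ => by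
      simp only [eA, incA]; rw [lift_map, ← hρ _ (hwAV σ), hwA]
    have hψe : ∀ A, FreeGroup.lift g' (eS A) = ψ A := fun A => by
      simp only [eS, incS]; rw [lift_map, ← hψ _ (hwSV A), hwS]
    have rel := fun w (hw : w ∈ links) => hg' w (List.mem_append_right _ hw)
    simp only [links, List.forall_mem_cons, map_mul, map_inv, map_commutatorElement, hρe, hψe] at rel
    obtain ⟨lc, ld, l1, l2, l3, l4, -⟩ := rel
    have hagree : ∀ τ, ρ (alt4 hn τ) = ψ (pA C τ) := DFunLike.congr_fun
      (MonoidHom.eq_of_eqOn_dense (f := ρ.comp (alt4 hn)) (g := ψ.comp (pA C)) hcd fun x hx => by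
        rcases hx with rfl | rfl
        exacts [mul_inv_eq_one.1 lc, mul_inv_eq_one.1 ld])
    have hcent : ∀ σ : alternatingGroup (Fin n), σ.1 (four hn 0) = four hn 0 → σ.1 (four hn 1) = four hn 1 →
        ∀ A, ι4 A ∈ fixFrom 2 → Commute (ρ σ) (ψ A) := by
      intro σ h0 h1 A hA'
      obtain ⟨B, hB⟩ : ι4 A ∈ ι2.range := hι2r ▸ hA'
      obtain rfl : lo B = A := hι ((hlo B).trans hB)
      have hσ : σ ∈ Subgroup.closure ({tri, mate} : Set (alternatingGroup (Fin n))) := by
        have h := hmate σ h0 h1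
        have himg : ({swap (four hn 2) (four hn 3) * swap (four hn 3) ⟨4, by omega⟩, mate.1} : Set (Perm (Fin n))) =
            (alternatingGroup (Fin n)).subtype '' {tri, mate} := by
          rw [Set.image_pair]; rfl
        rw [himg, ← MonoidHom.map_closure] at h
        obtain ⟨y, hy, e⟩ := h
        rwa [← Subtype.ext (show y.1 = σ.1 from e)]
      -- one generator of the first pair at a time
      have lo_mul : ∀ B B', lo (B * B') = lo B * lo B' := fun B B' => hι (by rw [map_mul, hlo, hlo, hlo, map_mul])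
      have lo_one : lo 1 = 1 := hι (by rw [hlo, map_one, map_one])
      have lo_inv : ∀ B, lo B⁻¹ = (lo B)⁻¹ := fun B => hι (by rw [hlo, map_inv, map_inv, hlo])
      let S : Subgroup ↥(Cfsg.SU 2 F q) :=
        { carrier := {B | Commute (ρ σ) (ψ (lo B))}
          one_mem' := by show Commute _ _; rw [lo_one, map_one]; exact Commute.one_right _
          mul_mem' := fun {x y} hx hy => by show Commute _ _; rw [lo_mul, map_mul]; exact Commute.mul_right hx hy
          inv_mem' := fun {x} hx => by show Commute _ _; rw [lo_inv, map_inv]; exact Commute.inv_right hx }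
      have hone : ∀ {s : ↥(Cfsg.SU 4 F q)}, Commute (ρ tri) (ψ s) → Commute (ρ mate) (ψ s) →
          Commute (ρ σ) (ψ s) := by
        intro s t1 t2
        have hle : Subgroup.closure ({tri, mate} : Set (alternatingGroup (Fin n))) ≤
            (Subgroup.centralizer ({ψ s} : Set G)).comap ρ := by
          refine (Subgroup.closure_le _).2 ?_
          rintro x (rfl | rfl) <;> refine Subgroup.mem_centralizer_singleton_iff.2 ?_
          exacts [t1.eq, t2.eq]
        exact Subgroup.mem_centralizer_singleton_iff.1 (hle hσ)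
      have htop : S = ⊤ := by
        rw [eq_top_iff, ← Subgroup.map_top_of_surjective e2.symm.toMonoidHom e2.symm.surjective, ← hab0,
          MonoidHom.map_closure, Subgroup.closure_le]
        rintro _ ⟨x, (rfl | rfl), rfl⟩
        · exact hone (commutatorElement_eq_one_iff_commute.1 l1) (commutatorElement_eq_one_iff_commute.1 l3)
        · exact hone (commutatorElement_eq_one_iff_commute.1 l2) (commutatorElement_eq_one_iff_commute.1 l4)
      exact (htop ▸ Subgroup.mem_top B : B ∈ S)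
    -- the subgroup of pairs
    let ρ2 := (pA C).prod ρ
    let ψ2 := ι4.prod ψ
    let H : Subgroup (↥(Cfsg.SU n F q) × G) := Subgroup.closure (Set.range ρ2 ∪ Set.range ψ2)
    let ρ3 : alternatingGroup (Fin n) →* ↥H :=
      ρ2.codRestrict H fun σ => Subgroup.subset_closure (Or.inl ⟨σ, rfl⟩)
    let ψ3 : ↥(Cfsg.SU 4 F q) →* ↥H :=
      ψ2.codRestrict H fun A => Subgroup.subset_closure (Or.inr ⟨A, rfl⟩)
    have hG : Glue C hn ((MonoidHom.fst _ _).comp H.subtype) ι4 ρ3 ψ3 :=
      ⟨hι, hιr, hιe, fun _ => rfl, fun _ => rfl,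
        fun τ => Subtype.ext (Prod.ext (emb_pA hιr hιe τ).symm (hagree τ)),
        fun σ h0 h1 A hA' => Subtype.ext (Prod.ext (commute_of_fix C hn h0 h1 hA').eq (hcent σ h0 h1 A hA').eq)⟩
    have hgen : Subgroup.closure (Set.range ρ3 ∪ Set.range ψ3) = ⊤ := by
      refine eq_top_iff.2 fun x _ => ?_
      have : Subgroup.closure (Set.range ρ3 ∪ Set.range ψ3) =
          Subgroup.closure (((↑) : ↥H → ↥(Cfsg.SU n F q) × G) ⁻¹' (Set.range ρ2 ∪ Set.range ψ2)) := by
        congr 1
        ext y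
        simp only [Set.mem_union, Set.mem_range, Set.mem_preimage]
        exact or_congr ⟨fun ⟨s, hs⟩ => ⟨s, congrArg Subtype.val hs⟩, fun ⟨s, hs⟩ => ⟨s, Subtype.ext hs⟩⟩
          ⟨fun ⟨s, hs⟩ => ⟨s, congrArg Subtype.val hs⟩, fun ⟨s, hs⟩ => ⟨s, Subtype.ext hs⟩⟩
      rw [this, Subgroup.closure_closure_coe_preimage]
      trivial
    have hinj := (hG.bijective hn5 hq hgen).1
    refine exists_hom_of_cover g g' V hcov fun w hw hw1 => ?_
    have hmem : (FreeGroup.lift g w, FreeGroup.lift g' w) ∈ H := by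
      have hle : V.map ((FreeGroup.lift g).prod (FreeGroup.lift g')) ≤ H := by
        rw [Subgroup.map_le_iff_le_comap]
        refine sup_le ?_ ?_
        · rintro _ ⟨v, hv, rfl⟩
          refine Subgroup.subset_closure (Or.inl ⟨FreeGroup.lift gA v, Prod.ext ?_ ?_⟩)
          · show pA C _ = FreeGroup.lift g (incA v)
            simp only [incA]; rw [lift_map]; exact (lift_comp_hom (pA C) gA v).symm
          · show ρ _ = FreeGroup.lift g' (incA v)
            simp only [incA]; rw [lift_map]; exact hρ v hv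
        · rintro _ ⟨v, hv, rfl⟩
          refine Subgroup.subset_closure (Or.inr ⟨FreeGroup.lift gS v, Prod.ext ?_ ?_⟩)
          · show ι4 _ = FreeGroup.lift g (incS v)
            simp only [incS]; rw [lift_map]; exact (lift_comp_hom ι4 gS v).symm
          · show ψ _ = FreeGroup.lift g' (incS v)
            simp only [incS]; rw [lift_map]; exact hψ v hv
      exact hle ⟨w, hw, rfl⟩
    have := @hinj ⟨_, hmem⟩ 1 (hw1.trans (map_one _).symm)
    exact congrArg Prod.snd (congrArg Subtype.val this)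
  · exact (Finset.card_union_le _ _).trans (by simp only [Finset.card_map]; omega)
  · rintro (x | x) hx
    · refine Subgroup.mem_sup_left ⟨FreeGroup.of x, hVA x fun h => hx ?_, by simp [incA]⟩
      exact Finset.mem_union_left _ (Finset.mem_map.2 ⟨x, h, rfl⟩)
    · refine Subgroup.mem_sup_right ⟨FreeGroup.of x, hVS x fun h => hx ?_, by simp [incS]⟩
      exact Finset.mem_union_right _ (Finset.mem_map.2 ⟨x, h, rfl⟩)

end CfsgLib.Lie.BoundedPres.SUGraph
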