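import Cfsg.Agent.Lib.Lie.BoundedPres.SU.Sphere
import Cfsg.Agent.Lib.Lie.BoundedPres.SU.Coords

/-!
# The orthogonality graph in dimension six over two fixed scalars

Two vectors at distance two have common neighbours in four classes. The coset graph is the orthogonality graph as
soon as three particular closed paths of length four close.
-/

set_option autoImplicit false

namespace CfsgLib.Lie.BoundedPres.SUGraph

open Matrix CfsgLib.SU CfsgLib.Lie.BoundedPres.SUBase
open MulAction (stabilizer)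

universe u

variable {F : Type u} [Field F] [Fintype F] {q n : ℕ} {C : UCtx F q}

/-- the part of the graph conditions that holds in all dimensions from five on -/
theorem graphBase (hn : 5 ≤ n) (a : USph C n) : GraphBase ↥(Cfsg.SU n F q) (Orth (C := C) (n := n)) a where
  symm _ _ h := h.symm
  inv g _ _ h := h.smul g
  mid x y h := exists_mid hn a x y h
  mid_two x := by
    obtain ⟨v, hv, hvo, hvt⟩ := exists_unit_perp (C := C) ![x.1] (fun i j => by
      fin_cases i; fin_cases j; simpa using x.2) ![a.1] (by omega)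
    exact ⟨⟨v, hv⟩, C.form_swap_zero (hvt 0), hvo 0⟩

/-- the end of the particular paths -/
def xSix : Fin 6 → F := sv 5 + (sv 0 + sv 1)

/-- the representatives of three classes -/
def repSix (P : F) : Fin 6 → F := sv 2 + (sv 3 + P • sv 4)

namespace SixClosed

variable (hfix : ∀ a : F, C.bar a = a → a = 0 ∨ a = 1)
include hfix

omit [Fintype F] in
theorem two_eq : (2 : F) = 0 := by
  rcases hfix 2 (map_ofNat C.bar 2) with h | h
  · exact h
  · exact absurd (show (1 : F) = 0 by linear_combination h) one_ne_zero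

omit [Fintype F] in
theorem norm_one {u : F} (hu : u ≠ 0) : u * C.bar u = 1 :=
  (hfix _ (C.norm_fixed u)).resolve_left (mul_ne_zero hu ((map_ne_zero C.bar).2 hu))

omit [Fintype F] in
theorem bar_eq {u : F} (hu : u ≠ 0) : C.bar u = u⁻¹ := eq_inv_of_mul_eq_one_right (norm_one hfix hu)

omit [Fintype F] in
theorem cube {u : F} (hu : u ≠ 0) : u * u * u = 1 := by
  have h : ∀ v : F, v ≠ 0 → C.bar v = v * v → v * v * v = 1 := fun v hv e => by
    linear_combination norm_one hfix hv - v * e
  by_cases h1 : u = 1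
  · simp [h1]
  refine h u hu ?_
  have e1 : C.bar (u + C.bar u) = u + C.bar u := by rw [map_add, C.bar_bar, add_comm]
  have n1 := norm_one hfix hu
  have h2 := two_eq hfix
  rcases hfix _ e1 with e | e
  · exfalso
    refine h1 (sub_eq_zero.1 (pow_eq_zero_iff two_ne_zero |>.1 (show (u - 1) ^ 2 = 0 from ?_)))
    linear_combination u * e - n1 - u * h2
  · linear_combination e - u * e + n1 - (u - 1) * h2

omit [Fintype F] in
/-- a primitive cube root of unity -/
theorem exists_omega : ∃ ω : F, ω ≠ 0 ∧ 1 + ω + ω * ω = 0 := by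
  obtain ⟨y, hy⟩ := C.exists_not_fixed
  have hy0 : y ≠ 0 := fun h => hy (by rw [h, map_zero])
  have hy1 : y - 1 ≠ 0 := fun h => hy (by rw [sub_eq_zero.1 h, map_one])
  refine ⟨y, hy0, (mul_eq_zero.1 (show (y - 1) * (1 + y + y * y) = 0 from ?_)).resolve_left hy1⟩
  linear_combination cube hfix hy0

theorem sum_three {w : Fin 6 → F} (h01 : w 1 = w 0) (h5 : w 5 = 0) (hw : C.form w w = 1) :
    (w 2 * C.bar (w 2) + w 3 * C.bar (w 3) + w 4 * C.bar (w 4)) = 1 := by
  have := hw
  simp only [UCtx.form, Fin.sum_univ_six, h01, h5, zero_mul, add_zero] at this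
  linear_combination this - (w 0 * C.bar (w 0)) * two_eq hfix

omit [Fintype F] hfix in
theorem li_iso {a z : Fin 6 → F} (ha : C.form a a = 1) (hza : C.form z a = 0) (hz0 : z ≠ 0) :
    LinearIndependent F ![a, z] := by
  refine LinearIndependent.pair_iff.2 fun s t h => ?_
  have h1 := congrArg (fun v => C.form v a) h
  simp [C.form_add_left, C.form_smul_left, C.form_zero_left, ha, hza] at h1
  rw [h1, zero_smul, zero_add] at h
  exact ⟨h1, (smul_eq_zero.1 h).resolve_right hz0⟩

/-- an isotropic vector beside the base point moves to a particular one -/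
theorem exists_su_move_iso {a : Fin 6 → F} (z : Fin 6 → F) (hz0 : z ≠ 0) (hzz : C.form z z = 0)
    (hza : C.form z a = 0) {β : F} (hβ : β ≠ 0) (ha : a = sv 5) :
    ∃ A : ↥(Cfsg.SU 6 F q), A.1.1 *ᵥ a = a ∧ A.1.1 *ᵥ z = β • (sv 0 + sv 1) := by
  have haa : C.form a a = 1 := by rw [ha, form_sv, if_pos rfl]
  set t : Fin 6 → F := β • (sv 0 + sv 1) with ht
  have hta : C.form t a = 0 := by simp [ht, ha, C.form_smul_left, C.form_add_left, form_sv]
  have htt : C.form t t = 0 := by
    simp [ht, UCtx.form, sv, Fin.sum_univ_six, Pi.single_apply]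
    linear_combination (β * C.bar β) * two_eq hfix
  have ht0 : t ≠ 0 := fun h => hβ (by simpa [ht, sv] using congrFun h 0)
  obtain ⟨w, hw, hwo, hwt⟩ := exists_unit_perp (C := C) ![a] (fun i j => by
    fin_cases i; fin_cases j; simpa using haa) ![z] (by norm_num)
  obtain ⟨A, hA⟩ := exists_su_move_tuple (C := C) (t := ![a, z]) (t' := ![a, t]) (li_iso haa hza hz0)
    (li_iso haa hta ht0) (fun i j => by
      fin_cases i <;> fin_cases j <;>
        simp [haa, hza, hta, hzz, htt, C.form_swap_zero hza, C.form_swap_zero hta]) hw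
    (fun i => by
      fin_cases i
      · exact C.form_swap_zero (hwo 0)
      · exact C.form_swap_zero (hwt 0))
  exact ⟨A, hA 0, hA 1⟩

omit hfix in
/-- a vector orthogonal to two middle vectors and the end -/
theorem exists_link {w w' x : Fin 6 → F} (hw : C.form w w = 1) (_hw' : C.form w' w' = 1) (hwx : C.form w x = 0)
    (_hw'x : C.form w' x = 0) (hx : C.form x x = 1) :
    ∃ v, C.form v v = 1 ∧ C.form v w = 0 ∧ C.form v w' = 0 ∧ C.form v x = 0 := by
  obtain ⟨v, hv, hvo, hvt⟩ := exists_unit_perp (C := C) ![w, x] (on_two hw hx hwx) ![w'] (by norm_num)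
  exact ⟨v, hv, hvo 0, hvt 0, hvo 1⟩

variable {Γ : Type*} [Group Γ] {π : Γ →* ↥(Cfsg.SU 6 F q)} {H : Subgroup Γ} {r : Γ} {a : USph C 6}
  (L : Lift π H r (Orth (C := C) (n := 6)) a) (ha : a.1 = sv 5)
include L ha

omit [Fintype F] hfix ha in
/-- closing is preserved by the subgroup -/
theorem via_smul {h : Γ} (hh : h ∈ H) {w x : USph C 6} {γ : Γ} (hv : L.Via w x (γ : Γ ⧸ H)) :
    L.Via (π h • w) (π h • x) ((h * γ : Γ) : Γ ⧸ H) := by
  have hE : ∀ {c d : Γ} , E H r (c : Γ ⧸ H) (d : Γ ⧸ H) → E H r ((h * c : Γ) : Γ ⧸ H) ((h * d : Γ) : Γ ⧸ H) := by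
    rintro c d ⟨δ, k, hk, hc, hd⟩
    refine ⟨h * δ, k, hk, mk_eq_of_mem ?_, mk_eq_of_mem ?_⟩
    · rw [show (h * c)⁻¹ * (h * δ) = c⁻¹ * δ by group]; exact QuotientGroup.eq.1 hc
    · rw [show (h * d)⁻¹ * (h * δ * k * r) = d⁻¹ * (δ * k * r) by group]; exact QuotientGroup.eq.1 hd
  obtain ⟨d, h1, h2, h3, h4⟩ := hv
  induction d using QuotientGroup.induction_on with
  | H δ =>
    refine ⟨((h * δ : Γ) : Γ ⧸ H), ?_, ?_, hE h3, ?_⟩
    · have := hE h1
      rwa [mul_one, mk_eq_of_mem (g := h) (g' := 1) (by simpa using inv_mem hh)] at this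
    · rw [L.pt_mk, map_mul, mul_smul, ← L.pt_mk δ, h2]
    · rw [L.pt_mk, map_mul, mul_smul, ← L.pt_mk γ, h4]

omit [Fintype F] hfix L ha in
theorem unit_two {i : Fin 6} : C.form (sv i) (sv i : Fin 6 → F) = 1 := by rw [form_sv, if_pos rfl]

omit [Fintype F] L ha in
theorem x_unit : C.form (xSix (F := F)) xSix = 1 := by
  simp [xSix, UCtx.form, sv, Fin.sum_univ_six, Pi.single_apply]
  linear_combination two_eq hfix

omit [Fintype F] L ha in
theorem rep_unit {P : F} (hP : P ≠ 0) : C.form (repSix P) (repSix P) = 1 := by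
  simp [repSix, UCtx.form, sv, Fin.sum_univ_six, Pi.single_apply]
  linear_combination two_eq hfix + norm_one hfix hP

/-- the closed paths close -/
theorem uniq (hclose : ∀ P : F, P ≠ 0 → ∀ (w w' x : USph C 6), w.1 = sv 2 → w'.1 = repSix P → x.1 = xSix →
      ∃ γ : Γ, L.Via w x (γ : Γ ⧸ H) ∧ L.Via w' x (γ : Γ ⧸ H)) :
    ∀ {w w' x : USph C 6} {c c' : Γ ⧸ H}, L.Via w x c → L.Via w' x c' → c = c' := by
  classical
  have S := graphBase (C := C) (n := 6) (by norm_num) a
  have h2 := two_eq hfix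
  have onS : ∀ {x : USph C 6} {c c' : Γ ⧸ H} {u v : USph C 6}, L.Via u x c → L.Via v x c' →
      (Orth u v) → c = c' := fun h1 h2 h3 => L.via_step S h1 h2 (Or.inl h3)
  -- the classes at the particular end
  let x0 : USph C 6 := ⟨xSix, x_unit hfix⟩
  have mids : ∀ {w : USph C 6}, Orth a w → Orth w x0 → w.1 5 = 0 ∧ w.1 1 = w.1 0 := by
    intro w h1 h2'
    have e5 : w.1 5 = 0 := by
      have : C.form w.1 a.1 = 0 := h1.symm
      simpa [ha, UCtx.form, sv, Pi.single_apply, apply_ite C.bar] using this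
    have e : C.form w.1 xSix = 0 := h2'
    simp [xSix, UCtx.form, sv, Fin.sum_univ_six, Pi.single_apply, e5] at e
    exact ⟨e5, by linear_combination e - w.1 0 * h2⟩
  obtain ⟨ω, hω0, hω⟩ := exists_omega hfix
  have hω3 : ω * ω * ω = 1 := cube hfix hω0
  -- vectors of the classes
  let U : F → F → Fin 6 → F := fun P s => sv 2 + (s • sv 3 + (P / s) • sv 4)
  have hU : ∀ {P s : F}, P ≠ 0 → s ≠ 0 → C.form (U P s) (U P s) = 1 := fun {P s} hP hs => by
    simp [U, UCtx.form, sv, Fin.sum_univ_six, Pi.single_apply]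
    have := norm_one hfix (div_ne_zero hP hs)
    rw [map_div₀] at this
    linear_combination h2 + norm_one hfix hs + this
  have hUo : ∀ {P s t : F}, P ≠ 0 → s ≠ 0 → t ≠ 0 → s ≠ t → C.form (U P s) (U P t) = 0 := by
    intro P s t hP hs ht hst
    simp [U, UCtx.form, sv, Fin.sum_univ_six, Pi.single_apply, bar_eq hfix hP, bar_eq hfix ht]
    have hρ : s / t - 1 ≠ 0 := sub_ne_zero.2 fun e => hst (by field_simp at e; exact e)
    have h3 := cube hfix (div_ne_zero hs ht)
    refine (mul_eq_zero.1 (show (s / t - 1) * _ = 0 from ?_)).resolve_left hρ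
    have h4 := cube hfix hs
    field_simp at h3 ⊢
    linear_combination h3
  have key : ∀ {u : F}, u ≠ 0 → C.bar u = u * u := fun {u} hu => by
    rw [bar_eq hfix hu]; exact inv_eq_of_mul_eq_one_right (by linear_combination cube hfix hu)
  have hUm : ∀ {P s : F} (hP : P ≠ 0) (hs : s ≠ 0), Orth a ⟨U P s, hU hP hs⟩ ∧ Orth ⟨U P s, hU hP hs⟩ x0 := by
    intro P s hP hs
    constructor
    · show C.form a.1 (U P s) = 0
      simp [ha, U, UCtx.form, sv, Fin.sum_univ_six, Pi.single_apply]
    · show C.form (U P s) xSix = 0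
      simp [xSix, U, UCtx.form, sv, Fin.sum_univ_six, Pi.single_apply]
  have hem : ∀ i : Fin 6, 2 ≤ i.val → i.val ≤ 4 →
      Orth a ⟨sv i, unit_two⟩ ∧ Orth ⟨sv i, unit_two⟩ x0 := by
    intro i hi1 hi2
    constructor
    · show C.form a.1 (sv i) = 0
      rw [ha, form_sv, if_neg (fun e => by subst e; simp at hi2)]
    · show C.form (sv i) xSix = 0
      fin_cases i <;> simp [xSix, UCtx.form, sv, Fin.sum_univ_six, Pi.single_apply] at hi1 hi2 ⊢
  -- every middle vector joins a representative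
  let two : USph C 6 := ⟨sv 2, unit_two⟩
  have hub : ∀ {w : USph C 6} {c c₂ : Γ ⧸ H}, L.Via w x0 c → L.Via two x0 c₂ → Orth a w → Orth w x0 → c = c₂ := by
    intro w c c₂ hc hc₂ h1 h2'
    obtain ⟨e5, e01⟩ := mids h1 h2'
    have hs := sum_three hfix e01 e5 w.2
    by_cases hall : w.1 2 ≠ 0 ∧ w.1 3 ≠ 0 ∧ w.1 4 ≠ 0
    · obtain ⟨a2, a3, a4⟩ := hall
      set P := w.1 2 * w.1 3 * w.1 4 with hPdef
      have hP : P ≠ 0 := mul_ne_zero (mul_ne_zero a2 a3) a4
      set s := w.1 3 / (w.1 2 * ω) with hsdef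
      have hs0 : s ≠ 0 := div_ne_zero a3 (mul_ne_zero a2 hω0)
      have hw : C.form w.1 (U P s) = 0 := by
        simp [U, UCtx.form, sv, Fin.sum_univ_six, Pi.single_apply, bar_eq hfix hP, bar_eq hfix hs0]
        rw [hsdef, hPdef]
        have := cube hfix a2
        field_simp
        linear_combination (w.1 2 * w.1 2 * w.1 2) * hω - this
      obtain ⟨cU, hcU⟩ := L.via_exists S (hUm hP hs0).1 (hUm hP hs0).2
      refine (onS hc hcU hw).trans ?_
      obtain ⟨c1, hc1⟩ := L.via_exists S (hUm hP one_ne_zero).1 (hUm hP one_ne_zero).2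
      have e1 : cU = c1 := by
        by_cases h1' : s = 1
        · have hUe : (⟨U P s, hU hP hs0⟩ : USph C 6) = ⟨U P 1, hU hP one_ne_zero⟩ :=
            Subtype.ext (congrArg (U P) h1')
          obtain ⟨d, hd, q1, hdc, q2⟩ := hcU
          obtain ⟨d', hd', q1', hdc', q2'⟩ := hc1
          obtain rfl := L.E_unique hd hd' ((q1.trans hUe).trans q1'.symm)
          exact L.E_unique hdc hdc' (q2.trans q2'.symm)
        · exact onS hcU hc1 (hUo hP hs0 one_ne_zero h1')
      obtain ⟨γ, hγ2, hγP⟩ := hclose P hP two ⟨U P 1, hU hP one_ne_zero⟩ x0 rfl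
        (by simp [U, repSix]) rfl
      have e2 : c1 = (γ : Γ ⧸ H) := by
        obtain ⟨d, hd, q1, hdc, q2⟩ := hc1
        obtain ⟨d', hd', q1', hdc', q2'⟩ := hγP
        obtain rfl := L.E_unique hd hd' (q1.trans q1'.symm)
        exact L.E_unique hdc hdc' (q2.trans q2'.symm)
      have e3 : (γ : Γ ⧸ H) = c₂ := by
        obtain ⟨d, hd, q1, hdc, q2⟩ := hγ2
        obtain ⟨d', hd', q1', hdc', q2'⟩ := hc₂
        obtain rfl := L.E_unique hd hd' (q1.trans q1'.symm)
        exact L.E_unique hdc hdc' (q2.trans q2'.symm)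
      exact e1.trans (e2.trans e3)
    · -- two of the three coordinates vanish
      have hN : ∀ i, w.1 i ≠ 0 → w.1 i * C.bar (w.1 i) = 1 := fun i => norm_one hfix
      obtain ⟨j, k, hj, hk, hjk, hj0, hk0⟩ : ∃ j k : Fin 6, (2 ≤ j.val ∧ j.val ≤ 4) ∧ (2 ≤ k.val ∧ k.val ≤ 4) ∧
          j ≠ k ∧ w.1 j = 0 ∧ w.1 k = 0 := by
        have h10 : (1 : F) ≠ 0 := one_ne_zero
        by_cases a2 : w.1 2 = 0
        · by_cases a3 : w.1 3 = 0
          · exact ⟨2, 3, ⟨le_rfl, by norm_num⟩, ⟨by norm_num, by norm_num⟩, by decide, a2, a3⟩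
          · by_cases a4 : w.1 4 = 0
            · exact ⟨2, 4, ⟨le_rfl, by norm_num⟩, ⟨by norm_num, le_rfl⟩, by decide, a2, a4⟩
            · exfalso; rw [a2, hN 3 a3, hN 4 a4] at hs; exact h10 (by linear_combination hs)
        · by_cases a3 : w.1 3 = 0
          · by_cases a4 : w.1 4 = 0
            · exact ⟨3, 4, ⟨by norm_num, by norm_num⟩, ⟨by norm_num, le_rfl⟩, by decide, a3, a4⟩
            · exfalso; rw [a3, hN 2 a2, hN 4 a4] at hs; exact h10 (by linear_combination hs)
          · by_cases a4 : w.1 4 = 0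
            · exfalso; rw [a4, hN 2 a2, hN 3 a3] at hs; exact h10 (by linear_combination hs)
            · exact absurd ⟨a2, a3, a4⟩ hall
      have hwsv : ∀ i : Fin 6, w.1 i = 0 → Orth w ⟨sv i, unit_two⟩ := fun i hi => by
        show C.form w.1 (sv i) = 0
        simp [UCtx.form, sv, Pi.single_apply, apply_ite C.bar, hi]
      by_cases hj2 : j = 2
      · subst hj2; exact onS hc hc₂ (hwsv 2 hj0)
      · obtain ⟨cj, hcj⟩ := L.via_exists S (hem j hj.1 hj.2).1 (hem j hj.1 hj.2).2
        exact (onS hc hcj (hwsv j hj0)).trans (onS hcj hc₂ (by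
          show C.form (sv j) (sv 2) = 0
          rw [form_sv, if_neg hj2]))
  have at0 : ∀ {w w' : USph C 6} {c c' : Γ ⧸ H}, L.Via w x0 c → L.Via w' x0 c' → c = c' := by
    intro w w' c c' hc hc'
    have hm : ∀ {w : USph C 6} {c : Γ ⧸ H}, L.Via w x0 c → Orth a w ∧ Orth w x0 := by
      rintro w c ⟨d, hd, rfl, hdc, hcx⟩
      exact ⟨by simpa [L.pt_mk] using L.pt_edge S.inv hd, hcx ▸ L.pt_edge S.inv hdc⟩
    obtain ⟨c₂, hc₂⟩ := L.via_exists S (hem 2 (by decide) (by decide)).1 (hem 2 (by decide) (by decide)).2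
    exact (hub hc hc₂ (hm hc).1 (hm hc).2).trans (hub hc' hc₂ (hm hc').1 (hm hc').2).symm
  intro w w' x c c' hc hc'
  refine L.via_unique_of S hc hc' fun hax w w' haw hwx haw' hwx' => ?_
  -- the vector beside the base point
  have had : ¬ NonDeg a x := fun h => hax (fixed_small hfix h)
  set β := C.form x.1 a.1 with hβ
  set z := x.1 - β • a.1 with hz
  have hza : C.form z a.1 = 0 := rest.1
  have hzz : C.form z z = 0 := by
    rw [hz, hβ, rest.2, sub_eq_zero, eq_comm]
    exact not_not.1 had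
  have hxz : x.1 = β • a.1 + z := by rw [hz, add_sub_cancel]
  have hβ0 : β ≠ 0 := fun e => hax (C.form_swap_zero e)
  by_cases hz0 : z = 0
  · -- every vector orthogonal to the base point is in the middle
    obtain ⟨v, hv, hvo, hvt⟩ := exists_unit_perp (C := C) ![w.1, a.1] (on_two w.2 a.2 haw.symm)
      ![w'.1 - C.form w'.1 w.1 • w.1] (by omega)
    let u : USph C 6 := ⟨v, hv⟩
    have hau : Orth a u := C.form_swap_zero (hvo 1)
    have hux : Orth u x := by
      show C.form v x.1 = 0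
      rw [hxz, hz0, add_zero, C.form_smul_right, show C.form v a.1 = 0 from hvo 1, mul_zero]
    have huw : Orth w u := C.form_swap_zero (hvo 0)
    have huw' : Orth u w' := by
      show C.form v w'.1 = 0
      have e : C.form v (w'.1 - C.form w'.1 w.1 • w.1) = 0 := hvt 0
      rw [C.form_sub_right, C.form_smul_right, show C.form v w.1 = 0 from hvo 0, mul_zero, sub_zero] at e
      exact e
    exact (Relation.ReflTransGen.single ⟨Or.inl huw, ⟨haw, hwx⟩, hau, hux⟩).tail
      ⟨Or.inl huw', ⟨hau, hux⟩, haw', hwx'⟩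
  refine Relation.ReflTransGen.single ⟨Or.inr (Or.inr fun c c' hc hc' => ?_), ⟨haw, hwx⟩, haw', hwx'⟩
  -- move the end to a scalar multiple of the particular one
  obtain ⟨g, hga, hgz⟩ := exists_su_move_iso hfix z hz0 hzz hza (β := β) hβ0 ha
  have hgs : g ∈ stabilizer ↥(Cfsg.SU 6 F q) a := MulAction.mem_stabilizer_iff.2 (Subtype.ext hga)
  rw [← L.onto] at hgs
  obtain ⟨h, hh, rfl⟩ := hgs
  induction c using QuotientGroup.induction_on with
  | H γ => induction c' using QuotientGroup.induction_on with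
    | H γ' =>
      have hx' : (π h • x).1 = β • xSix := by
        show (π h).1.1 *ᵥ x.1 = _
        rw [hxz, Matrix.mulVec_add, Matrix.mulVec_smul, hga, hgz, ha, ← smul_add]
        rfl
      have v1 := via_smul L hh hc
      have v2 := via_smul L hh hc'
      have hm : ∀ {w : USph C 6} {c : Γ ⧸ H}, L.Via w (π h • x) c → Orth a w ∧ Orth w (π h • x) := by
        rintro w c ⟨d, hd, rfl, hdc, hcx⟩
        exact ⟨by simpa [L.pt_mk] using L.pt_edge S.inv hd, hcx ▸ L.pt_edge S.inv hdc⟩
      have tox0 : ∀ {w : USph C 6}, Orth w (π h • x) → Orth w x0 := fun {w} e => by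
        show C.form w.1 xSix = 0
        have : C.form w.1 (π h • x).1 = 0 := e
        rw [hx', C.form_smul_right] at this
        exact (mul_eq_zero.1 this).resolve_left ((map_ne_zero C.bar).2 hβ0)
      -- the two ends are joined by a vector orthogonal to both middle vectors
      suffices e : ((h * γ : Γ) : Γ ⧸ H) = ((h * γ' : Γ) : Γ ⧸ H) by
        have := QuotientGroup.eq.1 e
        rw [show (h * γ)⁻¹ * (h * γ') = γ⁻¹ * γ' by group] at this
        exact mk_eq_of_mem this
      generalize π h • w = W at v1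
      generalize π h • w' = W' at v2
      obtain ⟨hW1, hW2⟩ := hm v1
      obtain ⟨hW1', hW2'⟩ := hm v2
      obtain ⟨v, hv, hvW, hvW', hvx⟩ := exists_link W.2 W'.2 (tox0 hW2) (tox0 hW2') x0.2
      let y : USph C 6 := ⟨v, hv⟩
      obtain ⟨d, hd, q1, hdc, q2⟩ := v1
      obtain ⟨d', hd', q1', hdc', q2'⟩ := v2
      obtain ⟨f, hf, hfd⟩ := L.E_exists S.inv d (y := x0) (q1 ▸ tox0 hW2)
      obtain ⟨f', hf', hfd'⟩ := L.E_exists S.inv d' (y := x0) (q1' ▸ tox0 hW2')
      obtain rfl : f = f' := at0 ⟨d, hd, q1, hf, hfd⟩ ⟨d', hd', q1', hf', hfd'⟩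
      obtain ⟨e, he, hey⟩ := L.E_exists S.inv f (y := y) (hfd ▸ C.form_swap_zero hvx)
      have hde : E H r d e := L.triangle S.inv (L.E_symm hf) he (by rw [q1, hey]; exact C.form_swap_zero hvW)
      have hde' : E H r d' e := L.triangle S.inv (L.E_symm hf') he (by rw [q1', hey]; exact C.form_swap_zero hvW')
      obtain ⟨g, hg, hgx⟩ := L.E_exists S.inv e (y := π h • x) (by
        rw [hey]
        show C.form v (π h • x).1 = 0
        rw [hx', C.form_smul_right, hvx, mul_zero])
      have k1 : E H r d g := L.triangle S.inv (L.E_symm hde) hg (by rw [q1, hgx]; exact hW2)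
      have k2 : E H r d' g := L.triangle S.inv (L.E_symm hde') hg (by rw [q1', hgx]; exact hW2')
      rw [L.E_unique hdc k1 (q2.trans hgx.symm), L.E_unique hdc' k2 (q2'.trans hgx.symm)]

end SixClosed

end CfsgLib.Lie.BoundedPres.SUGraph
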