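import Cfsg.Agent.Lib.Lie.BoundedPres.SU.Base
import Cfsg.Agent.Lib.Lie.BoundedPres.SU.Cover

/-!
# The orthogonality graph of the vectors of norm one

For `n ≥ 5` (for two-element fixed fields: `n = 5` or `n ≥ 7`) closed paths split into triangles.
-/

set_option autoImplicit false

namespace CfsgLib.Lie.BoundedPres.SUGraph

open Matrix CfsgLib.SU CfsgLib.Lie.BoundedPres.SUBase

universe u

variable {F : Type u} [Field F] [Fintype F] {q n : ℕ} {C : UCtx F q}

/-- orthogonality -/
def Orth (x y : USph C n) : Prop := C.form x.1 y.1 = 0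

omit [Fintype F] in
theorem Orth.symm {x y : USph C n} (h : Orth x y) : Orth y x := C.form_swap_zero h

omit [Fintype F] in
theorem Orth.smul (g : ↥(Cfsg.SU n F q)) {x y : USph C n} (h : Orth x y) : Orth (g • x) (g • y) := by
  show C.form (g.1.1 *ᵥ x.1) (g.1.1 *ᵥ y.1) = 0
  rw [C.form_su]; exact h

/-- the span of the two vectors is non-degenerate -/
def NonDeg (x y : USph C n) : Prop := C.form y.1 x.1 * C.bar (C.form y.1 x.1) ≠ 1

/-- orthonormal pair -/
theorem on_two {x y : Fin n → F} (hx : C.form x x = 1) (hy : C.form y y = 1) (h : C.form x y = 0) :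
    ∀ i j, C.form (![x, y] i) (![x, y] j) = if i = j then 1 else 0 := by
  intro i j
  fin_cases i <;> fin_cases j <;> simp [hx, hy, h, C.form_swap_zero h]

theorem exists_normalise {r : Fin n → F} (h : C.form r r ≠ 0) : ∃ c : F, c ≠ 0 ∧ C.form (c • r) (c • r) = 1 := by
  obtain ⟨c, hc⟩ := C.exists_norm (show C.bar (C.form r r)⁻¹ = (C.form r r)⁻¹ by rw [map_inv₀, C.form_self_fixed])
  refine ⟨c, ?_, ?_⟩
  · rintro rfl
    rw [zero_mul] at hc
    exact h (inv_eq_zero.1 hc.symm)
  · rw [C.form_smul_left, C.form_smul_right, ← mul_assoc, hc, inv_mul_cancel₀ h]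

/-- the part of a second vector orthogonal to the first -/
theorem rest {x y : USph C n} :
    C.form (y.1 - C.form y.1 x.1 • x.1) x.1 = 0 ∧
    C.form (y.1 - C.form y.1 x.1 • x.1) (y.1 - C.form y.1 x.1 • x.1) =
      1 - C.form y.1 x.1 * C.bar (C.form y.1 x.1) := by
  have hx := x.2
  have hy := y.2
  constructor
  · rw [C.form_sub_left, C.form_smul_left, hx, mul_one, sub_self]
  · simp only [C.form_sub_left, C.form_sub_right, C.form_smul_left, C.form_smul_right, hx, hy,
      ← C.bar_form y.1 x.1]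
    ring

/-- an orthonormal pair spanning the same plane -/
theorem exists_plane {x y : USph C n} (h : NonDeg x y) :
    ∃ z : Fin n → F, C.form z z = 1 ∧ C.form z x.1 = 0 ∧ (∃ a b : F, y.1 = a • x.1 + b • z) ∧
      ∀ v : Fin n → F, C.form v x.1 = 0 → C.form v y.1 = 0 → C.form v z = 0 := by
  obtain ⟨c, hc0, hc⟩ := exists_normalise (C := C) (r := y.1 - C.form y.1 x.1 • x.1)
    (by rw [rest.2]; exact sub_ne_zero.2 (Ne.symm h))
  refine ⟨_, hc, by rw [C.form_smul_left, rest.1, mul_zero], ⟨C.form y.1 x.1, c⁻¹, ?_⟩, fun v h1 h2 => ?_⟩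
  · rw [inv_smul_smul₀ hc0, add_sub_cancel]
  · rw [C.form_smul_right, C.form_sub_right, C.form_smul_right, h1, h2, mul_zero, sub_zero, mul_zero]

omit [Fintype F] in
theorem fixed_small (hF : ∀ a : F, C.bar a = a → a = 0 ∨ a = 1) {x y : USph C n} (h : NonDeg x y) :
    Orth x y := by
  have := (hF _ (C.norm_fixed (C.form y.1 x.1))).resolve_right h
  rcases mul_eq_zero.1 this with e | e
  · exact C.form_swap_zero e
  · exact C.form_swap_zero ((map_eq_zero C.bar).1 e)

/-- two units in the orthogonal of `A` and `B` with a degenerate span: a unit orthogonal to both, or orthogonal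
to the first and in non-degenerate position to the second -/
theorem near (h3 : ∃ s : F, C.bar s = s ∧ s ≠ 0 ∧ s ≠ 1) {A B : Fin n → F} {y y' : USph C n}
    (hy : C.form y.1 A = 0 ∧ C.form y.1 B = 0) (hy' : C.form y'.1 A = 0 ∧ C.form y'.1 B = 0)
    (hdeg : ¬ NonDeg y y')
    (hF2 : ∃ u : USph C n, C.form u.1 A = 0 ∧ C.form u.1 B = 0 ∧ Orth u y) :
    ∃ u : USph C n, C.form u.1 A = 0 ∧ C.form u.1 B = 0 ∧ Orth u y ∧ (Orth u y' ∨ NonDeg u y') := by
  set β := C.form y'.1 y.1 with hβ
  set r := y'.1 - β • y.1 with hr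
  have hry : C.form r y.1 = 0 := rest.1
  have hrr : C.form r r = 0 := by
    rw [hr, rest.2, sub_eq_zero, eq_comm]
    exact not_not.1 hdeg
  have hrA : C.form r A = 0 ∧ C.form r B = 0 := by
    simp only [hr, C.form_sub_left, C.form_smul_left, hy.1, hy.2, hy'.1, hy'.2, mul_zero, sub_zero, and_self]
  have hy'r : y'.1 = β • y.1 + r := by rw [hr, add_sub_cancel]
  by_cases hv : ∃ v, C.form v A = 0 ∧ C.form v B = 0 ∧ C.form v y.1 = 0 ∧ C.form v r ≠ 0
  · obtain ⟨v, hvA, hvB, hvy, hvr⟩ := hv
    obtain ⟨s, hs, hs0, hs1⟩ := h3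
    obtain ⟨e, he⟩ := C.exists_norm hs
    have he0 : e ≠ 0 := fun h => hs0 (by rw [← he, h, zero_mul])
    set d := e / C.form v r with hd
    have hd0 : d ≠ 0 := div_ne_zero he0 hvr
    have hrv : C.form r v = C.bar (C.form v r) := (C.bar_form v r).symm
    have hm : C.bar d * C.form r v ≠ 0 :=
      mul_ne_zero ((map_ne_zero C.bar).2 hd0) (by rw [hrv]; exact (map_ne_zero C.bar).2 hvr)
    obtain ⟨x, hx⟩ := C.exists_trace (c := 1 - d * C.bar d * C.form v v)
      (by rw [map_sub, map_one, map_mul, C.norm_fixed, C.form_self_fixed])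
    set c := x / (C.bar d * C.form r v) with hc
    have hcx : c * (C.bar d * C.form r v) = x := div_mul_cancel₀ _ hm
    have hcx' : C.bar c * (d * C.form v r) = C.bar x := by
      rw [← hcx, map_mul C.bar c, map_mul C.bar (C.bar d), C.bar_bar, C.bar_form]
    have hu : C.form (c • r + d • v) (c • r + d • v) = 1 := by
      simp only [C.form_add_left, C.form_add_right, C.form_smul_left, C.form_smul_right, hrr]
      linear_combination hcx + hcx' + hx
    refine ⟨⟨_, hu⟩, ?_, ?_, ?_, Or.inr ?_⟩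
    · simp [C.form_add_left, C.form_smul_left, hrA.1, hvA]
    · simp [C.form_add_left, C.form_smul_left, hrA.2, hvB]
    · show C.form (c • r + d • v) y.1 = 0
      simp [C.form_add_left, C.form_smul_left, hry, hvy]
    · show C.form y'.1 (c • r + d • v) * C.bar (C.form y'.1 (c • r + d • v)) ≠ 1
      rw [← C.bar_form (c • r + d • v) y'.1, C.bar_bar, mul_comm, hy'r]
      have e1 : C.form (c • r + d • v) (β • y.1 + r) = e := by
        simp only [C.form_add_left, C.form_add_right, C.form_smul_left, C.form_smul_right, hry, hvy, hrr]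
        rw [hd, div_mul_cancel₀ _ hvr]
        ring
      rw [e1, he]
      exact hs1
  · push Not at hv
    obtain ⟨u, huA, huB, huy⟩ := hF2
    refine ⟨u, huA, huB, huy, Or.inl ?_⟩
    show C.form u.1 y'.1 = 0
    rw [hy'r, C.form_add_right, C.form_smul_right, show C.form u.1 y.1 = 0 from huy, mul_zero, zero_add]
    exact hv u.1 huA huB huy

/-- common orthogonal vectors of a non-degenerate pair are connected -/
theorem flip (hn : 5 ≤ n) (h3 : ∃ s : F, C.bar s = s ∧ s ≠ 0 ∧ s ≠ 1) {w w' : USph C n} (h : NonDeg w w') :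
    Flip (Orth (C := C) (n := n)) w w' := by
  intro y y' hy hy' hz hz'
  obtain ⟨z, hzz, hzw, ⟨a, b, hab⟩, hperp⟩ := exists_plane h
  have two : ∀ {p t : USph C n}, Orth w p → Orth w' p → Orth w t → Orth w' t → NonDeg p t →
      Relation.ReflTransGen (fun u v => Orth u v ∧ (Orth w u ∧ Orth w' u) ∧ (Orth w v ∧ Orth w' v)) p t := by
    intro p t hp hp' ht ht' hpt
    obtain ⟨p', hpp, hpo, ⟨c, d, hcd⟩, hperp'⟩ := exists_plane hpt
    have e1 : C.form p' w.1 = 0 ∧ C.form p' z = 0 := by
      have q1 : C.form w.1 p' = 0 := hperp' w.1 hp ht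
      exact ⟨C.form_swap_zero q1, C.form_swap_zero (hperp' z
        (C.form_swap_zero (hperp p.1 hp.symm hp'.symm)) (C.form_swap_zero (hperp t.1 ht.symm ht'.symm)))⟩
    obtain ⟨v, hv, hvo, -⟩ := exists_unit_perp (C := C) ![w.1, z, p.1, p'] (fun i j => by
      fin_cases i <;> fin_cases j <;>
        simp [w.2, p.2, hzz, hpp, hzw, hpo, e1.1, e1.2, C.form_swap_zero hzw, C.form_swap_zero hpo,
          C.form_swap_zero e1.1, C.form_swap_zero e1.2, hperp p.1 hp.symm hp'.symm,
          C.form_swap_zero (hperp p.1 hp.symm hp'.symm), show C.form p.1 w.1 = 0 from hp.symm,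
          show C.form w.1 p.1 = 0 from hp]) (Fin.elim0 : Fin 0 → Fin n → F) (by omega)
    let u : USph C n := ⟨v, hv⟩
    have hvw : Orth w u := C.form_swap_zero (hvo 0)
    have hvw' : Orth w' u := by
      show C.form w'.1 v = 0
      rw [hab, C.form_add_left, C.form_smul_left, C.form_smul_left, show C.form w.1 v = 0 from C.form_swap_zero (hvo 0),
        show C.form z v = 0 from C.form_swap_zero (hvo 1)]
      simp
    have hvp : Orth p u := C.form_swap_zero (hvo 2)
    have hvt : Orth u t := by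
      show C.form v t.1 = 0
      rw [hcd, C.form_add_right, C.form_smul_right, C.form_smul_right, show C.form v p.1 = 0 from hvo 2,
        show C.form v p' = 0 from hvo 3]
      simp
    exact (Relation.ReflTransGen.single ⟨hvp, ⟨hp, hp'⟩, hvw, hvw'⟩).tail ⟨hvt, ⟨hvw, hvw'⟩, ht, ht'⟩
  by_cases hyy : NonDeg y y'
  · exact two hy hy' hz hz' hyy
  have hF2 : ∃ u : USph C n, C.form u.1 w.1 = 0 ∧ C.form u.1 w'.1 = 0 ∧ Orth u y := by
    obtain ⟨v, hv, hvo, -⟩ := exists_unit_perp (C := C) ![w.1, z, y.1] (fun i j => by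
      fin_cases i <;> fin_cases j <;>
        simp [w.2, y.2, hzz, hzw, C.form_swap_zero hzw, hperp y.1 hy.symm hy'.symm,
          C.form_swap_zero (hperp y.1 hy.symm hy'.symm), show C.form y.1 w.1 = 0 from hy.symm,
          show C.form w.1 y.1 = 0 from hy]) (Fin.elim0 : Fin 0 → Fin n → F) (by omega)
    refine ⟨⟨v, hv⟩, hvo 0, ?_, hvo 2⟩
    rw [hab, C.form_add_right, C.form_smul_right, C.form_smul_right, show C.form v w.1 = 0 from hvo 0,
      show C.form v z = 0 from hvo 1]
    simp
  obtain ⟨u, huw, huw', huy, hu⟩ := near h3 ⟨hy.symm, hy'.symm⟩ ⟨hz.symm, hz'.symm⟩ hyy hF2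
  have wu : Orth w u := C.form_swap_zero huw
  have wu' : Orth w' u := C.form_swap_zero huw'
  refine Relation.ReflTransGen.head ⟨huy.symm, ⟨hy, hy'⟩, wu, wu'⟩ ?_
  rcases hu with hu | hu
  · exact Relation.ReflTransGen.single ⟨hu, ⟨wu, wu'⟩, hz, hz'⟩
  · exact two wu wu' hz hz' hu

/-- two isotropic vectors orthogonal to each other and to an orthonormal pair in dimension five -/
theorem parallel_five (hn : n = 5) {a w z r : Fin n → F} (ha : C.form a a = 1) (hw : C.form w w = 1)
    (haw : C.form a w = 0) (hz0 : z ≠ 0) (hzz : C.form z z = 0) (hrr : C.form r r = 0) (hrz : C.form r z = 0)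
    (hza : C.form z a = 0) (hzw : C.form z w = 0) (hra : C.form r a = 0) (hrw : C.form r w = 0) :
    ∃ c : F, r = c • z := by
  by_contra hcon
  have hr0 : r ≠ 0 := fun h => hcon ⟨0, by rw [h, zero_smul]⟩
  have h1 : ∃ f, C.form f r = 0 ∧ C.form f z ≠ 0 := by
    by_contra hf
    push Not at hf
    obtain ⟨c, hc⟩ := C.eq_smul_of_orth hr0 hf
    exact hcon ⟨c⁻¹, by rw [hc, inv_smul_smul₀ (fun h => hz0 (by rw [hc, h, zero_smul]))]⟩
  have h2 : ∃ g, C.form g z = 0 ∧ C.form g r ≠ 0 := by
    by_contra hf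
    push Not at hf
    exact hcon (C.eq_smul_of_orth hz0 hf)
  obtain ⟨f, hfr, hfz⟩ := h1
  obtain ⟨g, hgz, hgr⟩ := h2
  have fix : ∀ f : Fin n → F, ∃ f', C.form f' a = 0 ∧ C.form f' w = 0 ∧ C.form f' z = C.form f z ∧
      C.form f' r = C.form f r := fun f =>
    ⟨f - C.form f a • a - C.form f w • w, by
      simp [C.form_sub_left, C.form_smul_left, ha, C.form_swap_zero haw], by
      simp [C.form_sub_left, C.form_smul_left, hw, haw], by
      simp [C.form_sub_left, C.form_smul_left, C.form_swap_zero hza, C.form_swap_zero hzw], by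
      simp [C.form_sub_left, C.form_smul_left, C.form_swap_zero hra, C.form_swap_zero hrw]⟩
  obtain ⟨f', fa, fw, fz, fr⟩ := fix f
  obtain ⟨g', ga, gw, gz, gr⟩ := fix g
  rw [hfr] at fr
  rw [hgz] at gz
  rw [← fz] at hfz
  rw [← gr] at hgr
  have hli : LinearIndependent F ![a, w, z, r, f', g'] := by
    rw [Fintype.linearIndependent_iff]
    intro c hc
    have h : ∀ v, ∑ i, c i * C.form (![a, w, z, r, f', g'] i) v = 0 := fun v => by
      have := congrArg (fun t => C.form t v) hc
      simpa [C.form_sum_left, C.form_smul_left, C.form_zero_left] using this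
    have hz' := C.form_swap_zero hrz
    have c4 : c 4 = 0 := by
      have := h z
      simpa [Fin.sum_univ_six, hzz, hrz, C.form_swap_zero hza, C.form_swap_zero hzw, gz, hfz] using this
    have c5 : c 5 = 0 := by
      have := h r
      simpa [Fin.sum_univ_six, hz', hrr, C.form_swap_zero hra, C.form_swap_zero hrw, fr, hgr] using this
    have c0 : c 0 = 0 := by
      have := h a
      simpa [Fin.sum_univ_six, ha, C.form_swap_zero haw, hza, hra, fa, ga] using this
    have c1 : c 1 = 0 := by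
      have := h w
      simpa [Fin.sum_univ_six, hw, haw, hzw, hrw, fw, gw] using this
    have c2 : c 2 = 0 := by
      have := h f'
      simpa [Fin.sum_univ_six, c0, c1, c4, c5, C.form_swap_zero fr,
        show C.form z f' ≠ 0 from fun e => hfz (C.form_swap_zero e)] using this
    have c3 : c 3 = 0 := by
      have := h g'
      simpa [Fin.sum_univ_six, c0, c1, c2, c4, c5,
        show C.form r g' ≠ 0 from fun e => hgr (C.form_swap_zero e)] using this
    intro i
    fin_cases i
    exacts [c0, c1, c2, c3, c4, c5]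
  have := hli.fintype_card_le_finrank
  rw [Fintype.card_fin, Module.finrank_fin_fun, hn] at this
  omega

theorem exists_mid (hn : 5 ≤ n) (a x y : USph C n) (h : Orth x y) :
    ∃ w : USph C n, Orth a w ∧ Orth w x ∧ Orth w y := by
  obtain ⟨v, hv, hvo, hvt⟩ := exists_unit_perp (C := C) ![x.1, y.1] (on_two x.2 y.2 h) ![a.1] (by omega)
  exact ⟨⟨v, hv⟩, C.form_swap_zero (hvt 0), hvo 0, hvo 1⟩

/-- the graph -/
theorem graph (hn : 5 ≤ n) (hq : (∃ s : F, C.bar s = s ∧ s ≠ 0 ∧ s ≠ 1) ∨ n = 5 ∨ 7 ≤ n) (a : USph C n) :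
    Graph ↥(Cfsg.SU n F q) (Orth (C := C) (n := n)) a where
  symm _ _ h := h.symm
  inv g _ _ h := h.smul g
  mid x y h := exists_mid hn a x y h
  mid_two x := by
    obtain ⟨v, hv, hvo, hvt⟩ := exists_unit_perp (C := C) ![x.1] (fun i j => by
      fin_cases i; fin_cases j; simpa using x.2) ![a.1] (by omega)
    exact ⟨⟨v, hv⟩, C.form_swap_zero (hvt 0), hvo 0⟩
  conn x w w' hax haw hwx haw' hwx' := by
    have hwa : C.form w.1 a.1 = 0 := haw.symm
    have hw'a : C.form w'.1 a.1 = 0 := haw'.symm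
    obtain ⟨v, hv, hvo, hvt⟩ := exists_unit_perp (C := C) ![w.1, a.1] (on_two w.2 a.2 hwa) ![x.1] (by omega)
    have hF2 : ∃ u : USph C n, C.form u.1 a.1 = 0 ∧ C.form u.1 x.1 = 0 ∧ Orth u w :=
      ⟨⟨v, hv⟩, hvo 1, hvt 0, hvo 0⟩
    have path : ∀ u : USph C n, C.form u.1 a.1 = 0 → C.form u.1 x.1 = 0 → Orth u w →
        (Orth u w' ∨ Flip (Orth (C := C) (n := n)) u w') →
        Relation.ReflTransGen (fun p t => (Orth p t ∨ Flip (Orth (C := C) (n := n)) p t) ∧
          (Orth a p ∧ Orth p x) ∧ (Orth a t ∧ Orth t x)) w w' := fun u hua hux huw huw' =>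
      (Relation.ReflTransGen.single ⟨Or.inl huw.symm, ⟨haw, hwx⟩, C.form_swap_zero hua, hux⟩).tail
        ⟨huw', ⟨C.form_swap_zero hua, hux⟩, haw', hwx'⟩
    by_cases hs : ∃ s : F, C.bar s = s ∧ s ≠ 0 ∧ s ≠ 1
    · by_cases hd : NonDeg w w'
      · exact Relation.ReflTransGen.single ⟨Or.inr (flip hn hs hd), ⟨haw, hwx⟩, haw', hwx'⟩
      · obtain ⟨u, hua, hux, huw, hu⟩ := near hs ⟨hwa, hwx⟩ ⟨hw'a, hwx'⟩ hd hF2
        exact path u hua hux huw (hu.imp_right (flip hn hs))
    · have hn' := hq.resolve_left hs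
      have hfix : ∀ c : F, C.bar c = c → c = 0 ∨ c = 1 := fun c hc => by
        by_contra h
        push Not at h
        exact hs ⟨c, hc, h.1, h.2⟩
      by_cases hd : NonDeg w w'
      · exact Relation.ReflTransGen.single ⟨Or.inl (fixed_small hfix hd), ⟨haw, hwx⟩, haw', hwx'⟩
      set r := w'.1 - C.form w'.1 w.1 • w.1 with hr
      have hrw : C.form r w.1 = 0 := rest.1
      have hw'r : w'.1 = C.form w'.1 w.1 • w.1 + r := by rw [hr, add_sub_cancel]
      suffices hu : ∃ u : USph C n, C.form u.1 a.1 = 0 ∧ C.form u.1 x.1 = 0 ∧ Orth u w ∧ C.form u.1 r = 0 by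
        obtain ⟨u, hua, hux, huw, hur⟩ := hu
        refine path u hua hux huw (Or.inl ?_)
        show C.form u.1 w'.1 = 0
        rw [hw'r, C.form_add_right, C.form_smul_right, show C.form u.1 w.1 = 0 from huw, hur]
        simp
      rcases hn' with h5 | h7
      · have had : ¬ NonDeg a x := fun h => hax (fixed_small hfix h)
        set z := x.1 - C.form x.1 a.1 • a.1 with hz
        have hza : C.form z a.1 = 0 := rest.1
        have hzz : C.form z z = 0 := by
          rw [hz, rest.2, sub_eq_zero, eq_comm]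
          exact not_not.1 had
        have hrr : C.form r r = 0 := by
          rw [hr, rest.2, sub_eq_zero, eq_comm]
          exact not_not.1 hd
        have hra : C.form r a.1 = 0 := by
          simp [hr, C.form_sub_left, C.form_smul_left, hwa, hw'a]
        have hxz : x.1 = C.form x.1 a.1 • a.1 + z := by rw [hz, add_sub_cancel]
        by_cases hz0 : z = 0
        · obtain ⟨v, hv, hvo, hvt⟩ :=
            exists_unit_perp (C := C) ![w.1, a.1] (on_two w.2 a.2 hwa) ![r] (by omega)
          refine ⟨⟨v, hv⟩, hvo 1, ?_, hvo 0, hvt 0⟩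
          rw [hxz, hz0, add_zero, C.form_smul_right, show C.form v a.1 = 0 from hvo 1, mul_zero]
        · have hzw : C.form z w.1 = 0 := by
            simp [hz, C.form_sub_left, C.form_smul_left, show C.form x.1 w.1 = 0 from hwx.symm,
              show C.form a.1 w.1 = 0 from haw]
          have hrz : C.form r z = 0 := by
            simp [hz, hr, C.form_sub_left, C.form_sub_right, C.form_smul_left, C.form_smul_right, hwa, hw'a,
              show C.form w.1 x.1 = 0 from hwx, show C.form w'.1 x.1 = 0 from hwx']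
          obtain ⟨c, hc⟩ := parallel_five h5 a.2 w.2 haw hz0 hzz hrr hrz hza hzw hra hrw
          obtain ⟨u, hua, hux, huw⟩ := hF2
          refine ⟨u, hua, hux, huw, ?_⟩
          rw [hc, C.form_smul_right, hz, C.form_sub_right, C.form_smul_right, hua, hux]
          simp
      · obtain ⟨v, hv, hvo, hvt⟩ :=
          exists_unit_perp (C := C) ![w.1, a.1] (on_two w.2 a.2 hwa) ![x.1, r] (by omega)
        exact ⟨⟨v, hv⟩, hvo 1, hvt 0, hvo 0, hvt 1⟩

end CfsgLib.Lie.BoundedPres.SUGraph
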