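import Cfsg.Agent.Lib.Lie.BoundedPres.SU.Coords
import Cfsg.Agent.Lib.Lie.BoundedPres.SU.Sphere
import Cfsg.Agent.Lib.Lie.BoundedPres.SU.Six

/-!
# One more coordinate

A subgroup mapping isomorphically onto the unitary group of the first `k` coordinates, and an element inducing a
three-cycle of the last coordinates, generate a copy of the unitary group of the first `k + 1` coordinates.
-/

set_option autoImplicit false

namespace CfsgLib.Lie.BoundedPres.SUGraph

open Matrix CfsgLib.SU CfsgLib.Lie.BoundedPres.SUBase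
open MulAction (stabilizer)

universe u

variable {F : Type u} [Field F] [Fintype F] {q n : ℕ} {Γ : Type*} [Group Γ]

theorem li_coord (C : UCtx F q) {k : ℕ} {ι : Type} [Fintype ι] [DecidableEq ι] {t : ι → Fin k → F}
    (h : ∀ i j, C.form (t i) (t j) = if i = j then 1 else 0) : LinearIndependent F t := by
  rw [Fintype.linearIndependent_iff]
  intro c hc i
  have := congrArg (fun v => C.form v (t i)) hc
  simpa [C.form_sum_left, C.form_smul_left, C.form_zero_left, h] using this

theorem on_three {C : UCtx F q} {k : ℕ} {x y z : Fin k → F} (hx : C.form x x = 1) (hy : C.form y y = 1)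
    (hz : C.form z z = 1) (hxy : C.form x y = 0) (hxz : C.form x z = 0) (hyz : C.form y z = 0) :
    ∀ i j, C.form (![x, y, z] i) (![x, y, z] j) = if i = j then 1 else 0 := by
  intro i j
  fin_cases i <;> fin_cases j <;>
    simp [hx, hy, hz, hxy, hxz, hyz, C.form_swap_zero hxy, C.form_swap_zero hxz, C.form_swap_zero hyz]

/-- the first `m` coordinates followed by zeros -/
def pad {m : ℕ} (v : Fin m → F) : Fin n → F := fun i => if h : i.val < m then v ⟨i.val, h⟩ else 0

/-- the three particular closed paths from dimension five to six -/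
def SixLinks (π : Γ →* ↥(Cfsg.SU n F q)) (H : Subgroup Γ) (r : Γ) : Prop :=
  ∀ P : F, P ≠ 0 → ∃ h1 ∈ H, ∃ h2 ∈ H, ∃ g1 ∈ H, ∃ g2 ∈ H,
    (π (h1 * r)).1.1 *ᵥ pad (sv (5 : Fin 6)) = pad (sv (2 : Fin 6)) ∧
    (π (h1 * r * h2 * r)).1.1 *ᵥ pad (sv (5 : Fin 6)) = pad (xSix (F := F)) ∧
    (π (g1 * r)).1.1 *ᵥ pad (sv (5 : Fin 6)) = pad (repSix P) ∧
    (π (g1 * r * g2 * r)).1.1 *ᵥ pad (sv (5 : Fin 6)) = pad (xSix (F := F)) ∧
    (h1 * r * h2 * r)⁻¹ * (g1 * r * g2 * r) ∈ H

/-- one more coordinate -/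
theorem step (C : UCtx F q) {k : ℕ} (hk : k + 1 ≤ n) (h5 : 4 ≤ k)
    (π : Γ →* ↥(Cfsg.SU n F q)) (H : Subgroup Γ) (r : Γ)
    (hq : (∃ s : F, C.bar s = s ∧ s ≠ 0 ∧ s ≠ 1) ∨ k = 4 ∨ 6 ≤ k ∨
      (k = 5 ∧ (∀ s : F, C.bar s = s → s = 0 ∨ s = 1) ∧ SixLinks π H r)) (hinj : Set.InjOn π H) (hmap : H.map π = fixFrom k)
    (hr : π r ∈ fixFrom (k + 1))
    (hr1 : (π r).1.1 *ᵥ sv ⟨k, by omega⟩ = sv ⟨k - 1, by omega⟩)
    (hr2 : (π r).1.1 *ᵥ sv ⟨k - 1, by omega⟩ = sv ⟨k - 2, by omega⟩)
    (hr3 : r * r * r = 1) (hrev : ∃ τ ∈ H, τ * r * τ⁻¹ = r⁻¹)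
    (hloc : ∀ h ∈ H, π h ∈ fixFrom (k - 1) → r⁻¹ * h * r ∈ H) :
    Set.InjOn π (Subgroup.closure ((H : Set Γ) ∪ {r})) ∧
      (Subgroup.closure ((H : Set Γ) ∪ {r})).map π = fixFrom (k + 1) := by
  classical
  obtain ⟨ι, hιi, hιr, hιe⟩ := exists_coord_emb (n := n) C hk
  set K := Subgroup.closure ((H : Set Γ) ∪ {r}) with hK
  have hKle : ∀ γ ∈ K, π γ ∈ ι.range := by
    intro γ hγ
    rw [hιr]
    have : K ≤ (fixFrom (k + 1)).comap π := by
      rw [hK, Subgroup.closure_le]
      rintro x (hx | rfl)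
      · exact fixFrom_mono (Nat.le_succ k) (hmap ▸ Subgroup.mem_map_of_mem π hx)
      · exact hr
    exact this hγ
  let π' : ↥K →* ↥(Cfsg.SU (k + 1) F q) :=
    (MonoidHom.ofInjective hιi).symm.toMonoidHom.comp ((π.comp K.subtype).codRestrict ι.range fun x => hKle x.1 x.2)
  have hπ' : ∀ γ : ↥K, ι (π' γ) = π γ.1 := fun γ => by
    have := (MonoidHom.ofInjective hιi).apply_symm_apply
      ((π.comp K.subtype).codRestrict ι.range (fun x => hKle x.1 x.2) γ)
    exact congrArg Subtype.val this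
  let up : Fin (k + 1) → Fin n := Fin.castLE hk
  have col : ∀ (A : ↥(Cfsg.SU (k + 1) F q)) (j l : Fin (k + 1)),
      (A.1.1 *ᵥ sv j = sv l ↔ (ι A).1.1 *ᵥ sv (up j) = sv (up l)) := by
    intro A j l
    simp only [sv, Matrix.mulVec_single_one]
    constructor
    · intro h
      funext i
      have := hιe A j i
      rw [show (ι A).1.1.col (up j) i = (ι A).1.1 i (up j) from rfl, this]
      by_cases hi : i.val < k + 1
      · rw [dif_pos hi]
        have e := congrFun h ⟨i.val, hi⟩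
        simp only [Matrix.col_apply] at e
        rw [e]
        simp [Pi.single_apply, Fin.ext_iff, up]
      · rw [dif_neg hi]
        have : i ≠ up l := fun e => hi (by rw [e]; exact l.isLt)
        simp [Pi.single_apply, this]
    · intro h
      funext i
      have := congrFun h (up i)
      simp only [Matrix.col_apply, up] at this
      rw [hιe A j (Fin.castLE hk i)] at this
      simp only [Fin.val_castLE, i.isLt, dite_true, Fin.eta] at this
      simp only [Matrix.col_apply]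
      rw [this]
      simp [Pi.single_apply, Fin.ext_iff]
  let top : Fin (k + 1) := ⟨k, by omega⟩
  let mid : Fin (k + 1) := ⟨k - 1, by omega⟩
  let low : Fin (k + 1) := ⟨k - 2, by omega⟩
  have hu : ∀ i : Fin (k + 1), C.form (sv i) (sv i : Fin (k + 1) → F) = 1 := fun i => by
    rw [form_sv, if_pos rfl]
  let a : USph C (k + 1) := ⟨sv top, hu top⟩
  let b : USph C (k + 1) := ⟨sv mid, hu mid⟩
  let c : USph C (k + 1) := ⟨sv low, hu low⟩
  have hrK : r ∈ K := Subgroup.subset_closure (Or.inr rfl)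
  have hHK : H ≤ K := fun x hx => Subgroup.subset_closure (Or.inl hx)
  let rK : ↥K := ⟨r, hrK⟩
  let HK : Subgroup ↥K := H.subgroupOf K
  have hra : π' rK • a = b := Subtype.ext ((col _ top mid).2 (by rw [hπ']; exact hr1))
  have hrb : π' rK • b = c := Subtype.ext ((col _ mid low).2 (by rw [hπ']; exact hr2))
  have htop : ∀ A : ↥(Cfsg.SU (k + 1) F q), A • a = a ↔ ι A ∈ fixFrom k := by
    intro A
    rw [Subtype.ext_iff, smul_usph, show a.1 = sv top from rfl, col]
    constructor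
    · intro h i hi
      rcases Nat.lt_or_ge i.val (k + 1) with hlt | hge
      · rw [show i = up top from Fin.ext (by simp [up, top]; omega)]; exact h
      · exact (hιr ▸ ⟨A, rfl⟩ : ι A ∈ fixFrom (k + 1)) i hge
    · exact fun h => h _ le_rfl
  have hfixH : ∀ h : ↥K, h ∈ HK → π h.1 ∈ fixFrom k := fun h hh => hmap ▸ Subgroup.mem_map_of_mem π hh
  have hlow : ∀ h : ↥K, h ∈ HK → π' h • b = b → π h.1 ∈ fixFrom (k - 1) := by
    intro h hh he i hi
    rcases Nat.lt_or_ge i.val k with hlt | hge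
    · rw [show i = up mid from Fin.ext (by simp [up, mid]; omega)]
      have := (col _ mid mid).1 (congrArg Subtype.val he)
      rwa [hπ'] at this
    · exact hfixH h hh i hge
  have hloc' : ∀ h ∈ HK, π' h • π' rK • a = π' rK • a → rK⁻¹ * h * rK ∈ HK := by
    intro h hh he
    rw [hra] at he
    exact hloc h.1 hh (hlow h hh he)
  have honto : HK.map π' = stabilizer ↥(Cfsg.SU (k + 1) F q) a := by
    ext A
    rw [MulAction.mem_stabilizer_iff, htop]
    constructor
    · rintro ⟨h, hh, rfl⟩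
      rw [hπ']
      exact hfixH h hh
    · intro hA
      rw [← hmap] at hA
      obtain ⟨h, hh, e⟩ := hA
      exact ⟨⟨h, hHK hh⟩, hh, hιi (by rw [hπ']; exact e)⟩
  have hab : Orth a b := by
    show C.form (sv top) (sv mid) = 0
    rw [form_sv, if_neg (by simp [top, mid, Fin.ext_iff]; omega)]
  have hbc : Orth b c := by
    show C.form (sv mid) (sv low) = 0
    rw [form_sv, if_neg (by simp [low, mid, Fin.ext_iff]; omega)]
  have hac : Orth a c := by
    show C.form (sv top) (sv low) = 0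
    rw [form_sv, if_neg (by simp [low, top, Fin.ext_iff]; omega)]
  obtain ⟨τ, hτH, hτ⟩ := hrev
  let τK : ↥K := ⟨τ, hHK hτH⟩
  have hτr : τK * rK * τK⁻¹ = rK * rK := Subtype.ext (by
    show τ * r * τ⁻¹ = r * r
    rw [hτ]
    exact inv_eq_of_mul_eq_one_left hr3)
  have hτb : π' τK • b = c := by
    have h1 : π' (τK * rK * τK⁻¹) • a = π' τK • b := by
      rw [map_mul, map_mul, mul_smul, mul_smul]
      rw [show π' τK⁻¹ • a = a from (MulAction.mem_stabilizer_iff.1
        (honto ▸ Subgroup.mem_map_of_mem π' (inv_mem (show τK ∈ HK from hτH)))), hra]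
    rw [← h1, hτr, map_mul, mul_smul, hra, hrb]
  have L : Lift π' HK rK (Orth (C := C) (n := k + 1)) a := by
    refine ⟨?_, honto, by rw [hra]; exact hab, ?_, hloc', ⟨τK⁻¹, inv_mem hτH, ?_⟩, ?_, ?_⟩
    · intro x hx y hy e
      exact Subtype.ext (hinj hx hy ((hπ' x).symm.trans ((congrArg ι e).trans (hπ' y))))
    · intro x hx
      obtain ⟨w, hw, hwo, hwt⟩ := exists_unit_perp (C := C) ![a.1] (fun i j => by
        fin_cases i; fin_cases j; simpa using a.2) ![x.1] (by omega)
      have hwab : ∃ w : Fin (k + 1) → F, C.form w w = 1 ∧ C.form a.1 w = 0 ∧ C.form b.1 w = 0 :=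
        ⟨c.1, c.2, hac, hbc⟩
      obtain ⟨w, hw, hwa, hwb⟩ := hwab
      obtain ⟨g, hg⟩ := exists_su_move_tuple (C := C) (t := ![a.1, b.1]) (t' := ![a.1, x.1])
        (li_coord C (on_two a.2 b.2 hab)) (li_coord C (on_two a.2 x.2 hx))
        (fun i j => by rw [on_two a.2 b.2 hab, on_two a.2 x.2 hx]) hw
        (fun i => by fin_cases i <;> simpa)
      refine ⟨g, MulAction.mem_stabilizer_iff.2 (Subtype.ext (hg 0)), ?_⟩
      rw [hra]
      exact Subtype.ext (hg 1)
    · show rK * τK⁻¹ * rK ∈ HK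
      have : rK * τK⁻¹ * rK = τK⁻¹ := by
        have e : rK * τK⁻¹ = τK⁻¹ * (rK * rK) := by rw [← hτr]; group
        rw [e, mul_assoc, show rK * rK * rK = 1 from Subtype.ext hr3, mul_one]
      rw [this]
      exact inv_mem hτH
    · intro h hh hadj
      rw [hra] at hadj
      have hta : π' h • a = a := MulAction.mem_stabilizer_iff.1 (honto ▸ Subgroup.mem_map_of_mem π' hh)
      have hax : Orth a (π' h • b) := by
        have := hab.smul (π' h)
        rwa [hta] at this
      obtain ⟨w, hw, hwo, -⟩ := exists_unit_perp (C := C) ![a.1, b.1, c.1]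
        (on_three a.2 b.2 c.2 hab hac hbc) (Fin.elim0 : Fin 0 → Fin (k + 1) → F) (by omega)
      obtain ⟨g, hg⟩ := exists_su_move_tuple (C := C) (t := ![a.1, b.1, c.1]) (t' := ![a.1, b.1, (π' h • b).1])
        (li_coord C (on_three a.2 b.2 c.2 hab hac hbc))
        (li_coord C (on_three a.2 b.2 (π' h • b).2 hab hax hadj))
        (fun i j => by rw [on_three a.2 b.2 c.2 hab hac hbc, on_three a.2 b.2 (π' h • b).2 hab hax hadj]) hw
        (fun i => C.form_swap_zero (hwo i))
      have hgs : g ∈ stabilizer ↥(Cfsg.SU (k + 1) F q) a := MulAction.mem_stabilizer_iff.2 (Subtype.ext (hg 0))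
      rw [← honto] at hgs
      obtain ⟨k', hk', rfl⟩ := hgs
      have hk'b : π' k' • b = b := Subtype.ext (hg 1)
      have hk'c : π' k' • c = π' h • b := Subtype.ext (hg 2)
      have j1 : rK⁻¹ * k' * rK ∈ HK := hloc' k' hk' (by rw [hra]; exact hk'b)
      have j2 : rK⁻¹ * ((k' * τK)⁻¹ * h) * rK ∈ HK := by
        refine hloc' _ (mul_mem (inv_mem (mul_mem hk' hτH)) hh) ?_
        rw [hra, map_mul, map_inv, mul_smul, inv_smul_eq_iff, map_mul, mul_smul, hτb, hk'c]
      refine ⟨rK⁻¹ * k' * rK, j1, τK * (rK⁻¹ * ((k' * τK)⁻¹ * h) * rK), mul_mem hτH j2, ?_⟩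
      have e : τK * rK = rK * rK * τK := by rw [← hτr]; group
      calc rK⁻¹ * h * rK = (rK⁻¹ * k' * rK) * (rK⁻¹ * (τK * rK)) * (rK⁻¹ * ((k' * τK)⁻¹ * h) * rK) := by group
        _ = _ := by rw [e]; group
    · rw [eq_top_iff]
      rintro ⟨x, hx⟩ -
      induction hx using Subgroup.closure_induction with
      | mem y hy =>
        rcases hy with hy | rfl
        · exact Subgroup.subset_closure (Or.inl hy)
        · exact Subgroup.subset_closure (Or.inr rfl)
      | one => exact one_mem _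
      | mul y z hy hz h1 h2 => exact Subgroup.mul_mem _ (h1 : (⟨y, hy⟩ : ↥K) ∈ _) (h2 : (⟨z, hz⟩ : ↥K) ∈ _)
      | inv y hy h1 => exact Subgroup.inv_mem _ (h1 : (⟨y, hy⟩ : ↥K) ∈ _)
  obtain ⟨hI, hS⟩ : Function.Bijective π' := by
    rcases hq with h | h | h | ⟨h5', hfix, hlinks⟩
    · exact L.bijective (graph (C := C) (n := k + 1) (by omega) (Or.inl h) a)
    · exact L.bijective (graph (C := C) (n := k + 1) (by omega) (Or.inr (Or.inl (by omega))) a)
    · exact L.bijective (graph (C := C) (n := k + 1) (by omega) (Or.inr (Or.inr (by omega))) a)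
    subst h5'
    have hpad : ∀ (A : ↥(Cfsg.SU (5 + 1) F q)) (v : Fin (5 + 1) → F),
        (ι A).1.1 *ᵥ pad v = pad (A.1.1 *ᵥ v) := by
      intro A v
      have e : (pad v : Fin n → F) = ∑ j, v j • sv (up j) := by
        funext i
        simp only [pad, Finset.sum_apply, Pi.smul_apply, sv, smul_eq_mul]
        by_cases hi : i.val < 5 + 1
        · rw [dif_pos hi, Finset.sum_eq_single ⟨i.val, hi⟩]
          · simp [up]
          · intro j _ hj
            rw [Pi.single_apply, if_neg, mul_zero]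
            exact fun e => hj (Fin.ext (show j.val = i.val from (congrArg Fin.val e).symm))
          · intro h; exact absurd (Finset.mem_univ _) h
        · rw [dif_neg hi, Finset.sum_eq_zero]
          intro j _
          rw [Pi.single_apply, if_neg, mul_zero]
          exact fun e => hi (lt_of_eq_of_lt (congrArg Fin.val e) j.isLt)
      rw [e, Matrix.mulVec_sum]
      funext i
      simp only [Finset.sum_apply, Matrix.mulVec_smul, Pi.smul_apply, smul_eq_mul, sv, Matrix.mulVec_single_one]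
      show ∑ j, v j * (ι A).1.1 i (up j) = _
      simp only [up, hιe, pad]
      by_cases hi : i.val < 5 + 1
      · simp only [dif_pos hi, mulVec, dotProduct]
        exact Finset.sum_congr rfl fun j _ => mul_comm _ _
      · simp [dif_neg hi]
    have hinjpad : ∀ {v w : Fin (5 + 1) → F}, (pad v : Fin n → F) = pad w → v = w := fun {v w} e => funext fun j => by
      have := congrFun e (up j)
      simpa [pad, up, j.isLt] using this
    refine L.bijective_of (graphBase (by norm_num) a) (SixClosed.uniq hfix L rfl ?_)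
    intro P hP w w' x hw hw' hx
    obtain ⟨h1, hh1, h2, hh2, g1, hg1, g2, hg2, e1, e2, e3, e4, hmem⟩ := hlinks P hP
    let K1 : ↥K := ⟨h1, hHK hh1⟩
    let K2 : ↥K := ⟨h2, hHK hh2⟩
    let L1 : ↥K := ⟨g1, hHK hg1⟩
    let L2 : ↥K := ⟨g2, hHK hg2⟩
    have via : ∀ (u1 u2 : ↥K) (z : USph C (5 + 1)), u1 ∈ HK → u2 ∈ HK →
        (π (u1.1 * r)).1.1 *ᵥ pad (sv (5 : Fin 6)) = pad z.1 →
        (π (u1.1 * r * u2.1 * r)).1.1 *ᵥ pad (sv (5 : Fin 6)) = pad x.1 →
        L.Via z x ((u1 * rK * u2 * rK : ↥K) : ↥K ⧸ HK) := by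
      intro u1 u2 z hu1 hu2 q1 q2
      refine ⟨((u1 * rK : ↥K) : ↥K ⧸ HK), ⟨1, u1, hu1, rfl, by rw [one_mul]⟩, ?_, ⟨u1 * rK, u2, hu2, rfl, rfl⟩, ?_⟩
      · refine Subtype.ext (hinjpad ?_)
        show pad ((π' (u1 * rK)).1.1 *ᵥ sv top) = pad z.1
        rw [← hpad, hπ']
        exact q1
      · refine Subtype.ext (hinjpad ?_)
        show pad ((π' (u1 * rK * u2 * rK)).1.1 *ᵥ sv top) = pad x.1
        rw [← hpad, hπ']
        exact q2
    have v1 := via K1 K2 w hh1 hh2 (by rw [hw]; exact e1) (by rw [hx]; exact e2)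
    have v2 := via L1 L2 w' hg1 hg2 (by rw [hw']; exact e3) (by rw [hx]; exact e4)
    refine ⟨_, v1, ?_⟩
    rwa [mk_eq_of_mem (g := K1 * rK * K2 * rK) (g' := L1 * rK * L2 * rK) hmem]
  refine ⟨fun x hx y hy e => ?_, le_antisymm ?_ ?_⟩
  · have := @hI ⟨x, hx⟩ ⟨y, hy⟩ (hιi (by rw [hπ', hπ']; exact e))
    exact congrArg Subtype.val this
  · rw [← hιr]
    rintro _ ⟨x, hx, rfl⟩
    exact hKle x hx
  · rw [← hιr]
    rintro _ ⟨A, rfl⟩
    obtain ⟨γ, rfl⟩ := hS A
    exact ⟨γ.1, γ.2, (hπ' γ).symm⟩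

end CfsgLib.Lie.BoundedPres.SUGraph
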