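import Cfsg.Agent.Lib.Lie.BoundedPres.SU.Family
import Cfsg.Agent.Lib.Lie.BoundedPres.SU.Pairs

/-!
# Generators of the unitary group in dimension three over two fixed scalars

The cyclic permutation, a diagonal element and two conjugates of the Fourier matrix.
-/

set_option autoImplicit false

namespace CfsgLib.Lie.BoundedPres.SUGraph

open Matrix Equiv CfsgLib.SU

universe u

variable {F : Type u} [Field F] [Fintype F] {q : ℕ} {C : UCtx F q}

omit [Fintype F] in
/-- a matrix with orthonormal columns preserves the form -/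
theorem form_of_cols {n : ℕ} (M : Matrix (Fin n) (Fin n) F)
    (h : ∀ j k, C.form (fun i => M i j) (fun i => M i k) = if j = k then 1 else 0) (u v : Fin n → F) :
    C.form (M *ᵥ u) (M *ᵥ v) = C.form u v := by
  simp only [UCtx.form, Matrix.mulVec, dotProduct, map_sum, map_mul, Finset.sum_mul_sum]
  rw [Finset.sum_comm]
  refine Finset.sum_congr rfl fun j _ => ?_
  rw [Finset.sum_comm, Finset.sum_eq_single j]
  · have := h j j
    rw [if_pos rfl] at this
    simp only [UCtx.form] at this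
    calc _ = u j * C.bar (v j) * ∑ i, M i j * C.bar (M i j) := by
          rw [Finset.mul_sum]; exact Finset.sum_congr rfl fun i _ => by ring
      _ = _ := by rw [this, mul_one]
  · intro k _ hk
    have := h j k
    rw [if_neg (Ne.symm hk)] at this
    simp only [UCtx.form] at this
    calc _ = u j * C.bar (v k) * ∑ i, M i j * C.bar (M i k) := by
          rw [Finset.mul_sum]; exact Finset.sum_congr rfl fun i _ => by ring
      _ = _ := by rw [this, mul_zero]
  · intro h; exact absurd (Finset.mem_univ _) h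

variable (hfix : ∀ a : F, C.bar a = a → a = 0 ∨ a = 1)
include hfix

omit [Fintype F] in
theorem units_three {ω : F} (hω0 : ω ≠ 0) (hω : 1 + ω + ω * ω = 0) {u : F} (hu : u ≠ 0) :
    u = 1 ∨ u = ω ∨ u = ω * ω := by
  have h : (u - 1) * ((u - ω) * (u - ω * ω)) = 0 := by
    linear_combination SixClosed.cube hfix hu - SixClosed.cube hfix hω0 + (u * ω - u * u) * hω
  rcases mul_eq_zero.1 h with h | h
  · exact Or.inl (sub_eq_zero.1 h)
  rcases mul_eq_zero.1 h with h | h
  · exact Or.inr (Or.inl (sub_eq_zero.1 h))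
  · exact Or.inr (Or.inr (sub_eq_zero.1 h))

/-- the group in dimension three is generated by the cyclic permutation and three elements -/
theorem exists_three_gens :
    ∃ d x y : ↥(Cfsg.SU 3 F q), Subgroup.closure
      ({pA C (cyc3 (0 : Fin 3) 1 2 (by decide) (by decide)), d, x, y} : Set ↥(Cfsg.SU 3 F q)) = ⊤ := by
  classical
  obtain ⟨ω, hω0, hω⟩ := SixClosed.exists_omega hfix
  have hω3 : ω * ω * ω = 1 := SixClosed.cube hfix hω0
  have h2 : (2 : F) = 0 := SixClosed.two_eq hfix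
  have key : ∀ {u : F}, u ≠ 0 → C.bar u = u * u := fun {u} hu => by
    rw [SixClosed.bar_eq hfix hu]; exact inv_eq_of_mul_eq_one_right (by linear_combination SixClosed.cube hfix hu)
  have hb : C.bar ω = ω * ω := key hω0
  let d : ↥(Cfsg.SU 3 F q) := C.mkSU (Matrix.diagonal ![ω, ω * ω, 1])
    (by rw [Matrix.det_diagonal, Fin.prod_univ_three]; simp; linear_combination hω3)
    (form_of_cols _ fun j k => by
      fin_cases j <;> fin_cases k <;> simp [UCtx.form, Fin.sum_univ_three, hb] <;> grind)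
  let x : ↥(Cfsg.SU 3 F q) := C.mkSU !![1, 1, 1; 1, ω, ω * ω; 1, ω * ω, ω]
    (by rw [Matrix.det_fin_three]; simp; grind)
    (form_of_cols _ fun j k => by
      fin_cases j <;> fin_cases k <;> simp [UCtx.form, Fin.sum_univ_three, hb] <;> grind)
  let y : ↥(Cfsg.SU 3 F q) := C.mkSU !![1, ω * ω, ω * ω; ω, ω, ω * ω; ω, ω * ω, ω]
    (by rw [Matrix.det_fin_three]; simp; grind)
    (form_of_cols _ fun j k => by
      fin_cases j <;> fin_cases k <;> simp [UCtx.form, Fin.sum_univ_three, hb] <;> grind)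
  refine ⟨d, x, y, ?_⟩
  set c := pA C (cyc3 (0 : Fin 3) 1 2 (by decide) (by decide)) with hc
  set M := Subgroup.closure ({c, d, x, y} : Set ↥(Cfsg.SU 3 F q)) with hM
  have hcM : c ∈ M := Subgroup.subset_closure (by simp)
  have hdM : d ∈ M := Subgroup.subset_closure (by simp)
  have hxM : x ∈ M := Subgroup.subset_closure (by simp)
  have hyM : y ∈ M := Subgroup.subset_closure (by simp)
  obtain ⟨c1, c2, c3, -⟩ := cyc3_apply (a := (0 : Fin 3)) (b := 1) (c := 2) (by decide) (by decide) (by decide)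
  have hcv : ∀ v : Fin 3 → F, c.1.1 *ᵥ v = ![v 2, v 0, v 1] := fun v => by
    conv_lhs => rw [sum_sv v]
    simp only [Matrix.mulVec_add, Matrix.mulVec_smul, hc, pA_sv, Fin.sum_univ_three, c1, c2, c3]
    funext i
    fin_cases i <;> simp [sv]
  have hci : ∀ v : Fin 3 → F, (c⁻¹).1.1 *ᵥ v = ![v 1, v 2, v 0] := fun v => by
    have h : c.1.1 *ᵥ ![v 1, v 2, v 0] = v := by
      rw [hcv]; funext i; fin_cases i <;> simp
    conv_lhs => rw [← h]
    rw [← suMat_mulVec_mul, inv_mul_cancel, su_one_mulVec]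
  have hdv : ∀ v : Fin 3 → F, d.1.1 *ᵥ v = ![ω * v 0, ω * ω * v 1, v 2] := fun v => by
    show Matrix.diagonal ![ω, ω * ω, 1] *ᵥ v = _
    funext i
    rw [Matrix.mulVec_diagonal]
    fin_cases i <;> simp
  -- diagonal elements
  let isD : (Fin 3 → F) → Prop := fun f => ∃ m ∈ M, ∀ v, m.1.1 *ᵥ v = fun i => f i * v i
  have Dmul : ∀ {f g}, isD f → isD g → isD fun i => f i * g i := by
    rintro f g ⟨m, hm, hm'⟩ ⟨k, hk, hk'⟩
    refine ⟨m * k, mul_mem hm hk, fun v => ?_⟩
    rw [suMat_mulVec_mul, hk', hm']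
    funext i; ring
  have D1 : isD fun _ => 1 := ⟨1, one_mem _, fun v => by rw [su_one_mulVec]; funext i; simp⟩
  have Dd : isD ![ω, ω * ω, 1] := ⟨d, hdM, fun v => by rw [hdv]; funext i; fin_cases i <;> simp⟩
  have Dd' : isD ![1, ω, ω * ω] := ⟨c * d * c⁻¹, mul_mem (mul_mem hcM hdM) (inv_mem hcM), fun v => by
    rw [suMat_mulVec_mul, suMat_mulVec_mul, hci, hdv, hcv]; funext i; fin_cases i <;> simp⟩
  have hdiag : ∀ f : Fin 3 → F, f 0 * f 1 * f 2 = 1 → isD f := by
    intro f hf
    have f0 : f 0 ≠ 0 := fun e => by simp [e] at hf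
    have f1 : f 1 ≠ 0 := fun e => by simp [e] at hf
    have fst : ∀ u : F, u ≠ 0 → ∃ g, isD g ∧ g 0 = u ∧ g 0 * g 1 * g 2 = 1 := by
      intro u hu
      rcases units_three hfix hω0 hω hu with rfl | rfl | rfl
      · exact ⟨_, D1, rfl, by simp⟩
      · exact ⟨_, Dd, rfl, by simp; linear_combination hω3⟩
      · exact ⟨_, Dmul Dd Dd, rfl, by simp; linear_combination (ω * ω * ω + 1) * hω3⟩
    have snd : ∀ u : F, u ≠ 0 → ∃ g, isD g ∧ g 0 = 1 ∧ g 1 = u ∧ g 0 * g 1 * g 2 = 1 := by
      intro u hu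
      rcases units_three hfix hω0 hω hu with rfl | rfl | rfl
      · exact ⟨_, D1, rfl, rfl, by simp⟩
      · exact ⟨_, Dd', rfl, rfl, by simp; linear_combination hω3⟩
      · exact ⟨_, Dmul Dd' Dd', by simp, rfl, by simp; linear_combination (ω * ω * ω + 1) * hω3⟩
    obtain ⟨g, hg, hg0, hgp⟩ := fst (f 0) f0
    have g1 : g 1 ≠ 0 := fun e => by simp [e] at hgp
    obtain ⟨k, hk, hk0, hk1, hkp⟩ := snd (f 1 / g 1) (div_ne_zero f1 g1)
    have e1 : g 1 * k 1 = f 1 := by rw [hk1]; field_simp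
    have e2 : g 2 * k 2 = f 2 := mul_left_cancel₀ (mul_ne_zero f0 f1) (by
      rw [hf, ← e1, ← hg0]
      rw [hk0] at hkp
      linear_combination g 0 * g 1 * g 2 * hkp + hgp)
    rw [show f = fun i => g i * k i by funext i; fin_cases i <;> simp [hg0, hk0, e1, e2]]
    exact Dmul hg hk
  -- transitivity on unit vectors
  have hone : ∀ v : Fin 3 → F, C.form v v = 1 →
      v 0 * C.bar (v 0) + v 1 * C.bar (v 1) + v 2 * C.bar (v 2) = 1 := fun v hv => by
    simpa [UCtx.form, Fin.sum_univ_three] using hv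
  have hN : ∀ {u : F}, u ≠ 0 → u * C.bar u = 1 := fun {u} hu => SixClosed.norm_one hfix hu
  have htrans : ∀ v : Fin 3 → F, C.form v v = 1 → ∃ m ∈ M, m.1.1 *ᵥ sv 2 = v := by
    intro v hv
    have hs := hone v hv
    by_cases hall : v 0 ≠ 0 ∧ v 1 ≠ 0 ∧ v 2 ≠ 0
    · obtain ⟨a0, a1, a2⟩ := hall
      obtain ⟨w, m, hm, hmw, w0, w1, w2, hP⟩ : ∃ (w : Fin 3 → F) (m : ↥(Cfsg.SU 3 F q)), m ∈ M ∧
          m.1.1 *ᵥ sv 2 = w ∧ w 0 ≠ 0 ∧ w 1 ≠ 0 ∧ w 2 ≠ 0 ∧ w 0 * w 1 * w 2 = v 0 * v 1 * v 2 := by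
        have hx2 : x.1.1 *ᵥ sv 2 = ![1, ω * ω, ω] := by
          show !![1, 1, 1; 1, ω, ω * ω; 1, ω * ω, ω] *ᵥ sv 2 = _
          rw [sv, Matrix.mulVec_single_one]; funext i; fin_cases i <;> simp
        have hy2 : y.1.1 *ᵥ sv 2 = ![ω * ω, ω * ω, ω] := by
          show !![1, ω * ω, ω * ω; ω, ω, ω * ω; ω, ω * ω, ω] *ᵥ sv 2 = _
          rw [sv, Matrix.mulVec_single_one]; funext i; fin_cases i <;> simp
        rcases units_three hfix hω0 hω (mul_ne_zero (mul_ne_zero a0 a1) a2) with h | h | h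
        · exact ⟨_, x, hxM, hx2, by simp, by simpa using hω0, by simpa using hω0, by rw [h]; simp; grind⟩
        · have e : (x * y * c).1.1 *ᵥ sv 2 = ![1, ω * ω, ω * ω] := by
            rw [suMat_mulVec_mul, suMat_mulVec_mul, hcv]
            show !![1, 1, 1; 1, ω, ω * ω; 1, ω * ω, ω] *ᵥ (!![1, ω * ω, ω * ω; ω, ω, ω * ω; ω, ω * ω, ω] *ᵥ _) = _
            funext i
            fin_cases i <;> simp [sv, Matrix.mulVec, dotProduct, Fin.sum_univ_three] <;> grind
          exact ⟨_, x * y * c, mul_mem (mul_mem hxM hyM) hcM, e, by simp, by simpa using hω0, by simpa using hω0,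
            by rw [h]; simp; grind⟩
        · exact ⟨_, y, hyM, hy2, by simpa using hω0, by simpa using hω0, by simpa using hω0,
            by rw [h]; simp; grind⟩
      obtain ⟨k, hk, hk'⟩ := hdiag (fun i => v i / w i) (by field_simp; rw [hP])
      refine ⟨k * m, mul_mem hk hm, ?_⟩
      rw [suMat_mulVec_mul, hmw, hk']
      funext i
      fin_cases i <;> simp <;> field_simp
    · -- one non-zero coordinate
      obtain ⟨i, hi⟩ : ∃ i, ∀ j, j ≠ i → v j = 0 := by
        have h10 : (1 : F) ≠ 0 := one_ne_zero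
        by_cases a0 : v 0 = 0
        · by_cases a1 : v 1 = 0
          · exact ⟨2, fun j hj => by fin_cases j <;> simp_all⟩
          · by_cases a2 : v 2 = 0
            · exact ⟨1, fun j hj => by fin_cases j <;> simp_all⟩
            · exfalso; rw [a0, hN a1, hN a2] at hs; exact h10 (by linear_combination hs)
        · by_cases a1 : v 1 = 0
          · by_cases a2 : v 2 = 0
            · exact ⟨0, fun j hj => by fin_cases j <;> simp_all⟩
            · exfalso; rw [a1, hN a0, hN a2] at hs; exact h10 (by linear_combination hs)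
          · by_cases a2 : v 2 = 0
            · exfalso; rw [a2, hN a0, hN a1] at hs; exact h10 (by linear_combination hs)
            · exact absurd ⟨a0, a1, a2⟩ hall
      have hv' : v = v i • sv i := by
        funext j
        by_cases hj : j = i
        · subst hj; simp [sv]
        · simp [sv, hj, hi j hj]
      have a0 : v i ≠ 0 := fun e => by rw [hv', e, zero_smul, C.form_zero_left] at hv; exact zero_ne_one hv
      obtain ⟨m, hm, hm'⟩ : ∃ m ∈ M, m.1.1 *ᵥ sv 2 = sv i := by
        fin_cases i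
        · exact ⟨c, hcM, by rw [hcv]; funext j; fin_cases j <;> simp [sv]⟩
        · exact ⟨c * c, mul_mem hcM hcM, by rw [suMat_mulVec_mul, hcv, hcv]; funext j; fin_cases j <;> simp [sv]⟩
        · exact ⟨1, one_mem _, su_one_mulVec _⟩
      obtain ⟨k, hk, hk'⟩ := hdiag
        (fun j => if j = i then v i else if j = i + 1 then (v i)⁻¹ else 1) (by fin_cases i <;> simp <;>
          first | exact mul_inv_cancel₀ (by simpa using a0) | exact inv_mul_cancel₀ (by simpa using a0))
      refine ⟨k * m, mul_mem hk hm, ?_⟩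
      rw [suMat_mulVec_mul, hm', hk']
      conv_rhs => rw [hv']
      funext j
      by_cases hj : j = i
      · subst hj; simp [sv]
      · simp [sv, hj]
  -- the stabiliser of the last coordinate
  have hs : ∃ s ∈ M, ∀ v, s.1.1 *ᵥ v = ![v 1, v 0, v 2] := by
    refine ⟨c⁻¹ * (x * x) * c, mul_mem (mul_mem (inv_mem hcM) (mul_mem hxM hxM)) hcM, fun v => ?_⟩
    have hxv : ∀ w : Fin 3 → F, x.1.1 *ᵥ w =
        ![w 0 + w 1 + w 2, w 0 + ω * w 1 + ω * ω * w 2, w 0 + ω * ω * w 1 + ω * w 2] := fun w => by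
      show !![1, 1, 1; 1, ω, ω * ω; 1, ω * ω, ω] *ᵥ w = _
      funext i
      fin_cases i <;> simp [Matrix.mulVec, dotProduct, Fin.sum_univ_three]
    rw [suMat_mulVec_mul, suMat_mulVec_mul, suMat_mulVec_mul, hcv, hxv, hxv, hci]
    funext i
    fin_cases i <;> simp <;> grind
  rw [eq_top_iff]
  intro A _
  obtain ⟨m, hm, hm'⟩ := htrans (A.1.1 *ᵥ sv 2) (by rw [C.form_su, form_sv, if_pos rfl])
  set B := m⁻¹ * A with hB
  have hB2 : B.1.1 *ᵥ sv 2 = sv 2 := by
    rw [hB, suMat_mulVec_mul, ← hm', ← suMat_mulVec_mul, inv_mul_cancel, su_one_mulVec]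
  suffices hBM : B ∈ M by
    rw [show A = m * B by rw [hB]; group]
    exact mul_mem hm hBM
  have col : ∀ (X : ↥(Cfsg.SU 3 F q)), X.1.1 *ᵥ sv 2 = sv 2 → ∀ j : Fin 3, j ≠ 2 →
      (X.1.1 *ᵥ sv j) 2 = 0 := by
    intro X hX j hj
    have h : C.form (X.1.1 *ᵥ sv j) (sv 2) = 0 := by
      conv_lhs => rw [← hX]
      rw [C.form_su, form_sv, if_neg hj]
    simpa [UCtx.form, sv, Pi.single_apply, apply_ite C.bar] using h
  -- such an element is monomial
  have mono : ∀ X : ↥(Cfsg.SU 3 F q), X.1.1 *ᵥ sv 2 = sv 2 → (X.1.1 *ᵥ sv 0) 1 = 0 → X ∈ M := by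
    intro X hX h01
    set a := (X.1.1 *ᵥ sv 0) 0 with ha
    set b := (X.1.1 *ᵥ sv 1) 1 with hbd
    have e0 : X.1.1 *ᵥ sv 0 = a • sv 0 := by
      funext i; fin_cases i
      · show a = a * sv (0 : Fin 3) 0
        simp [sv]
      · show (X.1.1 *ᵥ sv 0) 1 = a * sv (0 : Fin 3) 1
        rw [h01]; simp [sv]
      · show (X.1.1 *ᵥ sv 0) 2 = a * sv (0 : Fin 3) 2
        rw [col X hX 0 (by decide)]; simp [sv]
    have a0 : a ≠ 0 := fun e => by
      have := C.form_su X (sv (0 : Fin 3)) (sv 0)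
      rw [e0, e, zero_smul, C.form_zero_left, form_sv, if_pos rfl] at this
      exact zero_ne_one this
    have h10' : (X.1.1 *ᵥ sv 1) 0 = 0 := by
      have := C.form_su X (sv (1 : Fin 3)) (sv 0)
      rw [e0, C.form_smul_right, form_sv, if_neg (by decide)] at this
      simpa [UCtx.form, sv, Pi.single_apply, apply_ite C.bar, a0] using this
    have e1 : X.1.1 *ᵥ sv 1 = b • sv 1 := by
      funext i; fin_cases i
      · show (X.1.1 *ᵥ sv 1) 0 = b * sv (1 : Fin 3) 0
        rw [h10']; simp [sv]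
      · show b = b * sv (1 : Fin 3) 1
        simp [sv]
      · show (X.1.1 *ᵥ sv 1) 2 = b * sv (1 : Fin 3) 2
        rw [col X hX 1 (by decide)]; simp [sv]
    have hmat : X.1.1 = Matrix.diagonal ![a, b, 1] := by
      refine Matrix.ext_iff_mulVec.2 fun v => ?_
      rw [sum_sv v, Matrix.mulVec_sum, Matrix.mulVec_sum, Fin.sum_univ_three, Fin.sum_univ_three]
      simp only [Matrix.mulVec_smul, e0, e1, hX]
      funext i
      fin_cases i <;> simp [sv]
    have hdet : a * b * 1 = 1 := by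
      have := X.1.2
      rw [hmat, Matrix.det_diagonal, Fin.prod_univ_three] at this
      simpa using this
    obtain ⟨k, hk, hk'⟩ := hdiag ![a, b, 1] (by simpa using hdet)
    rw [show X = k from su_ext fun v => by rw [hk', hmat]; funext i; rw [Matrix.mulVec_diagonal]]
    exact hk
  by_cases h01 : (B.1.1 *ᵥ sv 0) 1 = 0
  · exact mono B hB2 h01
  obtain ⟨s, hsM, hs'⟩ := hs
  have h00 : (B.1.1 *ᵥ sv 0) 0 = 0 := by
    by_contra h00
    have hu := hone (B.1.1 *ᵥ sv 0) (by rw [C.form_su, form_sv, if_pos rfl])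
    rw [col B hB2 0 (by decide), hN h00, hN h01] at hu
    exact one_ne_zero (α := F) (by linear_combination hu)
  have hsB : s * B ∈ M := by
    refine mono _ ?_ ?_
    · rw [suMat_mulVec_mul, hB2, hs']; funext i; fin_cases i <;> simp [sv]
    · rw [suMat_mulVec_mul, hs']; simpa using h00
  rw [show B = s⁻¹ * (s * B) by group]
  exact mul_mem (inv_mem hsM) hsB

end CfsgLib.Lie.BoundedPres.SUGraph
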