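import Cfsg.Agent.Lib.Lie.BoundedPres.SU.TwoGlue
import Cfsg.Agent.Lib.Lie.BoundedPres.SU.TwoThree
import Cfsg.Agent.Lib.PGroup.UnitTwoGen.Std

/-!
# Elements for the linking relations over two fixed scalars
-/

set_option autoImplicit false

namespace CfsgLib.Lie.BoundedPres.SUGraph

open Matrix Equiv CfsgLib.SU CfsgLib.Lie.BoundedPres CfsgLib.Lie.BoundedPres.SUBase

universe u

variable {F : Type u} [Field F] [Fintype F] {q n : ℕ} {C : UCtx F q}

omit [Fintype F] in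
theorem form_pad {m : ℕ} (hm : m ≤ n) (x y : Fin m → F) :
    C.form (pad x : Fin n → F) (pad y) = C.form x y := by
  classical
  simp only [UCtx.form]
  rw [← Finset.sum_subset (Finset.subset_univ ((Finset.univ : Finset (Fin m)).map (Fin.castLEEmb hm)))]
  · rw [Finset.sum_map]
    exact Finset.sum_congr rfl fun i _ => by simp [pad]
  · intro i _ hi
    have : ¬ i.val < m := fun h => hi (Finset.mem_map.2 ⟨⟨i.val, h⟩, Finset.mem_univ _, Fin.ext rfl⟩)
    simp [pad, this]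

omit [Fintype F] in
theorem pad_sv {m : ℕ} (hm : m ≤ n) (i : Fin m) : (pad (sv i) : Fin n → F) = sv (Fin.castLE hm i) := by
  funext j
  simp only [pad, sv, Pi.single_apply]
  by_cases h : j.val < m
  · rw [dif_pos h]; simp [Fin.ext_iff]
  · rw [dif_neg h, if_neg (fun e => h (by rw [e]; exact i.isLt))]

omit [Fintype F] in
theorem pad_emb {m : ℕ} {hm : m ≤ n} {ι : ↥(Cfsg.SU m F q) →* ↥(Cfsg.SU n F q)}
    (hιe : ∀ (A : ↥(Cfsg.SU m F q)) (j : Fin m), ∀ i : Fin n,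
      (ι A).1.1 i (Fin.castLE hm j) = if h : i.val < m then A.1.1 ⟨i.val, h⟩ j else 0)
    (A : ↥(Cfsg.SU m F q)) (v : Fin m → F) : (ι A).1.1 *ᵥ pad v = pad (A.1.1 *ᵥ v) := by
  classical
  funext i
  show ∑ l, (ι A).1.1 i l * pad v l = _
  rw [← Finset.sum_subset (Finset.subset_univ ((Finset.univ : Finset (Fin m)).map (Fin.castLEEmb hm)))]
  · rw [Finset.sum_map]
    simp only [Fin.castLEEmb_apply, hιe, pad]
    by_cases hi : i.val < m
    · simp only [dif_pos hi, Fin.val_castLE, Fin.is_lt, dite_true, Fin.eta]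
      rfl
    · simp only [dif_neg hi, zero_mul, Finset.sum_const_zero]
  · intro l _ hl
    have : ¬ l.val < m := fun h => hl (Finset.mem_map.2 ⟨⟨l.val, h⟩, Finset.mem_univ _, Fin.ext rfl⟩)
    simp [pad, this]

/-- the coordinate subgroup of five moves a coordinate vector to any unit vector in five coordinates -/
theorem exists_move_five (hn : 5 ≤ n) (v : Fin 5 → F) (hv : C.form v v = 1) :
    ∃ X ∈ fixFrom (F := F) (q := q) (n := n) 5, X.1.1 *ᵥ sv ⟨4, by omega⟩ = pad v := by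
  obtain ⟨ι, -, hιr, hιe⟩ := exists_coord_emb (n := n) C hn
  obtain ⟨g, hg⟩ := exists_su_move_tuple (C := C) (t := ![sv (4 : Fin 5)]) (t' := ![v])
    (li_coord C fun i j => by fin_cases i; fin_cases j; simp [form_sv])
    (li_coord C fun i j => by fin_cases i; fin_cases j; simp [hv])
    (fun i j => by fin_cases i; fin_cases j; simp [form_sv, hv]) (w := sv (0 : Fin 5))
    (by rw [form_sv, if_pos rfl]) (fun i => by fin_cases i; simp [form_sv])
  refine ⟨ι g, hιr ▸ ⟨g, rfl⟩, ?_⟩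
  rw [show (sv (⟨4, by omega⟩ : Fin n) : Fin n → F) = pad (sv (4 : Fin 5)) by rw [pad_sv hn]; rfl, pad_emb hιe]
  exact congrArg pad (hg 0)

/-- two steps in the coordinate subgroup of five reach any unit vector orthogonal to the middle one -/
theorem exists_back (hn : 5 < n) {G : ↥(Cfsg.SU n F q)} (hG : G ∈ fixFrom 6) {w x : Fin 6 → F}
    (hw : G.1.1 *ᵥ sv ⟨5, hn⟩ = pad w) (hx : C.form x x = 1) (hxw : C.form x w = 0)
    {R : ↥(Cfsg.SU n F q)} (hR : R.1.1 *ᵥ sv ⟨5, hn⟩ = sv ⟨4, by omega⟩) :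
    ∃ h ∈ fixFrom (F := F) (q := q) (n := n) 5, (G * h * R).1.1 *ᵥ sv ⟨5, hn⟩ = pad x := by
  have hn6 : 6 ≤ n := hn
  set y := (G⁻¹).1.1 *ᵥ (pad x : Fin n → F) with hy
  have hGy : G.1.1 *ᵥ y = pad x := by rw [hy, ← suMat_mulVec_mul, mul_inv_cancel, su_one_mulVec]
  have hcoord : ∀ i : Fin n, y i = C.form (pad x : Fin n → F) (G.1.1 *ᵥ sv i) := fun i => by
    rw [← hGy, C.form_su]
    simp [UCtx.form, sv, Pi.single_apply, apply_ite C.bar]
  have h0 : ∀ i : Fin n, 5 ≤ i.val → y i = 0 := by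
    intro i hi
    rw [hcoord]
    rcases Nat.lt_or_ge i.val 6 with h | h
    · rw [show i = ⟨5, hn⟩ from Fin.ext (show i.val = 5 by omega), hw, form_pad hn6, hxw]
    · rw [hG i h]
      simp [UCtx.form, sv, pad, Pi.single_apply, apply_ite C.bar, show ¬ i.val < 6 by omega]
  let v : Fin 5 → F := fun i => y (Fin.castLE (show 5 ≤ n by omega) i)
  have hpad : pad v = y := funext fun i => by
    by_cases h : i.val < 5
    · simp only [pad, dif_pos h, v]; rfl
    · simp only [pad, dif_neg h]; exact (h0 i (not_lt.1 h)).symm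
  have hv : C.form v v = 1 := by
    rw [← form_pad (show 5 ≤ n by omega), hpad, ← C.form_su G y y, hGy, form_pad hn6, hx]
  obtain ⟨h, hh, hh'⟩ := exists_move_five (show 5 ≤ n by omega) v hv
  refine ⟨h, hh, ?_⟩
  rw [suMat_mulVec_mul, suMat_mulVec_mul, hR, hh', hpad, hGy]

/-- the three closed paths in the unitary group -/
theorem six_model (hn : 5 < n) (hfix : ∀ a : F, C.bar a = a → a = 0 ∨ a = 1) :
    SixLinks (MonoidHom.id ↥(Cfsg.SU n F q)) (fixFrom 5) (pA C (topCyc (k := 5) hn (by norm_num))) := by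
  intro P hP
  set R := pA C (topCyc (k := 5) hn (by norm_num)) with hRdef
  obtain ⟨r1, -, r3, r4⟩ := cyc3_apply (a := (⟨5, hn⟩ : Fin n)) (b := ⟨5 - 1, by omega⟩) (c := ⟨5 - 2, by omega⟩)
    (by simp [Fin.ext_iff]) (by simp [Fin.ext_iff]) (by simp [Fin.ext_iff])
  have hR : R.1.1 *ᵥ sv ⟨5, hn⟩ = sv ⟨4, by omega⟩ := by
    rw [hRdef, pA_sv, topCyc, r1]
  have hR6 : R ∈ fixFrom (F := F) (q := q) (n := n) 6 := fun i hi => by
    rw [hRdef, pA_sv, topCyc, r4 i (by simp [Fin.ext_iff]; omega) (by simp [Fin.ext_iff]; omega)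
      (by simp [Fin.ext_iff]; omega)]
  have h56 : fixFrom (F := F) (q := q) (n := n) 5 ≤ fixFrom 6 := fixFrom_mono (by norm_num)
  have h2 := SixClosed.two_eq hfix
  have hP1 := SixClosed.norm_one hfix hP
  let u2 : Fin 5 → F := sv 2
  let uP : Fin 5 → F := sv 2 + (sv 3 + P • sv 4)
  obtain ⟨h1, hh1, e1⟩ := exists_move_five (C := C) (show 5 ≤ n by omega) u2 (by simp [u2, form_sv])
  obtain ⟨g1, hg1, f1⟩ := exists_move_five (C := C) (show 5 ≤ n by omega) uP (by
    simp [uP, UCtx.form, sv, Fin.sum_univ_five, Pi.single_apply]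
    linear_combination h2 + hP1)
  have p2 : (pad u2 : Fin n → F) = pad (sv (2 : Fin 6)) := by
    rw [pad_sv (show 5 ≤ n by omega), pad_sv (show 6 ≤ n by omega)]; rfl
  have pP : (pad uP : Fin n → F) = pad (repSix P) := by
    funext i
    simp only [pad, uP, repSix, Pi.add_apply, Pi.smul_apply, smul_eq_mul, sv, Pi.single_apply]
    by_cases h5 : i.val < 5
    · rw [dif_pos h5, dif_pos (by omega)]; simp [Fin.ext_iff]
    · rw [dif_neg h5]
      by_cases h6 : i.val < 6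
      · rw [dif_pos h6]
        simp [Fin.ext_iff, show i.val ≠ 2 by omega, show i.val ≠ 3 by omega, show i.val ≠ 4 by omega]
      · rw [dif_neg h6]
  have p5 : (pad (sv (5 : Fin 6)) : Fin n → F) = sv ⟨5, hn⟩ := by rw [pad_sv (show 6 ≤ n by omega)]; rfl
  have d1 : (h1 * R).1.1 *ᵥ sv ⟨5, hn⟩ = pad (sv (2 : Fin 6)) := by rw [suMat_mulVec_mul, hR, e1, p2]
  have d2 : (g1 * R).1.1 *ᵥ sv ⟨5, hn⟩ = pad (repSix P) := by rw [suMat_mulVec_mul, hR, f1, pP]
  obtain ⟨k2, hk2, e2⟩ := exists_back hn (mul_mem (h56 hh1) hR6) d1 (SixClosed.x_unit hfix)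
    (by simp [xSix, UCtx.form, sv, Pi.single_apply, apply_ite C.bar]) hR
  obtain ⟨g2, hg2, f2⟩ := exists_back hn (mul_mem (h56 hg1) hR6) d2 (SixClosed.x_unit hfix)
    (by simp [xSix, repSix, UCtx.form, sv, Fin.sum_univ_six, Pi.single_apply, apply_ite C.bar]) hR
  refine ⟨h1, hh1, k2, hk2, g1, hg1, g2, hg2, ?_, ?_, ?_, ?_, ?_⟩
  · simpa [p5] using d1
  · simpa [p5] using e2
  · simpa [p5] using d2
  · simpa [p5] using f2
  · intro i hi
    have m1 : h1 * R * k2 * R ∈ fixFrom (F := F) (q := q) (n := n) 6 :=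
      mul_mem (mul_mem (mul_mem (h56 hh1) hR6) (h56 hk2)) hR6
    have m2 : g1 * R * g2 * R ∈ fixFrom (F := F) (q := q) (n := n) 6 :=
      mul_mem (mul_mem (mul_mem (h56 hg1) hR6) (h56 hg2)) hR6
    rcases Nat.lt_or_ge i.val 6 with h | h
    · rw [show i = ⟨5, hn⟩ from Fin.ext (show i.val = 5 by omega), suMat_mulVec_mul, f2, ← e2,
        ← suMat_mulVec_mul, inv_mul_cancel, su_one_mulVec]
    · exact mul_mem (inv_mem m1) m2 i h

theorem cyc3_conj {a b c : Fin n} (hab : a ≠ b) (hbc : b ≠ c) (σ : alternatingGroup (Fin n)) :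
    σ * cyc3 a b c hab hbc * σ⁻¹ =
      cyc3 (σ.1 a) (σ.1 b) (σ.1 c) (σ.1.injective.ne hab) (σ.1.injective.ne hbc) := by
  apply Subtype.ext
  show σ.1 * (swap a b * swap b c) * σ.1⁻¹ = swap (σ.1 a) (σ.1 b) * swap (σ.1 b) (σ.1 c)
  rw [Equiv.swap_apply_apply, Equiv.swap_apply_apply]
  group

theorem alt4_cyc3 (hn : 4 ≤ n) {a b c : Fin 4} (hab : a ≠ b) (hac : a ≠ c) (hbc : b ≠ c) :
    alt4 hn (cyc3 a b c hab hbc) =
      cyc3 (four hn a) (four hn b) (four hn c) ((four_inj hn).ne hab) ((four_inj hn).ne hbc) := by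
  obtain ⟨s1, s2, s3, s4⟩ := cyc3_apply hab hac hbc
  obtain ⟨t1, t2, t3, t4⟩ := cyc3_apply ((four_inj hn).ne hab) ((four_inj hn).ne hac) ((four_inj hn).ne hbc)
  refine Subtype.ext (Equiv.ext fun i => ?_)
  by_cases hi : 4 ≤ i.val
  · have hne : ∀ j : Fin 4, i ≠ four hn j := fun j e => by
      have := congrArg (fun z : Fin n => z.val) e
      simp [four] at this
      omega
    rw [alt4_fix hn _ i hi, t4 i (hne a) (hne b) (hne c)]
  · obtain ⟨j, rfl⟩ : ∃ j : Fin 4, four hn j = i := ⟨⟨i.val, by omega⟩, Fin.ext rfl⟩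
    rw [alt4_apply]
    by_cases ha : j = a
    · subst ha; rw [s1, t1]
    by_cases hb : j = b
    · subst hb; rw [s2, t2]
    by_cases hc : j = c
    · subst hc; rw [s3, t3]
    rw [s4 j ha hb hc, t4 _ ((four_inj hn).ne ha) ((four_inj hn).ne hb) ((four_inj hn).ne hc)]

/-- generators of the coordinate subgroup of three in dimension four -/
theorem exists_four_low_gens (hfix : ∀ a : F, C.bar a = a → a = 0 ∨ a = 1) :
    ∃ d x y : ↥(Cfsg.SU 4 F q), d ∈ fixFrom 3 ∧ x ∈ fixFrom 3 ∧ y ∈ fixFrom 3 ∧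
      fixFrom 3 ≤ Subgroup.closure
        ({pA C (cyc3 (0 : Fin 4) 1 2 (by decide) (by decide)), d, x, y} : Set ↥(Cfsg.SU 4 F q)) := by
  obtain ⟨d, x, y, hgen⟩ := exists_three_gens (C := C) hfix
  obtain ⟨ι, -, hιr, hιe⟩ := exists_coord_emb (n := 4) C (show 3 ≤ 4 by norm_num)
  refine ⟨ι d, ι x, ι y, hιr ▸ ⟨_, rfl⟩, hιr ▸ ⟨_, rfl⟩, hιr ▸ ⟨_, rfl⟩, ?_⟩
  have hc : ι (pA C (cyc3 (0 : Fin 3) 1 2 (by decide) (by decide))) =
      pA C (cyc3 (0 : Fin 4) 1 2 (by decide) (by decide)) := by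
    obtain ⟨a1, a2, a3, -⟩ := cyc3_apply (a := (0 : Fin 3)) (b := 1) (c := 2) (by decide) (by decide) (by decide)
    obtain ⟨b1, b2, b3, b4⟩ := cyc3_apply (a := (0 : Fin 4)) (b := 1) (c := 2) (by decide) (by decide) (by decide)
    refine su_ext fun v => ?_
    rw [sum_sv v, Matrix.mulVec_sum, Matrix.mulVec_sum]
    refine Finset.sum_congr rfl fun j _ => ?_
    rw [Matrix.mulVec_smul, Matrix.mulVec_smul, pA_sv]
    congr 1
    by_cases hj : j.val < 3
    · rw [show j = Fin.castLE (show 3 ≤ 4 by norm_num) ⟨j.val, hj⟩ from Fin.ext rfl,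
        ← pad_sv (show 3 ≤ 4 by norm_num), pad_emb hιe, pA_sv, pad_sv (show 3 ≤ 4 by norm_num)]
      congr 1
      fin_cases j <;> first | (simp at hj; done) | simp [a1, a2, a3, b1, b2, b3]
    · have hm : ι (pA C (cyc3 (0 : Fin 3) 1 2 (by decide) (by decide))) ∈ fixFrom 3 := by
        rw [← hιr]; exact MonoidHom.mem_range.2 ⟨_, rfl⟩
      rw [hm j (not_lt.1 hj), b4 j (fun e => hj (by simp [e])) (fun e => hj (by simp [e])) (fun e => hj (by simp [e]))]
  rw [← hιr, MonoidHom.range_eq_map, ← hgen, MonoidHom.map_closure]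
  refine le_of_eq (congrArg Subgroup.closure ?_)
  simp only [Set.image_insert_eq, Set.image_singleton, hc]

/-- two generators in dimension four -/
theorem su_four_two_gens (hF : Fintype.card F = q ^ 2) :
    ∃ a b : ↥(Cfsg.SU 4 F q), Subgroup.closure ({a, b} : Set ↥(Cfsg.SU 4 F q)) = ⊤ := by
  obtain ⟨C'⟩ := CfsgLib.Perm.Trans.Unit.ctx_of_card hF
  obtain ⟨D, hk, hD⟩ := CfsgLib.PGroup.UnitTwoGen.exists_frame C' (n := 4) (by norm_num)
  rcases hD with ⟨-, hu⟩ | ⟨ho, -⟩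
  · exact D.two_gen_even hF (by norm_num) (fun h => absurd h.1 (by norm_num)) hu (by omega)
  · omega

end CfsgLib.Lie.BoundedPres.SUGraph
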