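import Cfsg.Agent.Lib.Lie.BoundedPres.SU.Glue

/-!
# `SU_n` from the alternating group and a copy of `SU₄`, two fixed scalars

The family lives on the sets of four coordinates. The relations: the two copies of `A₄` agree, the permutations
preserving four coordinates normalise `SU₄`, a three-cycle carries `SU₃` into `SU₄`, and for six coordinates three
closed paths.
-/

set_option autoImplicit false

namespace CfsgLib.Lie.BoundedPres.SUGraph

open Matrix Equiv CfsgLib.SU CfsgLib.Lie.BoundedPres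

universe u

variable {F : Type u} [Field F] [Fintype F] {q n : ℕ} (C : UCtx F q)

/-- the data of the gluing -/
structure GlueTwo (hn : 5 ≤ n) {Γ : Type*} [Group Γ] (π : Γ →* ↥(Cfsg.SU n F q))
    (ι : ↥(Cfsg.SU 4 F q) →* ↥(Cfsg.SU n F q)) (ρ : alternatingGroup (Fin n) →* Γ)
    (ψ : ↥(Cfsg.SU 4 F q) →* Γ) : Prop where
  hfix : ∀ s : F, C.bar s = s → s = 0 ∨ s = 1
  hι : Function.Injective ι
  hιr : ι.range = fixFrom 4
  hπρ : ∀ σ, π (ρ σ) = pA C σ
  hπψ : ∀ A, π (ψ A) = ι A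
  agree : ∀ τ, ρ (alt4 (show 4 ≤ n by omega) τ) = ψ (pA C τ)
  stab : ∀ σ : alternatingGroup (Fin n), (∀ i : Fin n, i.val < 4 → (σ.1 i).val < 4) →
    ∀ A, ρ σ * ψ A * (ρ σ)⁻¹ ∈ ψ.range
  loc : ∀ A, ι A ∈ fixFrom 3 →
    (ρ (topCyc (k := 4) (show 4 < n by omega) le_rfl))⁻¹ * ψ A * ρ (topCyc (k := 4) (show 4 < n by omega) le_rfl) ∈
      ψ.range

variable {C}

/-- the conjugates of `SU₄` -/
def quadFam (hn : 4 ≤ n) {Γ : Type*} [Group Γ] (ρ : alternatingGroup (Fin n) →* Γ)
    (ψ : ↥(Cfsg.SU 4 F q) →* Γ) (T : Finset (Fin n)) : Subgroup Γ :=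
  Subgroup.closure {x | ∃ (σ : alternatingGroup (Fin n)) (A : ↥(Cfsg.SU 4 F q)),
    T = Finset.univ.image (fun j => σ.1 (four hn j)) ∧ x = ρ σ * ψ A * (ρ σ)⁻¹}

theorem mem_quad (hn : 4 ≤ n) (σ : alternatingGroup (Fin n)) (i : Fin n) :
    i ∈ Finset.univ.image (fun j => σ.1 (four hn j)) ↔ ((σ⁻¹).1 i).val < 4 := by
  simp only [Finset.mem_image, Finset.mem_univ, true_and]
  constructor
  · rintro ⟨j, rfl⟩
    rw [show (σ⁻¹).1 (σ.1 (four hn j)) = four hn j from Equiv.symm_apply_apply _ _]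
    exact j.isLt
  · intro h
    refine ⟨⟨_, h⟩, ?_⟩
    rw [show four hn (⟨_, h⟩ : Fin 4) = (σ⁻¹).1 i from Fin.ext rfl]
    exact Equiv.apply_symm_apply _ _

/-- a set of four points within the first `k` is the image of the first four -/
theorem exists_quad_map (hn : 4 ≤ n) (f : Fin 4 → Fin n) (hf : Function.Injective f) :
    ∃ σ : alternatingGroup (Fin n), Finset.univ.image (fun j => σ.1 (four hn j)) = Finset.univ.image f := by
  obtain ⟨σ, hσ⟩ := exists_even_map (four hn) f (four_inj hn) hf (four hn 0) (four hn 1) ((four_inj hn).ne (by decide))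
  refine ⟨σ, ?_⟩
  rcases hσ with h | h
  · simp only [h]
  · ext i
    simp only [Finset.mem_image, Finset.mem_univ, true_and]
    constructor
    · rintro ⟨j, rfl⟩
      refine ⟨swap 0 1 j, ?_⟩
      rw [← h, ← (four_inj hn).swap_apply, swap_apply_self]
    · rintro ⟨j, rfl⟩
      refine ⟨swap 0 1 j, ?_⟩
      rw [← h, ← (four_inj hn).swap_apply]

namespace GlueTwo

variable {hn : 5 ≤ n} {Γ : Type*} [Group Γ] {π : Γ →* ↥(Cfsg.SU n F q)}
  {ι : ↥(Cfsg.SU 4 F q) →* ↥(Cfsg.SU n F q)} {ρ : alternatingGroup (Fin n) →* Γ} {ψ : ↥(Cfsg.SU 4 F q) →* Γ}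
  (G : GlueTwo C hn π ι ρ ψ)
include G

theorem famJ_four : famJ (quadFam (show 4 ≤ n by omega) ρ ψ) 4 = ψ.range := by
  refine le_antisymm ((Subgroup.closure_le _).2 ?_) ?_
  · rintro x ⟨T, hT, hx⟩
    have hle : quadFam (show 4 ≤ n by omega) ρ ψ T ≤ ψ.range := by
      refine (Subgroup.closure_le _).2 ?_
      rintro y ⟨σ, A, rfl, rfl⟩
      exact G.stab σ (fun i hi => hT _ ((mem_quad _ σ _).2 (by
        rw [show (σ⁻¹).1 (σ.1 i) = i from Equiv.symm_apply_apply _ _]; exact hi))) A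
    exact hle hx
  · rintro x ⟨A, rfl⟩
    refine le_famJ (k := 4) (fun i hi => ?_) (Subgroup.subset_closure ⟨1, A, rfl, by simp⟩)
    have := (mem_quad (show 4 ≤ n by omega) 1 i).1 hi
    simpa using this

theorem inj_range : Set.InjOn π ψ.range := by
  rintro _ ⟨A, rfl⟩ _ ⟨B, rfl⟩ h
  rw [G.hπψ, G.hπψ] at h
  rw [G.hι h]

theorem map_range : ψ.range.map π = fixFrom 4 := by
  rw [← G.hιr]
  ext X
  constructor
  · rintro ⟨_, ⟨A, rfl⟩, rfl⟩; exact ⟨A, (G.hπψ A).symm⟩
  · rintro ⟨A, rfl⟩; exact ⟨ψ A, ⟨A, rfl⟩, G.hπψ A⟩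

theorem fam_data : FamData C π ρ (quadFam (show 4 ≤ n by omega) ρ ψ) 4 := by
  classical
  have hn4 : 4 ≤ n := by omega
  have conj : ∀ (σ : alternatingGroup (Fin n)) (T : Finset (Fin n)), ∀ x ∈ quadFam hn4 ρ ψ T,
      ρ σ * x * (ρ σ)⁻¹ ∈ quadFam hn4 ρ ψ (T.image σ.1) := by
    intro σ T
    have hle : quadFam hn4 ρ ψ T ≤ (quadFam hn4 ρ ψ (T.image σ.1)).comap (MulAut.conj (ρ σ)).toMonoidHom := by
      refine (Subgroup.closure_le _).2 ?_
      rintro y ⟨μ, A, rfl, rfl⟩
      refine Subgroup.subset_closure ⟨σ * μ, A, by rw [Finset.image_image]; rfl, ?_⟩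
      show ρ σ * (ρ μ * ψ A * (ρ μ)⁻¹) * (ρ σ)⁻¹ = _
      rw [map_mul]; group
    exact fun x hx => hle hx
  refine ⟨G.hπρ, conj, fun T hT => ?_, fun k a b c hab hbc hk hac ha hb hc => ?_⟩
  · rw [quadFam, Subgroup.closure_eq_bot_iff]
    rintro y ⟨μ, A, rfl, -⟩
    exact absurd hT (not_lt.2 (Finset.card_image_le.trans (by simp)))
  · obtain ⟨d, hd, hda, hdb, hdc⟩ : ∃ d : Fin n, d.val < k ∧ d ≠ a ∧ d ≠ b ∧ d ≠ c := by
      by_contra hcon
      push Not at hcon
      have h4 : ∀ i : Fin 4, four hn4 i = a ∨ four hn4 i = b ∨ four hn4 i = c := fun i => by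
        by_cases h1 : four hn4 i = a
        · exact Or.inl h1
        by_cases h2 : four hn4 i = b
        · exact Or.inr (Or.inl h2)
        exact Or.inr (Or.inr (hcon _ (lt_of_lt_of_le i.isLt hk) h1 h2))
      have hcard : (Finset.univ.image (four hn4)).card = 4 := by
        rw [Finset.card_image_of_injective _ (four_inj hn4)]; simp
      have hsub : Finset.univ.image (four hn4) ⊆ {a, b, c} := fun x hx => by
        obtain ⟨i, -, rfl⟩ := Finset.mem_image.1 hx
        simpa using h4 i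
      have := Finset.card_le_card hsub
      have h3 : ({a, b, c} : Finset (Fin n)).card ≤ 3 := Finset.card_le_three
      omega
    obtain ⟨σ, hσ⟩ := exists_quad_map hn4 ![a, b, c, d] (by
      intro i j; fin_cases i <;> fin_cases j <;>
        simp [hab, hbc, hac, hab.symm, hbc.symm, hac.symm, hda, hdb, hdc, Ne.symm hda, Ne.symm hdb, Ne.symm hdc])
    set ν := σ⁻¹ * cyc3 a b c hab hbc * σ with hν
    obtain ⟨s1, s2, s3, s4⟩ := cyc3_apply hab hac hbc
    have hin : ∀ i, i ∈ Finset.univ.image ![a, b, c, d] ↔ ((σ⁻¹).1 i).val < 4 := fun i => by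
      rw [← hσ, mem_quad]
    have hfix : ∀ i : Fin n, 4 ≤ i.val → ν.1 i = i := by
      intro i hi
      show (σ.1)⁻¹ ((cyc3 a b c hab hbc).1 (σ.1 i)) = i
      have hne : ∀ x ∈ ({a, b, c} : Finset (Fin n)), σ.1 i ≠ x := fun x hx e => by
        have : x ∈ Finset.univ.image ![a, b, c, d] := by
          simp only [Finset.mem_insert, Finset.mem_singleton] at hx
          rcases hx with rfl | rfl | rfl
          exacts [Finset.mem_image.2 ⟨0, by simp, rfl⟩, Finset.mem_image.2 ⟨1, by simp, rfl⟩,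
            Finset.mem_image.2 ⟨2, by simp, rfl⟩]
        rw [← e, hin, show (σ⁻¹).1 (σ.1 i) = i from Equiv.symm_apply_apply _ _] at this
        omega
      rw [s4 _ (hne a (by simp)) (hne b (by simp)) (hne c (by simp))]
      exact Equiv.symm_apply_apply _ _
    have hlow : ∀ i : Fin 4, (ν.1 (four hn4 i)).val < 4 := fun i => by
      by_contra h
      have := ν.1.injective (hfix _ (not_lt.1 h))
      exact h (by rw [this]; exact i.isLt)
    let τ0 : Perm (Fin 4) := Equiv.ofBijective (fun i => ⟨(ν.1 (four hn4 i)).val, hlow i⟩)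
      (Finite.injective_iff_bijective.1 fun j l e =>
        four_inj hn4 (ν.1.injective (Fin.ext (congrArg (fun z : Fin 4 => z.val) e))))
    have hvia : Perm.viaEmbedding τ0 ⟨four hn4, four_inj hn4⟩ = ν.1 := by
      refine viaEmb_ext _ _ _ (fun j => Fin.ext rfl) fun i hi => ?_
      exact hfix i (not_lt.1 fun h => hi ⟨i.val, h⟩ (Fin.ext rfl))
    have hsign : Perm.sign τ0 = 1 := by
      rw [← sign_viaEmb ⟨four hn4, four_inj hn4⟩, hvia]
      exact ν.2
    have e : cyc3 a b c hab hbc = σ * alt4 hn4 ⟨τ0, hsign⟩ * σ⁻¹ := by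
      rw [show alt4 hn4 ⟨τ0, hsign⟩ = ν from Subtype.ext hvia, hν]; group
    rw [e, map_mul, map_mul, map_inv, G.agree]
    refine le_famJ (k := k) (fun i hi => ?_) (Subgroup.subset_closure ⟨σ, _, rfl, rfl⟩)
    rw [hσ] at hi
    obtain ⟨j, -, rfl⟩ := Finset.mem_image.1 hi
    fin_cases j
    exacts [ha, hb, hc, hd]

theorem five : FamOK π (quadFam (show 4 ≤ n by omega) ρ ψ) 5 ∧
    famJ (quadFam (show 4 ≤ n by omega) ρ ψ) 5 =
      Subgroup.closure ((ψ.range : Set Γ) ∪ {ρ (topCyc (k := 4) (show 4 < n by omega) le_rfl)}) := by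
  classical
  have hn4 : 4 ≤ n := by omega
  have D := G.fam_data
  set Fm := quadFam hn4 ρ ψ with hFm
  set rr := topCyc (k := 4) (show 4 < n by omega) le_rfl with hrr
  set M := Subgroup.closure ((ψ.range : Set Γ) ∪ {ρ rr}) with hM
  have hψM : ψ.range ≤ M := fun x hx => Subgroup.subset_closure (Or.inl hx)
  have hrM : ρ rr ∈ M := Subgroup.subset_closure (Or.inr rfl)
  have h45 : ψ.range ≤ famJ Fm 5 := G.famJ_four ▸ famJ_mono (by norm_num)
  have hr5 : ρ rr ∈ famJ Fm 5 := D.cyc 5 _ _ _ _ _ (by norm_num) (by simp [Fin.ext_iff]) (by simp) (by simp)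
    (by simp)
  have heq : famJ Fm 5 = M := by
    refine le_antisymm ((Subgroup.closure_le _).2 ?_)
      ((Subgroup.closure_le _).2 (Set.union_subset h45 (Set.singleton_subset_iff.2 hr5)))
    rintro x ⟨T, hT, hx⟩
    have hle : Fm T ≤ M := by
      refine (Subgroup.closure_le _).2 ?_
      rintro y ⟨σ, A, rfl, rfl⟩
      have hσ5 : ∀ i : Fin n, i.val < 4 → (σ.1 i).val < 5 := fun i hi => hT _ ((mem_quad hn4 σ _).2 (by
        rw [show (σ⁻¹).1 (σ.1 i) = i from Equiv.symm_apply_apply _ _]; exact hi))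
      by_cases h44 : ∀ i : Fin n, i.val < 4 → (σ.1 i).val < 4
      · exact hψM (G.stab σ h44 A)
      push Not at h44
      obtain ⟨i0, hi0, h0⟩ := h44
      have e0 : (σ.1 i0).val = 4 := by have := hσ5 i0 hi0; omega
      -- the missing point
      obtain ⟨j, hj⟩ : ∃ j : Fin 4, ∀ i : Fin n, i.val < 4 → σ.1 i ≠ four hn4 j := by
        by_contra hcon
        push Not at hcon
        choose g hg hg' using hcon
        have hginj : Function.Injective fun j => (⟨(g j).val, hg j⟩ : Fin 4) := fun j l e =>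
          four_inj hn4 (by rw [← hg', ← hg', show g j = g l from Fin.ext (congrArg (fun z : Fin 4 => z.val) e)])
        obtain ⟨j, hj⟩ := (Finite.injective_iff_surjective.1 hginj) ⟨i0.val, hi0⟩
        have : g j = i0 := Fin.ext (congrArg (fun z : Fin 4 => z.val) hj)
        have h := hg' j
        rw [this] at h
        rw [h] at e0
        simp [four] at e0
        omega
      obtain ⟨τ, hτ⟩ : ∃ τ : alternatingGroup (Fin 4), τ.1 3 = j := by
        obtain ⟨l, hl⟩ : ∃ l : Fin 4, l ≠ j := exists_ne j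
        obtain ⟨τ, h, -⟩ := exists_pair_map (n := 4) le_rfl (3 : Fin 4) 2 j l (by decide) hl.symm
        exact ⟨τ, h⟩
      set μ := alt4 hn4 τ * rr with hμ
      have hrr1 : rr.1 ⟨4, by omega⟩ = four hn4 3 :=
        (cyc3_apply (a := (⟨4, by omega⟩ : Fin n)) (b := ⟨4 - 1, by omega⟩) (c := ⟨4 - 2, by omega⟩)
          (by simp [Fin.ext_iff]) (by simp [Fin.ext_iff]) (by simp [Fin.ext_iff])).1
      have h4j : μ.1 ⟨4, by omega⟩ = four hn4 j := by
        show (alt4 hn4 τ).1 (rr.1 _) = _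
        rw [hrr1, alt4_apply, hτ]
      have hbig : ∀ i : Fin n, 5 ≤ i.val → μ.1 i = i := fun i hi => by
        show (alt4 hn4 τ).1 (rr.1 i) = _
        rw [show rr.1 i = i from (cyc3_apply (a := (⟨4, by omega⟩ : Fin n)) (b := ⟨4 - 1, by omega⟩)
          (c := ⟨4 - 2, by omega⟩) (by simp [Fin.ext_iff]) (by simp [Fin.ext_iff]) (by simp [Fin.ext_iff])).2.2.2 i
          (by simp [Fin.ext_iff]; omega) (by simp [Fin.ext_iff]; omega) (by simp [Fin.ext_iff]; omega)]
        exact alt4_fix hn4 τ i (by omega)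
      have hst : ∀ i : Fin n, i.val < 4 → ((μ⁻¹ * σ).1 i).val < 4 := by
        intro i hi
        show ((μ.1)⁻¹ (σ.1 i)).val < 4
        by_contra h
        have hμσ : μ.1 ((μ.1)⁻¹ (σ.1 i)) = σ.1 i := Equiv.apply_symm_apply _ _
        rcases Nat.lt_or_ge ((μ.1)⁻¹ (σ.1 i)).val 5 with h5 | h5
        · rw [show (μ.1)⁻¹ (σ.1 i) = ⟨4, by omega⟩ from Fin.ext (show _ = 4 by omega), h4j] at hμσ
          exact hj i hi hμσ.symm
        · rw [hbig _ h5] at hμσ
          have := hσ5 i hi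
          rw [← hμσ] at this
          omega
      have hμM : ρ μ ∈ M := by
        have h := mul_mem (hψM ⟨_, rfl⟩ : ψ (pA C τ) ∈ M) hrM
        rwa [← G.agree, ← map_mul] at h
      have := mul_mem (mul_mem hμM (hψM (G.stab _ hst A))) (inv_mem hμM)
      have key : ∀ a b c : Γ, a * b * c * (a * b)⁻¹ = a * (b * c * b⁻¹) * a⁻¹ := fun a b c => by group
      rw [show ρ σ = ρ μ * ρ (μ⁻¹ * σ) by rw [← map_mul, mul_inv_cancel_left], key]
      exact this
    exact hle hx
  refine ⟨D.next_of_loc le_rfl le_rfl (by omega) (Or.inr (Or.inl rfl))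
    ⟨G.famJ_four ▸ G.inj_range, G.famJ_four ▸ G.map_range⟩ ?_, heq⟩
  rw [G.famJ_four]
  rintro _ ⟨A, rfl⟩ hA
  rw [G.hπψ] at hA
  exact G.loc A hA

/-- the subgroup of all coordinates is the unitary group -/
theorem fam_ok
    (six : ∀ h : 5 < n, SixLinks π
      (Subgroup.closure ((ψ.range : Set Γ) ∪ {ρ (topCyc (k := 4) (show 4 < n by omega) le_rfl)}))
      (ρ (topCyc (k := 5) h (by norm_num)))) :
    FamOK π (quadFam (show 4 ≤ n by omega) ρ ψ) n := by
  have D := G.fam_data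
  obtain ⟨h5, h5eq⟩ := G.five
  set Fm := quadFam (show 4 ≤ n by omega) ρ ψ
  have h4map : (famJ Fm 4).map π = fixFrom 4 := by rw [G.famJ_four]; exact G.map_range
  rcases Nat.lt_or_ge 5 n with h6 | h6
  · have h6ok : FamOK π Fm 6 := D.next (by norm_num) (by norm_num) h6
      (Or.inr (Or.inr (Or.inr ⟨rfl, G.hfix, h5eq ▸ six h6⟩))) h5 h4map
    exact ((D.all (j := 6) (by norm_num) (by norm_num) h6 (Or.inr (Or.inl le_rfl)) h6ok h5.2) n h6 le_rfl).1
  · obtain rfl : n = 5 := by omega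
    exact h5

/-- the group is the unitary group -/
theorem bijective (hgen : Subgroup.closure (Set.range ρ ∪ Set.range ψ) = ⊤)
    (six : ∀ h : 5 < n, SixLinks π
      (Subgroup.closure ((ψ.range : Set Γ) ∪ {ρ (topCyc (k := 4) (show 4 < n by omega) le_rfl)}))
      (ρ (topCyc (k := 5) h (by norm_num)))) : Function.Bijective π := by
  have D := G.fam_data
  obtain ⟨hinj, hmap⟩ := G.fam_ok six
  set Fm := quadFam (show 4 ≤ n by omega) ρ ψ
  have hψ : Set.range ψ ⊆ (famJ Fm n : Set Γ) := by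
    rintro x hx
    have hx' : x ∈ ψ.range := hx
    rw [← G.famJ_four] at hx'
    exact famJ_mono (by omega) hx'
  have hρ : Set.range ρ ⊆ (famJ Fm n : Set Γ) := by
    rintro x ⟨σ, rfl⟩
    have : (⊤ : Subgroup (alternatingGroup (Fin n))) ≤ (famJ Fm n).comap ρ := by
      rw [← alternatingGroup.closure_isThreeCycles_eq_top, Subgroup.closure_le]
      intro g (hg : g.1.IsThreeCycle)
      obtain ⟨a, ha⟩ : g.1.support.Nonempty := Finset.card_pos.1 (by rw [hg.card_support]; norm_num)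
      have hnd := hg.nodup_iff_mem_support.2 ha
      simp only [List.nodup_cons, List.mem_cons, List.not_mem_nil, or_false, not_or, List.nodup_nil, and_true,
        not_false_eq_true] at hnd
      obtain ⟨⟨h1, h2⟩, h3⟩ := hnd
      rw [show g = cyc3 a (g.1 a) (g.1 (g.1 a)) h1 h3 from Subtype.ext (hg.eq_swap_mul_swap_iff_mem_support.2 ha)]
      exact D.cyc n _ _ _ h1 h3 (by omega) h2 a.isLt (Fin.isLt _) (Fin.isLt _)
    exact this trivial
  have htop : famJ Fm n = ⊤ := by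
    rw [eq_top_iff, ← hgen, Subgroup.closure_le]
    exact Set.union_subset hρ hψ
  refine ⟨fun x y h => hinj (by rw [htop]; trivial) (by rw [htop]; trivial) h, fun y => ?_⟩
  have : y ∈ (famJ Fm n).map π := by rw [hmap, fixFrom_top]; trivial
  obtain ⟨x, -, e⟩ := this
  exact ⟨x, e⟩

end GlueTwo

end CfsgLib.Lie.BoundedPres.SUGraph
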